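import Mathlib

/-!
# Free abelian sheaves on representables, for sites whose value universe may exceed the hom universe

`Z J V` is the sheafification of `W ↦ ℤ[ULift (W ⟶ V)]`, `e J V I : (Z J V ⟶ I) ≃ I(V)` natural in `V`,
`Zmap` preserves monomorphisms, and injective sheaves have surjective restriction along monomorphisms.
-/

open CategoryTheory CategoryTheory.Limits Opposite

namespace Groth.Agent.Lib.Helper34.SiteFree

universe w v u

variable {C : Type u} [Category.{v} C] (J : GrothendieckTopology C)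

/-- the presheaf `W ↦ ℤ[ULift (W ⟶ V)]` -/
noncomputable abbrev ZP (V : C) : Cᵒᵖ ⥤ AddCommGrpCat.{max w v} :=
  uliftYoneda.{w}.obj V ⋙ AddCommGrpCat.free

noncomputable abbrev ZPmap {V' V : C} (g : V' ⟶ V) : ZP.{w} V' ⟶ ZP.{w} V :=
  Functor.whiskerRight (uliftYoneda.{w}.map g) AddCommGrpCat.free

lemma mono_ZPmap {V' V : C} (g : V' ⟶ V) [Mono g] : Mono (ZPmap.{w} g) := by
  have h : ∀ W : Cᵒᵖ, Mono ((ZPmap.{w} g).app W) := by
    intro W
    have h1 : Mono ((uliftYoneda.{w}.map g).app W) := by
      rw [mono_iff_injective]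
      rintro ⟨a⟩ ⟨b⟩ hab
      have : a ≫ g = b ≫ g := by
        have := congrArg ULift.down hab
        simpa [uliftYoneda] using this
      exact congrArg ULift.up ((cancel_mono g).1 this)
    exact Functor.map_mono AddCommGrpCat.free.{max w v} ((uliftYoneda.{w}.map g).app W)
  exact NatTrans.mono_of_mono_app _

section

variable [HasWeakSheafify J AddCommGrpCat.{max w v}]

/-- the free abelian sheaf on the representable `h_V` -/
noncomputable abbrev Z (V : C) : Sheaf J AddCommGrpCat.{max w v} :=
  (presheafToSheaf J _).obj (ZP.{w} V)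

noncomputable abbrev Zmap {V' V : C} (g : V' ⟶ V) : Z.{w} J V' ⟶ Z.{w} J V :=
  (presheafToSheaf J _).map (ZPmap.{w} g)

/-- maps out of the free sheaf on `h_V` are sections over `V` -/
noncomputable def e (V : C) (I : Sheaf J AddCommGrpCat.{max w v}) :
    (Z.{w} J V ⟶ I) ≃ I.obj.obj (op V) :=
  ((sheafificationAdjunction J AddCommGrpCat.{max w v}).homEquiv (ZP.{w} V) I).trans
    (((AddCommGrpCat.adj.{max w v}.whiskerRight Cᵒᵖ).homEquiv (uliftYoneda.{w}.obj V) I.obj).trans
      uliftYonedaEquiv.{w})

lemma e_naturality {V' V : C} (g : V' ⟶ V) (I : Sheaf J AddCommGrpCat.{max w v})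
    (φ : Z.{w} J V ⟶ I) :
    e.{w} J V' I (Zmap.{w} J g ≫ φ) = I.obj.map g.op (e.{w} J V I φ) := by
  simp only [e, Equiv.trans_apply, Zmap]
  rw [Adjunction.homEquiv_naturality_left]
  have h2 := (AddCommGrpCat.adj.{max w v}.whiskerRight Cᵒᵖ).homEquiv_naturality_left
    (uliftYoneda.{w}.map g)
    ((sheafificationAdjunction J AddCommGrpCat.{max w v}).homEquiv (ZP.{w} V) I φ)
  erw [h2]
  exact (uliftYonedaEquiv_naturality.{w} _ g.op).symm

end

section

variable [HasSheafify J AddCommGrpCat.{max w v}]

lemma mono_Zmap {V' V : C} (g : V' ⟶ V) [Mono g] :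
    Mono (Zmap.{w} J g) := by
  haveI := mono_ZPmap.{w} g
  exact Functor.map_mono (presheafToSheaf J AddCommGrpCat.{max w v}) (ZPmap.{w} g)

/-- injective abelian sheaves have surjective restriction maps along monomorphisms of the site -/
lemma surjective_map_of_injective
    (I : Sheaf J AddCommGrpCat.{max w v}) [Injective I] {V' V : C} (g : V' ⟶ V) [Mono g] :
    Function.Surjective (I.obj.map g.op) := by
  intro s
  haveI := mono_Zmap.{w} J g
  refine ⟨e.{w} J V I (Injective.factorThru ((e.{w} J V' I).symm s) (Zmap.{w} J g)), ?_⟩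
  rw [← e_naturality, Injective.comp_factorThru]
  exact Equiv.apply_symm_apply _ _

end

end Groth.Agent.Lib.Helper34.SiteFree
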