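import Mathlib
import Groth.Prelude.Def_EtDual
import Groth.Agent.Lib.Helper47.EtRestr
import Groth.Agent.Lib.Helper34.SiteFree

/-!
# For an open immersion `j`, the unit `I ⟶ j_* j⁻¹ I` is an epimorphism for injective `I`
-/

set_option autoImplicit false
universe u
open CategoryTheory CategoryTheory.Limits Opposite AlgebraicGeometry

namespace Groth.Agent.Lib.Helper34.EtOpenUnit

open Groth.Agent.Lib.Helper47 Groth.Agent.Lib.Helper34

variable {U X : Scheme.{u}} (j : U ⟶ X) [IsOpenImmersion j]

lemma mono_counit (V : X.Etale) : Mono ((EtRestr.compBcAdj j).counit.app V) := by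
  have h0 : Mono (pullback.fst V.hom j) := inferInstance
  exact (Scheme.Etale.forget X ⋙ Over.forget X).mono_of_mono_map (by exact h0)

lemma unit_app_hom_app (I : EtCoh.Ab X) (V : X.Etale) :
    ((EtRestr.restrPushAdj j).unit.app I).hom.app (op V) =
      I.obj.map ((EtRestr.compBcAdj j).counit.app V).op := by
  simp [EtRestr.restrPushAdj]

/-- the unit `I ⟶ j_* (restriction of I)` is an epimorphism for `I` injective -/
theorem epi_unit_restrPush (I : EtCoh.Ab X) [Injective I] :
    Epi ((EtRestr.restrPushAdj j).unit.app I) := by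
  have : Sheaf.IsLocallySurjective ((EtRestr.restrPushAdj j).unit.app I) := by
    apply Presheaf.isLocallySurjective_of_surjective
    rintro ⟨V⟩
    rw [unit_app_hom_app]
    have := mono_counit j V
    exact SiteFree.surjective_map_of_injective.{u + 1} X.smallEtaleTopology I
      ((EtRestr.compBcAdj j).counit.app V)
  infer_instance

/-- the unit `I ⟶ j_* j⁻¹ I` is an epimorphism for `I` injective -/
theorem epi_unit_pullPush (I : EtCoh.Ab X) [Injective I] :
    Epi ((EtCoh.pullPushAdj j).unit.app I) := by
  have h := Adjunction.unit_leftAdjointUniq_hom_app (EtCoh.pullPushAdj j) (EtRestr.restrPushAdj j) I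
  have := epi_unit_restrPush j I
  have h2 : (EtCoh.pullPushAdj j).unit.app I = (EtRestr.restrPushAdj j).unit.app I ≫
      (EtCoh.push j).map ((Adjunction.leftAdjointUniq (EtCoh.pullPushAdj j)
        (EtRestr.restrPushAdj j)).inv.app I) := by
    rw [← h, Category.assoc, ← Functor.map_comp, Iso.hom_inv_id_app]
    erw [CategoryTheory.Functor.map_id, Category.comp_id]
  rw [h2]
  infer_instance

end Groth.Agent.Lib.Helper34.EtOpenUnit
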