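import Mathlib
import Groth.Prelude.Def_EtDual
import Groth.Agent.Lib.Helper47.EtRestr

/-!
# Vanishing of the restriction of an etale sheaf to an open subscheme, in terms of sections
-/

set_option autoImplicit false
universe u
open CategoryTheory CategoryTheory.Limits Opposite AlgebraicGeometry

namespace Groth.Agent.Lib.Helper34.EtOpenZero

open Groth.Agent.Lib.Helper47

variable {U X : Scheme.{u}} (j : U ⟶ X) [IsOpenImmersion j]

lemma isZero_sheaf_iff {C : Type*} [Category C] {J : GrothendieckTopology C}
    (F : Sheaf J AddCommGrpCat.{u + 1}) : IsZero F ↔ ∀ V : C, IsZero (F.obj.obj (op V)) := by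
  constructor
  · intro h V
    have h1 : IsZero ((sheafToPresheaf J AddCommGrpCat.{u + 1}).obj F) :=
      (sheafToPresheaf J AddCommGrpCat.{u + 1}).map_isZero h
    exact (Functor.isZero_iff _).1 h1 (op V)
  · intro h
    have h1 : IsZero ((sheafToPresheaf J AddCommGrpCat.{u + 1}).obj F) :=
      (Functor.isZero_iff _).2 (fun V => h V.unop)
    exact IsZero.of_full_of_faithful_of_isZero (sheafToPresheaf J AddCommGrpCat.{u + 1}) F h1

theorem isZero_pull_iff (F : EtCoh.Ab X) :
    IsZero ((EtCoh.pull j).obj F) ↔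
      ∀ U' : X.Etale, Set.range U'.hom.base ⊆ Set.range j.base → IsZero (F.obj.obj (op U')) := by
  have e : (EtCoh.pull j).obj F ≅ (EtShriek.restrAlong j).obj F := (EtRestr.pullIsoRestr j).app F
  rw [e.isZero_iff, isZero_sheaf_iff]
  constructor
  · intro h U' hU'
    haveI : Etale U'.hom := U'.prop
    let l : U'.left ⟶ U := IsOpenImmersion.lift j U'.hom hU'
    have hl : l ≫ j = U'.hom := IsOpenImmersion.lift_fac _ _ _
    have hle : Etale l := by
      have h1 : EtCoh.etaleMP (l ≫ j) := by rw [hl]; exact U'.prop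
      exact EtCoh.etaleMP.of_postcomp (W' := EtCoh.etaleMP) l j inferInstance h1
    let V : U.Etale := MorphismProperty.Over.mk ⊤ l hle
    let e' : (EtShriek.compEtale j).obj V ≅ U' :=
      MorphismProperty.Over.isoMk (Iso.refl _) ((Category.id_comp _).trans hl.symm)
    exact IsZero.of_iso (h V) (F.obj.mapIso e'.op)
  · intro h V
    apply h ((EtShriek.compEtale j).obj V)
    rintro _ ⟨x, rfl⟩
    exact ⟨V.hom.base x, rfl⟩

end Groth.Agent.Lib.Helper34.EtOpenZero
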