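import Groth.Agent.Lib.Cohomology.helper5_RightDerivedShift
import Groth.Agent.Lib.Cohomology.helper5_ExtShift

/-!
# `Ext^n(P, -)` as the right derived functors of a functor representing `Hom(P, -)`

Let `C` be abelian with enough injectives, `P : C`, and `G : C ⥤ Ab` an additive left exact functor
with a natural additive bijection `(P ⟶ F) ≃+ G F`.  Then `Ext^n(P, F) ≅ (R^n G) F`.
-/

set_option autoImplicit false
universe w v u
open CategoryTheory CategoryTheory.Limits

namespace Groth.Agent.Lib.Helper34.ExtRD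

open Abelian Groth.Agent.Lib.Cohomology.ExtShift Groth.Agent.Lib.Cohomology.RDShift

variable {C : Type u} [Category.{v} C] [Abelian C] [HasExt.{w} C] [EnoughInjectives C]
variable (P : C) (G : C ⥤ AddCommGrpCat.{w}) [G.Additive] [PreservesFiniteLimits G]
variable (e : ∀ F : C, (P ⟶ F) ≃+ G.obj F)
variable (he : ∀ {F F' : C} (φ : P ⟶ F) (g : F ⟶ F'), e F' (φ ≫ g) = (G.map g).hom (e F φ))

include he in
theorem nonempty_ext_one_iso (F : C) :
    Nonempty (AddCommGrpCat.of (Ext.{w} P F 1) ≅ (G.rightDerived 1).obj F) := by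
  have hS := injSES_shortExact F
  obtain ⟨π, w, hπ, hex⟩ := exists_rightDerived_one_cokernel hS G
  let a := homδ hS P
  let b : (P ⟶ (injSES F).X₃) →+ ((G.rightDerived 1).obj F : AddCommGrpCat.{w}) :=
    π.hom.comp (e (injSES F).X₃).toAddMonoidHom
  have ha : Function.Surjective a := homδ_surjective hS P (fun x => Ext.eq_zero_of_injective x)
  have hb : Function.Surjective b :=
    ((AddCommGrpCat.epi_iff_surjective π).1 hπ).comp (e (injSES F).X₃).surjective
  have hk : a.ker = b.ker := by
    ext φ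
    rw [AddMonoidHom.mem_ker, AddMonoidHom.mem_ker]
    change homδ hS P φ = 0 ↔ π.hom (e _ φ) = 0
    rw [homδ_eq_zero_iff]
    constructor
    · rintro ⟨ψ, rfl⟩
      rw [he]
      exact ConcreteCategory.congr_hom w (e _ ψ)
    · intro h0
      obtain ⟨t, ht⟩ := (ShortComplex.ab_exact_iff _).1 hex (e _ φ) h0
      obtain ⟨ψ, rfl⟩ := (e (injSES F).X₂).surjective t
      refine ⟨ψ, (e (injSES F).X₃).injective ?_⟩
      rw [he]
      exact ht
  exact ⟨((QuotientAddGroup.quotientKerEquivOfSurjective a ha).symm.trans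
    ((QuotientAddGroup.quotientAddEquivOfEq hk).trans
      (QuotientAddGroup.quotientKerEquivOfSurjective b hb))).toAddCommGrpIso⟩

include he in
theorem nonempty_ext_succ_iso (n : ℕ) : ∀ F : C,
    Nonempty (AddCommGrpCat.of (Ext.{w} P F (n + 1)) ≅ (G.rightDerived (n + 1)).obj F) := by
  induction n with
  | zero => exact fun F => nonempty_ext_one_iso P G e he F
  | succ n ih =>
    intro F
    have hS := injSES_shortExact F
    obtain ⟨e1⟩ := rightDerived_shift hS G n
    obtain ⟨e2⟩ := ih (injSES F).X₃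
    let e3 : Ext.{w} P (injSES F).X₃ (n + 1) ≃+ Ext.{w} P F (n + 2) :=
      AddEquiv.ofBijective (extδ hS P (n + 1))
        ⟨extδ_injective hS P n (fun x => Ext.eq_zero_of_injective x),
          extδ_surjective hS P (n + 1) (fun x => Ext.eq_zero_of_injective x)⟩
    exact ⟨e3.symm.toAddCommGrpIso ≪≫ e2 ≪≫ e1.symm⟩

include he in
/-- `Ext^n(P, F) ≅ (R^n G) F` when `G` represents `Hom(P, -)`. -/
theorem nonempty_ext_iso_rightDerived (n : ℕ) (F : C) :
    Nonempty (AddCommGrpCat.of (Ext.{w} P F n) ≅ (G.rightDerived n).obj F) := by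
  cases n with
  | zero =>
    exact ⟨(Ext.addEquiv₀.trans (e F)).toAddCommGrpIso ≪≫ (G.rightDerivedZeroIsoSelf.app F).symm⟩
  | succ n => exact nonempty_ext_succ_iso P G e he n F

end Groth.Agent.Lib.Helper34.ExtRD
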