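import Mathlib
import Groth.Prelude.Def_EtDual
import Groth.Agent.Lib.Helper34.EtOpenUnit
import Groth.Agent.Lib.Cohomology.Helper3_RDerFunSES
import Groth.Agent.Lib.Cohomology.Helper3_RDerComp
import Groth.Agent.Lib.Cohomology.Helper3_LocCohSh

/-!
# The long exact sequence of local cohomology sheaves for an open immersion (small etale site)
-/

set_option autoImplicit false
universe u
open CategoryTheory CategoryTheory.Limits Opposite AlgebraicGeometry

namespace Groth.Agent.Lib.Helper34.EtLocCohLES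

open Groth.Agent.Lib.Helper47 Groth.Agent.Lib.Helper34
open Groth.Agent.Lib.Cohomology.RDerFunSES Groth.Agent.Lib.Cohomology

variable {U X : Scheme.{u}} (j : U ⟶ X) [IsOpenImmersion j]

instance pull_additive : (EtCoh.pull j).Additive := (EtCoh.pullPushAdj j).left_adjoint_additive

instance pull_preservesFiniteLimits : PreservesFiniteLimits (EtCoh.pull j) := by
  have : PreservesFiniteLimits (EtShriek.restrAlong j) := by
    have : PreservesLimitsOfSize.{0, 0} (EtShriek.restrAlong j) :=
      (EtShriek.extZeroAdj j).rightAdjoint_preservesLimits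
    infer_instance
  exact preservesFiniteLimits_of_natIso (EtRestr.pullIsoRestr j).symm

instance pull_preservesFiniteColimits : PreservesFiniteColimits (EtCoh.pull j) := by
  have : PreservesColimitsOfSize.{0, 0} (EtCoh.pull j) :=
    (EtCoh.pullPushAdj j).leftAdjoint_preservesColimits
  infer_instance

instance push_preservesFiniteLimits : PreservesFiniteLimits (EtCoh.push j) := by
  have : PreservesLimitsOfSize.{0, 0} (EtCoh.push j) :=
    (EtCoh.pullPushAdj j).rightAdjoint_preservesLimits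
  infer_instance

/-- `0 ⟶ Γ_Z ⟶ 𝟭 ⟶ j_* j⁻¹`, exact on injectives -/
noncomputable def T : FunSES (EtCoh.Ab X) (EtCoh.Ab X) where
  F₁ := EtDual.secSupp j
  F₂ := 𝟭 _
  F₃ := EtCoh.pull j ⋙ EtCoh.push j
  α := { app := fun F => kernel.ι (EtDual.unitApp j F)
         naturality := fun F G φ => by
          dsimp [EtDual.secSupp]
          simp }
  β := (EtCoh.pullPushAdj j).unit
  zero F := kernel.condition _
  exact I hI := by
    have : Epi ((EtCoh.pullPushAdj j).unit.app I) := EtOpenUnit.epi_unit_pullPush j I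
    refine ShortComplex.ShortExact.mk' ?_ (by dsimp; infer_instance) (by dsimp; infer_instance)
    exact ShortComplex.exact_of_f_is_kernel _ (kernelIsKernel _)

theorem isIso_δ_app (F : EtCoh.Ab X) (i : ℕ) (hi : 1 ≤ i) : IsIso (((T j).δ i).app F) := by
  obtain ⟨k, rfl⟩ : ∃ k, i = k + 1 := ⟨i - 1, by omega⟩
  have h0 : IsZero (((T j).F₂.rightDerived (k + 1)).obj F) :=
    LocCohSh.isZero_rightDerived_succ_of_exact (𝟭 (EtCoh.Ab X)) F k
  have h1 : IsZero (((T j).F₂.rightDerived (k + 1 + 1)).obj F) :=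
    LocCohSh.isZero_rightDerived_succ_of_exact (𝟭 (EtCoh.Ab X)) F (k + 1)
  have hm : Mono (((T j).δ (k + 1)).app F) :=
    ((T j).exact₃ F (k + 1)).mono_g (h0.eq_of_src _ _)
  have he : Epi (((T j).δ (k + 1)).app F) :=
    ((T j).exact₁ F (k + 1)).epi_f (h1.eq_of_tgt _ _)
  exact isIso_of_mono_of_epi _

theorem isZero_Rpush_pull_injective (n : ℕ) (I : EtCoh.Ab X) (hI : Injective I) :
    IsZero (((EtCoh.push j).rightDerived (n + 1)).obj ((EtCoh.pull j).obj I)) := by
  have := EtRestr.injective_pull j I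
  exact Functor.isZero_rightDerived_obj_injective_succ _ _ _

/-- `ℋ^{i+1}_Z ≅ R^i j_* ∘ j⁻¹` for `i ≥ 1` -/
theorem nonempty_locCoh_succ_iso (i : ℕ) (hi : 1 ≤ i) :
    Nonempty (EtDual.locCoh j (i + 1) ≅ EtCoh.pull j ⋙ EtCoh.Rpush j i) := by
  have : ∀ F, IsIso (((T j).δ i).app F) := fun F => isIso_δ_app j F i hi
  have : IsIso ((T j).δ i) := NatIso.isIso_of_isIso_app _
  obtain ⟨e⟩ := RDerComp.nonempty_rightDerived_comp_iso (EtCoh.pull j)
    (EtCoh.push j) (isZero_Rpush_pull_injective j) i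
  exact ⟨(asIso ((T j).δ i)).symm ≪≫ e⟩

/-- the map `j_* j⁻¹ ⟶ ℋ^1_Z` -/
noncomputable def π' : EtCoh.pull j ⋙ EtCoh.push j ⟶ EtDual.locCoh j 1 :=
  (T j).F₃.toRightDerivedZero ≫ (T j).δ 0

lemma unit_π'_app (F : EtCoh.Ab X) : (EtCoh.pullPushAdj j).unit.app F ≫ (π' j).app F = 0 := by
  have h1 := toRightDerivedZero_naturality (T j).β F
  have h2 := (T j).β_δ_app F 0
  change (T j).β.app F ≫ (T j).F₃.toRightDerivedZero.app F ≫ ((T j).δ 0).app F = 0
  rw [← Category.assoc, ← h1, Category.assoc, h2, comp_zero]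

instance (F : EtCoh.Ab X) : Epi ((π' j).app F) := by
  have h1 : IsZero (((T j).F₂.rightDerived (0 + 1)).obj F) :=
    LocCohSh.isZero_rightDerived_succ_of_exact (𝟭 (EtCoh.Ab X)) F 0
  have he : Epi (((T j).δ 0).app F) :=
    ((T j).exact₁ F 0).epi_f (h1.eq_of_tgt _ _)
  have : PreservesFiniteLimits (T j).F₃ := by
    change PreservesFiniteLimits (EtCoh.pull j ⋙ EtCoh.push j)
    infer_instance
  change Epi ((T j).F₃.toRightDerivedZero.app F ≫ ((T j).δ 0).app F)
  infer_instance

lemma exact_unit_π' (F : EtCoh.Ab X) :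
    (ShortComplex.mk ((EtCoh.pullPushAdj j).unit.app F) ((π' j).app F) (unit_π'_app j F)).Exact := by
  have : PreservesFiniteLimits (T j).F₃ := by
    change PreservesFiniteLimits (EtCoh.pull j ⋙ EtCoh.push j)
    infer_instance
  have : PreservesFiniteLimits (T j).F₂ := by
    change PreservesFiniteLimits (𝟭 (EtCoh.Ab X))
    infer_instance
  have h := (T j).exact₃ F 0
  refine ShortComplex.exact_of_iso ?_ h
  refine ShortComplex.isoMk (asIso ((T j).F₂.toRightDerivedZero.app F)).symm
    (asIso ((T j).F₃.toRightDerivedZero.app F)).symm (Iso.refl _) ?_ ?_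
  · have hn := toRightDerivedZero_naturality (T j).β F
    have key : inv ((T j).F₂.toRightDerivedZero.app F) ≫ (T j).β.app F =
        (NatTrans.rightDerived (T j).β 0).app F ≫ inv ((T j).F₃.toRightDerivedZero.app F) := by
      rw [IsIso.inv_comp_eq, ← Category.assoc, IsIso.eq_comp_inv]
      exact hn.symm
    exact key
  · change inv ((T j).F₃.toRightDerivedZero.app F) ≫
      ((T j).F₃.toRightDerivedZero.app F ≫ ((T j).δ 0).app F) = ((T j).δ 0).app F ≫ 𝟙 _
    rw [IsIso.inv_hom_id_assoc, Category.comp_id]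

/-- `ℋ^1_Z F` is the cokernel of the unit `F ⟶ j_* j⁻¹ F` -/
theorem nonempty_coker_iso (F : EtCoh.Ab X) :
    Nonempty (cokernel (EtDual.unitApp j F) ≅ (EtDual.locCoh j 1).obj F) :=
  ⟨IsColimit.coconePointUniqueUpToIso (colimit.isColimit _) (exact_unit_π' j F).gIsCokernel⟩

end Groth.Agent.Lib.Helper34.EtLocCohLES
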