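import Groth.Prelude.Def_Found
import Mathlib.RingTheory.Spectrum.Prime.RingHom
import Mathlib.RingTheory.Localization.Ideal
import Mathlib.Order.Interval.Set.OrdConnected

/-!
# Catenary posets (helper34)

`CAlg.IsCatenary R` only depends on the poset `PrimeSpectrum R`.  We define the property for a
general partial order and prove that it is inherited along order embeddings with order-connected
range.  Consequences: quotients and localizations of catenary rings are catenary.
-/

set_option autoImplicit false
universe u v

namespace Groth.Agent.Lib.Helper34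

/-- The catenary property for a partial order: bounded chains between comparable elements, and all
saturated chains with the same endpoints have equal length. -/
def PosetCatenary (P : Type u) [PartialOrder P] : Prop :=
  (∀ p q : P, p ≤ q → ∃ n : ℕ, ∀ s : LTSeries P, s.head = p → s.last = q → s.length ≤ n) ∧
  ∀ s t : LTSeries P, s.head = t.head → s.last = t.last →
    (∀ i : Fin s.length, s (Fin.castSucc i) ⋖ s (Fin.succ i)) →
    (∀ i : Fin t.length, t (Fin.castSucc i) ⋖ t (Fin.succ i)) →
    s.length = t.length

theorem isCatenary_iff (R : Type u) [CommRing R] :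
    CAlg.IsCatenary R ↔ PosetCatenary (PrimeSpectrum R) := Iff.rfl

/-- Covering relations are preserved by order embeddings with order-connected range. -/
theorem covBy_map_of_ordConnected {P : Type u} {Q : Type v} [PartialOrder P] [PartialOrder Q]
    (e : P ↪o Q) (he : (Set.range e).OrdConnected) {a b : P} (h : a ⋖ b) : e a ⋖ e b := by
  refine ⟨e.strictMono h.1, fun c hac hcb => ?_⟩
  obtain ⟨c', rfl⟩ : c ∈ Set.range e :=
    he.out ⟨a, rfl⟩ ⟨b, rfl⟩ ⟨hac.le, hcb.le⟩
  exact h.2 (e.lt_iff_lt.1 hac) (e.lt_iff_lt.1 hcb)

/-- The catenary property is inherited along order embeddings with order-connected range. -/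
theorem PosetCatenary.of_orderEmbedding {P : Type u} {Q : Type v} [PartialOrder P] [PartialOrder Q]
    (e : P ↪o Q) (he : (Set.range e).OrdConnected) (hQ : PosetCatenary Q) : PosetCatenary P := by
  refine ⟨fun p q hpq => ?_, fun s t hh hl hs ht => ?_⟩
  · obtain ⟨n, hn⟩ := hQ.1 (e p) (e q) (e.monotone hpq)
    refine ⟨n, fun s hsp hsq => ?_⟩
    have := hn (s.map e e.strictMono) (by rw [LTSeries.head_map, hsp])
      (by rw [LTSeries.last_map, hsq])
    simpa using this
  · have := hQ.2 (s.map e e.strictMono) (t.map e e.strictMono)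
      (by rw [LTSeries.head_map, LTSeries.head_map, hh])
      (by rw [LTSeries.last_map, LTSeries.last_map, hl])
      (fun i => covBy_map_of_ordConnected e he (hs i))
      (fun i => covBy_map_of_ordConnected e he (ht i))
    simpa using this

/-- The catenary property is invariant under order isomorphisms. -/
theorem PosetCatenary.of_orderIso {P : Type u} {Q : Type v} [PartialOrder P] [PartialOrder Q]
    (e : P ≃o Q) (hQ : PosetCatenary Q) : PosetCatenary P :=
  hQ.of_orderEmbedding e.toOrderEmbedding (by
    have : Set.range e.toOrderEmbedding = Set.univ := e.surjective.range_eq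
    rw [this]; exact Set.ordConnected_univ)

/-- The catenary property passes to order-connected subsets. -/
theorem PosetCatenary.subtype {Q : Type v} [PartialOrder Q] (T : Set Q) (hT : T.OrdConnected)
    (hQ : PosetCatenary Q) : PosetCatenary T :=
  hQ.of_orderEmbedding (OrderEmbedding.subtype _) (by
    have : Set.range (OrderEmbedding.subtype (· ∈ T)) = T := Subtype.range_coe
    rw [this]; exact hT)

/-- A quotient of a catenary ring is catenary. -/
theorem isCatenary_quotient (A : Type u) [CommRing A] (I : Ideal A)
    (hA : CAlg.IsCatenary A) : CAlg.IsCatenary (A ⧸ I) := by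
  rw [isCatenary_iff] at hA ⊢
  refine PosetCatenary.of_orderIso (Ideal.primeSpectrumQuotientOrderIsoZeroLocus I) ?_
  refine hA.subtype _ ?_
  have : IsUpperSet (PrimeSpectrum.zeroLocus (R := A) I) := by
    intro p q hpq hp
    rw [PrimeSpectrum.mem_zeroLocus] at hp ⊢
    exact hp.trans hpq
  exact this.ordConnected

/-- A localization of a catenary ring is catenary. -/
theorem isCatenary_of_isLocalization (A : Type u) [CommRing A] (S : Submonoid A)
    (B : Type v) [CommRing B] [Algebra A B] [IsLocalization S B]
    (hA : CAlg.IsCatenary A) : PosetCatenary (PrimeSpectrum B) := by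
  rw [isCatenary_iff] at hA
  refine PosetCatenary.of_orderIso (IsLocalization.primeSpectrumOrderIso S B) ?_
  refine hA.subtype {p : PrimeSpectrum A | Disjoint (S : Set A) p.asIdeal} ?_
  have : IsLowerSet {p : PrimeSpectrum A | Disjoint (S : Set A) p.asIdeal} := by
    intro p q hqp hp
    exact hp.mono_right hqp
  exact this.ordConnected

/-- Lift a strict chain whose head lies in an upper set to a chain in that upper set. -/
def liftSeries {Q : Type v} [PartialOrder Q] (T : Set Q) (hT : IsUpperSet T) (s : LTSeries Q)
    (h : s.head ∈ T) : LTSeries T where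
  length := s.length
  toFun i := ⟨s i, hT (LTSeries.head_le s i) h⟩
  step i := s.step i

@[simp] theorem liftSeries_length {Q : Type v} [PartialOrder Q] (T : Set Q) (hT : IsUpperSet T)
    (s : LTSeries Q) (h : s.head ∈ T) : (liftSeries T hT s h).length = s.length := rfl

theorem liftSeries_head {Q : Type v} [PartialOrder Q] (T : Set Q) (hT : IsUpperSet T)
    (s : LTSeries Q) (h : s.head ∈ T) : ((liftSeries T hT s h).head : Q) = s.head := rfl

theorem liftSeries_last {Q : Type v} [PartialOrder Q] (T : Set Q) (hT : IsUpperSet T)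
    (s : LTSeries Q) (h : s.head ∈ T) : ((liftSeries T hT s h).last : Q) = s.last := rfl

theorem covBy_subtype_of_covBy {Q : Type v} [PartialOrder Q] (T : Set Q) {a b : T}
    (h : (a : Q) ⋖ (b : Q)) : a ⋖ b :=
  ⟨h.1, fun c hac hcb => h.2 (show (a : Q) < c from hac) (show (c : Q) < b from hcb)⟩

/-- A partial order is catenary as soon as every element lies in a catenary upper set. -/
theorem PosetCatenary.of_upperSets {Q : Type v} [PartialOrder Q]
    (h : ∀ a : Q, ∃ T : Set Q, IsUpperSet T ∧ a ∈ T ∧ PosetCatenary T) : PosetCatenary Q := by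
  refine ⟨fun p q hpq => ?_, fun s t hh hl hs ht => ?_⟩
  · obtain ⟨T, hT, hpT, hcat⟩ := h p
    obtain ⟨n, hn⟩ := hcat.1 ⟨p, hpT⟩ ⟨q, hT hpq hpT⟩ hpq
    refine ⟨n, fun s hsp hsq => ?_⟩
    have := hn (liftSeries T hT s (hsp ▸ hpT)) (Subtype.ext (by rw [liftSeries_head, hsp]))
      (Subtype.ext (by rw [liftSeries_last, hsq]))
    simpa using this
  · obtain ⟨T, hT, hpT, hcat⟩ := h s.head
    have := hcat.2 (liftSeries T hT s hpT) (liftSeries T hT t (hh ▸ hpT))
      (Subtype.ext (by rw [liftSeries_head, liftSeries_head, hh]))
      (Subtype.ext (by rw [liftSeries_last, liftSeries_last, hl]))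
      (fun i => covBy_subtype_of_covBy T (hs i)) (fun i => covBy_subtype_of_covBy T (ht i))
    simpa using this

/-- A ring is catenary iff its quotient by every minimal prime is catenary. -/
theorem isCatenary_iff_forall_quotient_minimalPrimes (R : Type u) [CommRing R] :
    CAlg.IsCatenary R ↔ ∀ p ∈ minimalPrimes R, CAlg.IsCatenary (R ⧸ p) := by
  refine ⟨fun h p _ => isCatenary_quotient R p h, fun h => ?_⟩
  rw [isCatenary_iff]
  refine PosetCatenary.of_upperSets (fun a => ?_)
  obtain ⟨p, hp, hpa⟩ := Ideal.exists_minimalPrimes_le (I := ⊥) (J := a.asIdeal) bot_le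
  refine ⟨PrimeSpectrum.zeroLocus (R := R) p, ?_, ?_, ?_⟩
  · intro x y hxy hx
    rw [PrimeSpectrum.mem_zeroLocus] at hx ⊢
    exact hx.trans hxy
  · rw [PrimeSpectrum.mem_zeroLocus]; exact hpa
  · have := h p hp
    rw [isCatenary_iff] at this
    exact this.of_orderIso (Ideal.primeSpectrumQuotientOrderIsoZeroLocus p).symm

/-- Lift a strict chain whose last element lies in a lower set to a chain in that lower set. -/
def liftSeriesLower {Q : Type v} [PartialOrder Q] (T : Set Q) (hT : IsLowerSet T) (s : LTSeries Q)
    (h : s.last ∈ T) : LTSeries T where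
  length := s.length
  toFun i := ⟨s i, hT (s.monotone (Fin.le_last i)) h⟩
  step i := s.step i

@[simp] theorem liftSeriesLower_length {Q : Type v} [PartialOrder Q] (T : Set Q)
    (hT : IsLowerSet T) (s : LTSeries Q) (h : s.last ∈ T) :
    (liftSeriesLower T hT s h).length = s.length := rfl

theorem liftSeriesLower_head {Q : Type v} [PartialOrder Q] (T : Set Q) (hT : IsLowerSet T)
    (s : LTSeries Q) (h : s.last ∈ T) : ((liftSeriesLower T hT s h).head : Q) = s.head := rfl

theorem liftSeriesLower_last {Q : Type v} [PartialOrder Q] (T : Set Q) (hT : IsLowerSet T)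
    (s : LTSeries Q) (h : s.last ∈ T) : ((liftSeriesLower T hT s h).last : Q) = s.last := rfl

/-- A partial order is catenary as soon as every element lies in a catenary lower set. -/
theorem PosetCatenary.of_lowerSets {Q : Type v} [PartialOrder Q]
    (h : ∀ a : Q, ∃ T : Set Q, IsLowerSet T ∧ a ∈ T ∧ PosetCatenary T) : PosetCatenary Q := by
  refine ⟨fun p q hpq => ?_, fun s t hh hl hs ht => ?_⟩
  · obtain ⟨T, hT, hqT, hcat⟩ := h q
    obtain ⟨n, hn⟩ := hcat.1 ⟨p, hT hpq hqT⟩ ⟨q, hqT⟩ hpq
    refine ⟨n, fun s hsp hsq => ?_⟩
    have := hn (liftSeriesLower T hT s (hsq ▸ hqT))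
      (Subtype.ext (by rw [liftSeriesLower_head, hsp]))
      (Subtype.ext (by rw [liftSeriesLower_last, hsq]))
    simpa using this
  · obtain ⟨T, hT, hqT, hcat⟩ := h s.last
    have := hcat.2 (liftSeriesLower T hT s hqT) (liftSeriesLower T hT t (hl ▸ hqT))
      (Subtype.ext (by rw [liftSeriesLower_head, liftSeriesLower_head, hh]))
      (Subtype.ext (by rw [liftSeriesLower_last, liftSeriesLower_last, hl]))
      (fun i => covBy_subtype_of_covBy T (hs i)) (fun i => covBy_subtype_of_covBy T (ht i))
    simpa using this

/-- A ring is catenary iff its localization at every maximal ideal is. -/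
theorem isCatenary_iff_localization_maximal (R : Type u) [CommRing R] :
    CAlg.IsCatenary R ↔
      ∀ (m : Ideal R) [m.IsMaximal], CAlg.IsCatenary (Localization.AtPrime m) := by
  refine ⟨fun h m _ => isCatenary_of_isLocalization R m.primeCompl _ h, fun h => ?_⟩
  rw [isCatenary_iff]
  refine PosetCatenary.of_lowerSets (fun a => ?_)
  obtain ⟨m, hm, ham⟩ := Ideal.exists_le_maximal a.asIdeal a.2.ne_top
  refine ⟨{p : PrimeSpectrum R | Disjoint (m.primeCompl : Set R) p.asIdeal}, ?_, ?_, ?_⟩
  · intro p q hqp hp
    exact hp.mono_right hqp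
  · change Disjoint (m.primeCompl : Set R) a.asIdeal
    rw [Set.disjoint_left]
    intro x hx hxa
    exact hx (ham hxa)
  · have := h m
    rw [isCatenary_iff] at this
    exact this.of_orderIso
      (IsLocalization.primeSpectrumOrderIso m.primeCompl (Localization.AtPrime m)).symm

end Groth.Agent.Lib.Helper34
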