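import Groth.Agent.Lib.Helper34.SSGroth

/-!
# The Grothendieck spectral sequence of a composition of functors, classical form
-/

set_option autoImplicit false

namespace Groth.Agent.Lib.Helper34.SS

open CategoryTheory Limits ComposableArrows
open scoped ZeroObject

universe v u

/-- Enough injectives from injective resolutions. -/
lemma enoughInjectives_of_hasInjectiveResolutions (C : Type u) [Category.{v} C] [Abelian C]
    [HasInjectiveResolutions C] : EnoughInjectives C :=
  ⟨fun Z => by
    have hm : Mono ((injectiveResolution Z).ι.f 0) := inferInstance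
    exact ⟨⟨(injectiveResolution Z).cocomplex.X 0, inferInstance,
      (injectiveResolution Z).ι.f 0, hm⟩⟩⟩

section

variable {A B : Type u} [Category.{v} A] [Category.{v} B] [Abelian A] [Abelian B]
  [HasInjectiveResolutions A] (G : A ⥤ B) [G.Additive]

/-- `Hᵏ(G(I)) ≅ RᵏG(M)` for the `ℤ`-indexed version of an injective resolution. -/
noncomputable def homologyCochainComplexIso {M : A} (I : InjectiveResolution M) (k : ℕ) :
    ((G.mapHomologicalComplex (ComplexShape.up ℤ)).obj I.cochainComplex).homology k ≅
      (G.rightDerived k).obj M :=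
  (HomologicalComplex.homologyFunctor B (ComplexShape.up ℤ) k).mapIso
      (Groth.Agent.Lib.Helper6.ExtendFunctor.mapExtendIso ComplexShape.embeddingUpNat G
        I.cocomplex) ≪≫
    HomologicalComplex.extendHomologyIso _ ComplexShape.embeddingUpNat (by simp) ≪≫
    (I.isoRightDerivedObj G k).symm

omit [HasInjectiveResolutions A] in
lemma isZero_homology_cochainComplex_of_neg {M : A} (I : InjectiveResolution M) (n : ℤ)
    (hn : n < 0) :
    IsZero (((G.mapHomologicalComplex (ComplexShape.up ℤ)).obj I.cochainComplex).homology n) := by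
  let FL : CochainComplex B ℤ := (G.mapHomologicalComplex (ComplexShape.up ℤ)).obj I.cochainComplex
  have : FL.IsStrictlyGE 0 := by dsimp only [FL]; infer_instance
  show IsZero (FL.homology n)
  exact ShortComplex.isZero_homology_of_isZero_X₂ _ (FL.isZero_of_isStrictlyGE 0 n hn)

end

lemma isZero_rightDerived_obj_of_isZero {A B : Type u} [Category.{v} A] [Category.{v} B]
    [Abelian A] [Abelian B] [HasInjectiveResolutions A] (G : A ⥤ B) [G.Additive]
    [PreservesFiniteLimits G] (k : ℕ) {Z : A} (hZ : IsZero Z) :
    IsZero ((G.rightDerived k).obj Z) := by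
  have : Injective Z := hZ.injective
  cases k with
  | zero => exact IsZero.of_iso (G.map_isZero hZ) (G.rightDerivedZeroIsoSelf.app Z)
  | succ j => exact G.isZero_rightDerived_obj_injective_succ j Z

/-- **Grothendieck spectral sequence** of a composition of functors (existence form, stated
with the prelude structure `SpSeq.Abutment`). -/
theorem grothendieck_spectralSequence {C C' C'' : Type u} [Category.{v} C] [Category.{v} C']
    [Category.{v} C''] [Abelian C] [Abelian C'] [Abelian C''] [HasInjectiveResolutions C]
    [HasInjectiveResolutions C'] (T : C ⥤ C') [T.Additive] (S : C' ⥤ C'') [S.Additive]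
    [PreservesFiniteLimits S]
    (hT : ∀ Q : C, Injective Q → ∀ q : ℕ, 0 < q → IsZero ((S.rightDerived q).obj (T.obj Q)))
    (A : C) :
    ∃ (E : E₂CohomologicalSpectralSequence C'')
      (a : SpSeq.Abutment E
        (fun n : ℤ => if 0 ≤ n then ((T ⋙ S).rightDerived n.toNat).obj A else 0)),
      (∀ n, a.IsFinite n) ∧ SpSeq.IsBounded E ∧
      ∀ p q : ℤ, Nonempty ((E.page 2 le_rfl).X (p, q) ≅
        (if 0 ≤ p ∧ 0 ≤ q then (S.rightDerived p.toNat).obj ((T.rightDerived q.toNat).obj A)
          else 0)) := by
  letI : HasDerivedCategory.{max u v} C' := HasDerivedCategory.standard _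
  letI : HasDerivedCategory.{max u v} C'' := HasDerivedCategory.standard _
  haveI := enoughInjectives_of_hasInjectiveResolutions C'
  let I := injectiveResolution A
  let L : CochainComplex C' ℤ := (T.mapHomologicalComplex (ComplexShape.up ℤ)).obj I.cochainComplex
  haveI : L.IsStrictlyGE 0 := by dsimp only [L]; infer_instance
  let KK : DerivedCategory.Plus C' := DerivedCategory.Plus.Q.obj ⟨L, 0, inferInstance⟩
  haveI : KK.IsGE 0 := by
    rw [← DerivedCategory.Plus.isGE_ι_obj_iff]
    exact inferInstanceAs ((DerivedCategory.Q.obj L).IsGE 0)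
  -- the homology of `KK`
  let hKK : ∀ q : ℤ, (DerivedCategory.Plus.homologyFunctor C' q).obj KK ≅ L.homology q :=
    fun q => (DerivedCategory.homologyFunctorFactors C' q).app L
  -- the abutment
  have hab : ∀ n : ℤ, Nonempty ((if 0 ≤ n then ((T ⋙ S).rightDerived n.toNat).obj A else 0) ≅
      ((Φ S).shift n).obj KK) := by
    intro n
    by_cases hn : 0 ≤ n
    · rw [if_pos hn]
      obtain ⟨k, rfl⟩ := Int.eq_ofNat_of_zero_le hn
      obtain ⟨e1⟩ := nonempty_Φ_iso_of_acyc S L 0 (fun m q hq => hT _ inferInstance q hq) k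
      rw [Int.toNat_natCast]
      exact ⟨(homologyCochainComplexIso (T ⋙ S) I k).symm ≪≫ e1.symm⟩
    · rw [if_neg hn]
      exact ⟨(isZero_zero _).iso (isZero_Φ_shift_of_isGE S KK 0 n (by lia))⟩
  refine exists_spectralSequence S KK _ (fun n => (hab n).some) _ (fun k q => ?_)
    (fun p q hp => ?_)
  · by_cases hq : 0 ≤ q
    · rw [if_pos ⟨Int.natCast_nonneg k, hq⟩, Int.toNat_natCast]
      obtain ⟨j, rfl⟩ := Int.eq_ofNat_of_zero_le hq
      rw [Int.toNat_natCast]
      exact ⟨(S.rightDerived k).mapIso
        ((homologyCochainComplexIso T I j).symm ≪≫ (hKK j).symm)⟩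
    · rw [if_neg (fun h => hq h.2)]
      exact ⟨(isZero_zero _).iso (isZero_rightDerived_obj_of_isZero S k
        (DerivedCategory.Plus.isZero_homology_of_isGE KK 0 q (by lia)))⟩
  · rw [if_neg (fun h => absurd h.1 (by lia))]
    exact isZero_zero _

end Groth.Agent.Lib.Helper34.SS
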