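import Groth.Agent.Lib.Cohomology.helper5_RightDerivedShift
import Groth.Agent.Lib.Cohomology.helper5_ExtShift

/-!
# `Ext^n_D(P, Φ -)` as right derived functors on `C`, for an exact functor `Φ : C ⥤ D` (helper34)

Let `Φ : C ⥤ D` be exact, `P : D` with `Ext^k_D(P, Φ I) = 0` for `I` injective in `C` and `k > 0`,
and `G : C ⥤ Ab` an additive left exact functor with a natural additive bijection
`(P ⟶ Φ F) ≃+ G F`.  Then `Ext^n_D(P, Φ F) ≅ (R^n G) F`.
-/

set_option autoImplicit false
universe w v v' u u'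
open CategoryTheory CategoryTheory.Limits

namespace Groth.Agent.Lib.Helper34.ExtRD2

open Abelian Groth.Agent.Lib.Cohomology.ExtShift Groth.Agent.Lib.Cohomology.RDShift

variable {C : Type u} [Category.{v} C] [Abelian C] [EnoughInjectives C]
variable {D : Type u'} [Category.{v'} D] [Abelian D] [HasExt.{w} D]
variable (Φ : C ⥤ D) [Φ.Additive] [PreservesFiniteLimits Φ] [PreservesFiniteColimits Φ]
variable (P : D) (G : C ⥤ AddCommGrpCat.{w}) [G.Additive] [PreservesFiniteLimits G]
variable (e : ∀ F : C, (P ⟶ Φ.obj F) ≃+ G.obj F)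
variable (he : ∀ {F F' : C} (φ : P ⟶ Φ.obj F) (g : F ⟶ F'),
  e F' (φ ≫ Φ.map g) = (G.map g).hom (e F φ))
variable (hacyc : ∀ (I : C) [Injective I] (n : ℕ) (x : Ext.{w} P (Φ.obj I) (n + 1)), x = 0)

/-- the injective short exact sequence in `C` (no `HasExt C` needed) -/
noncomputable abbrev iSES (F : C) : ShortComplex C :=
  ShortComplex.mk _ _ (cokernel.condition (Injective.ι F))

lemma iSES_shortExact (F : C) : (iSES F).ShortExact :=
  { exact := ShortComplex.exact_of_g_is_cokernel _ (cokernelIsCokernel (iSES F).f) }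

instance (F : C) : Injective (iSES F).X₂ := inferInstanceAs (Injective (Injective.under F))

include he hacyc in
theorem nonempty_ext_one_iso (F : C) :
    Nonempty (AddCommGrpCat.of (Ext.{w} P (Φ.obj F) 1) ≅ (G.rightDerived 1).obj F) := by
  have hS := iSES_shortExact F
  have hS' : ((iSES F).map Φ).ShortExact := hS.map_of_exact Φ
  obtain ⟨π, w, hπ, hex⟩ := exists_rightDerived_one_cokernel hS G
  let a : (P ⟶ Φ.obj (iSES F).X₃) →+ Ext.{w} P (Φ.obj F) 1 := homδ hS' P
  let b : (P ⟶ Φ.obj (iSES F).X₃) →+ ((G.rightDerived 1).obj F : AddCommGrpCat.{w}) :=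
    π.hom.comp (e (iSES F).X₃).toAddMonoidHom
  have ha : Function.Surjective a := homδ_surjective hS' P (fun x => hacyc (iSES F).X₂ 0 x)
  have hb : Function.Surjective b :=
    ((AddCommGrpCat.epi_iff_surjective π).1 hπ).comp (e (iSES F).X₃).surjective
  have hk : a.ker = b.ker := by
    ext φ
    rw [AddMonoidHom.mem_ker, AddMonoidHom.mem_ker]
    change homδ hS' P φ = 0 ↔ π.hom (e _ φ) = 0
    rw [homδ_eq_zero_iff]
    constructor
    · rintro ⟨ψ, rfl⟩
      let ψ' : P ⟶ Φ.obj (iSES F).X₂ := ψ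
      have h1 := he ψ' (iSES F).g
      change π.hom (e _ (ψ' ≫ Φ.map (iSES F).g)) = 0
      rw [h1]
      exact ConcreteCategory.congr_hom w (e _ ψ')
    · intro h0
      obtain ⟨t, ht⟩ := (ShortComplex.ab_exact_iff _).1 hex (e _ φ) h0
      obtain ⟨ψ, rfl⟩ := (e (iSES F).X₂).surjective t
      refine ⟨ψ, (e (iSES F).X₃).injective ?_⟩
      change e _ (ψ ≫ Φ.map (iSES F).g) = _
      rw [he ψ (iSES F).g]
      exact ht
  exact ⟨((QuotientAddGroup.quotientKerEquivOfSurjective a ha).symm.trans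
    ((QuotientAddGroup.quotientAddEquivOfEq hk).trans
      (QuotientAddGroup.quotientKerEquivOfSurjective b hb))).toAddCommGrpIso⟩

include he hacyc in
theorem nonempty_ext_succ_iso (n : ℕ) : ∀ F : C,
    Nonempty (AddCommGrpCat.of (Ext.{w} P (Φ.obj F) (n + 1)) ≅ (G.rightDerived (n + 1)).obj F) := by
  induction n with
  | zero => exact fun F => nonempty_ext_one_iso Φ P G e he hacyc F
  | succ n ih =>
    intro F
    have hS := iSES_shortExact F
    have hS' : ((iSES F).map Φ).ShortExact := hS.map_of_exact Φ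
    obtain ⟨e1⟩ := rightDerived_shift hS G n
    obtain ⟨e2⟩ := ih (iSES F).X₃
    let e3 : Ext.{w} P (Φ.obj (iSES F).X₃) (n + 1) ≃+ Ext.{w} P (Φ.obj F) (n + 2) :=
      AddEquiv.ofBijective (extδ hS' P (n + 1))
        ⟨extδ_injective hS' P n (fun x => hacyc (iSES F).X₂ n x),
          extδ_surjective hS' P (n + 1) (fun x => hacyc (iSES F).X₂ (n + 1) x)⟩
    exact ⟨e3.symm.toAddCommGrpIso ≪≫ e2 ≪≫ e1.symm⟩

include he hacyc in
/-- `Ext^n_D(P, Φ F) ≅ (R^n G) F` when `G` represents `Hom(P, Φ -)` and `Φ` of an injective is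
`Ext(P, -)`-acyclic. -/
theorem nonempty_ext_iso_rightDerived (n : ℕ) (F : C) :
    Nonempty (AddCommGrpCat.of (Ext.{w} P (Φ.obj F) n) ≅ (G.rightDerived n).obj F) := by
  cases n with
  | zero =>
    exact ⟨(Ext.addEquiv₀.trans (e F)).toAddCommGrpIso ≪≫ (G.rightDerivedZeroIsoSelf.app F).symm⟩
  | succ n => exact nonempty_ext_succ_iso Φ P G e he hacyc n F

end Groth.Agent.Lib.Helper34.ExtRD2
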