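import Groth.Agent.Lib.Helper34.HZSect
import Groth.Agent.Lib.Helper34.ExtRD2
import Groth.Agent.Lib.Helper34.SSGrothFinal

/-!
# `H^n_Z(F)` of a module as right derived functors of `Γ(Γ_Z -)` (helper34)
-/

set_option autoImplicit false
universe u
open CategoryTheory CategoryTheory.Limits Opposite

namespace Groth.Agent.Lib.Helper34.HZRD

open ModSite Groth.Agent.Lib.Helper34.NullTorsion Groth.Agent.Lib.Helper34.HZSect
  Groth.Agent.Lib.Helper19

variable {C : Type u} [SmallCategory C] {J : GrothendieckTopology C}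
  {O : Sheaf J CommRingCat.{u}} (U : C) [HasPushOver O U]

/-- `Hom_O(O/O_U, F) ≃+ Hom(ℤ/ℤ_U, F)` -/
noncomputable def cbarAddEquiv (F : Mod O) :
    ((quotOn O U).obj (ModSite.unit O) ⟶ F) ≃+
      (ToposFin.quotZ (ToposFin.eps J U) ⟶ (SheafOfModules.toSheaf (ringSh O)).obj F) :=
  AddEquiv.ofBijective
    (AddMonoidHom.mk' (fun ξ => cbar U ≫ (SheafOfModules.toSheaf (ringSh O)).map ξ)
      (fun a b => by rw [Functor.map_add, Preadditive.comp_add]))
    (cbar_bijective U F)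

lemma cbarAddEquiv_apply (F : Mod O) (ξ : (quotOn O U).obj (ModSite.unit O) ⟶ F) :
    cbarAddEquiv U F ξ = cbar U ≫ (SheafOfModules.toSheaf (ringSh O)).map ξ := rfl

/-- the functor `F ↦ Γ(Γ_Z F)` -/
noncomputable abbrev ΓZ : Mod O ⥤ AddCommGrpCat.{u} :=
  sectOn O U ⋙ preadditiveCoyoneda.obj (op (ModSite.unit O))

/-- `Hom(ℤ/ℤ_U, F) ≃+ Γ(Γ_Z F)` -/
noncomputable def hzEquiv (F : Mod O) :
    (ToposFin.quotZ (ToposFin.eps J U) ⟶ (SheafOfModules.toSheaf (ringSh O)).obj F) ≃+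
      (ΓZ (O := O) U).obj F :=
  (cbarAddEquiv U F).symm.trans (NullTorsion.homEquiv (ModSite.unit O) F)

lemma hzEquiv_comp {F F' : Mod O}
    (σ : ToposFin.quotZ (ToposFin.eps J U) ⟶ (SheafOfModules.toSheaf (ringSh O)).obj F)
    (g : F ⟶ F') :
    hzEquiv U F' (σ ≫ (SheafOfModules.toSheaf (ringSh O)).map g) =
      ((ΓZ (O := O) U).map g).hom (hzEquiv U F σ) := by
  obtain ⟨ξ, rfl⟩ := (cbarAddEquiv U F).surjective σ
  have h1 : cbarAddEquiv U F ξ ≫ (SheafOfModules.toSheaf (ringSh O)).map g =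
      cbarAddEquiv U F' (ξ ≫ g) := by
    rw [cbarAddEquiv_apply, cbarAddEquiv_apply, Functor.map_comp, Category.assoc]
  rw [h1]
  change NullTorsion.homEquiv _ F' ((cbarAddEquiv U F').symm (cbarAddEquiv U F' (ξ ≫ g))) =
    NullTorsion.homEquiv _ F ((cbarAddEquiv U F).symm (cbarAddEquiv U F ξ)) ≫ (sectOn O U).map g
  rw [AddEquiv.symm_apply_apply, AddEquiv.symm_apply_apply, NullTorsion.homEquiv_comp]

variable [HasInjectiveResolutions (Mod O)]

/-- `H^n_Z(F) ≅ R^n(Γ ∘ Γ_Z)(F)`. -/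
theorem nonempty_HZ_iso_rightDerived (F : Mod O) (n : ℕ) :
    Nonempty (AddCommGrpCat.of (ModSite.HZ U F n) ≅ ((ΓZ (O := O) U).rightDerived n).obj F) := by
  haveI := SS.enoughInjectives_of_hasInjectiveResolutions (Mod O)
  haveI := Groth.Agent.Lib.Helper94.ModSiteBasic.toSheaf_preservesFiniteColimits (ringSh O)
  exact ExtRD2.nonempty_ext_iso_rightDerived (SheafOfModules.toSheaf (ringSh O))
    (ToposFin.quotZ (ToposFin.eps J U)) (ΓZ U) (hzEquiv U) (fun σ g => hzEquiv_comp U σ g)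
    (fun I _ k x => by
      have h := HZAcyc.acyc_quotZ _ (CechMod.isTotallyAcyclic_toSheaf_of_injective (ringSh O) I)
        (ToposFin.eps J U) k
      exact Subsingleton.elim x 0) n F

omit [HasPushOver O U] [HasInjectiveResolutions (Mod O)] in
/-- `H^{k+1}_Z(F) = 0` for `F` totally acyclic. -/
theorem subsingleton_HZ_of_isTotallyAcyclic (F : Mod O) (hF : CohCx.IsTotallyAcyclic (toAb F))
    (k : ℕ) : Subsingleton (ModSite.HZ U F (k + 1)) :=
  HZAcyc.acyc_quotZ _ hF (ToposFin.eps J U) k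

end Groth.Agent.Lib.Helper34.HZRD
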