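import Groth.Agent.Lib.Helper34.SchPushAcyc
import Groth.Agent.Lib.Helper99.RestrKInj
import Groth.Agent.Lib.Helper99.KInjRes
import Groth.Agent.Lib.Cohomology.Helper1_RpushLinear
import Groth.Agent.Lib.QCoh.Helper18_Stalk
import Groth.Agent.Lib.QCoh.Helper18_Ass
import Groth.Agent.Lib.QCoh.Helper50_Pushforward
import Groth.Agent.Lib.QCoh.Helper50_Products

/-!
# `f_* K ⟶ Rf_* K` is an isomorphism for complexes of acyclic quasi-coherent modules, `f`
quasi-compact quasi-separated (any base): localisation on the base (helper34)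
-/

set_option autoImplicit false
universe w w' v v' u u' u''
open CategoryTheory Limits AlgebraicGeometry Opposite TopologicalSpace ZeroObject

namespace Groth.Agent.Lib.Helper34.AcycLocal

open Groth.Agent.Lib.Helper6.RFAcyc DerivedCategory

section Abstract

variable {A : Type u'} [Category.{v} A] [Abelian A] [HasDerivedCategory.{w} A]
  [IsGrothendieckAbelian.{v} A]
  {B : Type u''} [Category.{v'} B] [Abelian B] [HasDerivedCategory.{w'} B]
  (F : A ⥤ B) [F.Additive]
  (RF : DerivedCategory A ⥤ DerivedCategory B)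
  (β : F.mapHomotopyCategory (ComplexShape.up ℤ) ⋙ Qh ⟶ Qh ⋙ RF)
  [RF.IsRightDerivedFunctor β (HomotopyCategory.quasiIso A (ComplexShape.up ℤ))]

include β in
/-- converse of `isIso_bC_of_quasiIso` -/
lemma quasiIso_of_isIso_bC {K I : CochainComplex A ℤ} [I.IsKInjective] (s : K ⟶ I) [QuasiIso s]
    (h : IsIso ((bC F RF β).app K)) :
    QuasiIso ((F.mapHomologicalComplex (ComplexShape.up ℤ)).map s) := by
  have h1 := (bC F RF β).naturality s
  dsimp only [Functor.comp_map] at h1
  haveI : IsIso (Q.map s) := by rw [isIso_Q_map_iff_quasiIso]; infer_instance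
  haveI := isIso_bC_of_isKInjective F RF β I
  rw [← isIso_Q_map_iff_quasiIso]
  have h2 : Q.map ((F.mapHomologicalComplex (ComplexShape.up ℤ)).map s) =
      ((bC F RF β).app K ≫ RF.map (Q.map s)) ≫ inv ((bC F RF β).app I) := by
    rw [← h1, Category.assoc, IsIso.hom_inv_id, Category.comp_id]
  rw [h2]
  infer_instance

/-- an exact functor maps the homology maps of a morphism which becomes a quasi-isomorphism to
isomorphisms -/
lemma isIso_map_homologyMap {C D : Type*} [Category C] [Category D] [Abelian C] [Abelian D]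
    (G : C ⥤ D) [G.Additive] [PreservesFiniteLimits G] [PreservesFiniteColimits G]
    {K L : CochainComplex C ℤ} (ψ : K ⟶ L) (j : ℤ)
    (h : QuasiIsoAt ((G.mapHomologicalComplex (ComplexShape.up ℤ)).map ψ) j) :
    IsIso (G.map (HomologicalComplex.homologyMap ψ j)) := by
  rw [quasiIsoAt_iff_isIso_homologyMap] at h
  have nat := ShortComplex.mapHomologyIso_hom_naturality
    ((HomologicalComplex.shortComplexFunctor C (ComplexShape.up ℤ) j).map ψ) G
  have hiso : IsIso (ShortComplex.homologyMap
      (G.mapShortComplex.map ((HomologicalComplex.shortComplexFunctor C (ComplexShape.up ℤ) j).map ψ))) := h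
  have e : G.map (ShortComplex.homologyMap
        ((HomologicalComplex.shortComplexFunctor C (ComplexShape.up ℤ) j).map ψ)) =
      (((HomologicalComplex.shortComplexFunctor C (ComplexShape.up ℤ) j).obj K).mapHomologyIso G).inv ≫
        ShortComplex.homologyMap (G.mapShortComplex.map
          ((HomologicalComplex.shortComplexFunctor C (ComplexShape.up ℤ) j).map ψ)) ≫
        (((HomologicalComplex.shortComplexFunctor C (ComplexShape.up ℤ) j).obj L).mapHomologyIso G).hom := by
    rw [Iso.eq_inv_comp]
    exact nat.symm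
  change IsIso (G.map (ShortComplex.homologyMap
        ((HomologicalComplex.shortComplexFunctor C (ComplexShape.up ℤ) j).map ψ)))
  rw [e]
  exact IsIso.comp_isIso' inferInstance (IsIso.comp_isIso' hiso inferInstance)

end Abstract

section Local

variable {S : Scheme.{u}}

/-- a morphism of `O_S`-modules which is an isomorphism on every affine open is an isomorphism -/
lemma isIso_of_forall_affine {M N : S.Modules} (φ : M ⟶ N)
    (h : ∀ V : S.Opens, IsAffineOpen V → IsIso ((Scheme.Modules.restrictFunctor V.ι).map φ)) :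
    IsIso φ := by
  have hx : ∀ x : S, ∃ V : S.Opens, IsAffineOpen V ∧ x ∈ V := by
    intro y
    obtain ⟨_, ⟨V, hV, rfl⟩, hyV, -⟩ :=
      S.isBasis_affineOpens.exists_subset_of_mem_open (Set.mem_univ y) isOpen_univ
    exact ⟨V, hV, hyV⟩
  have hk : IsZero (kernel φ) := by
    apply Groth.Agent.Lib.QCoh.isZero_of_forall_stalk_subsingleton
    intro x
    obtain ⟨V, hV, hxV⟩ := hx x
    haveI := h V hV
    have e : (Scheme.Modules.restrictFunctor V.ι).obj (kernel φ) ≅
        kernel ((Scheme.Modules.restrictFunctor V.ι).map φ) := PreservesKernel.iso _ _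
    exact Groth.Agent.Lib.QCoh.stalk_subsingleton_of_isZero_restrict V
      (IsZero.of_iso (isZero_kernel_of_mono _) e) x hxV
  have hc : IsZero (cokernel φ) := by
    apply Groth.Agent.Lib.QCoh.isZero_of_forall_stalk_subsingleton
    intro x
    obtain ⟨V, hV, hxV⟩ := hx x
    haveI := h V hV
    have e : (Scheme.Modules.restrictFunctor V.ι).obj (cokernel φ) ≅
        cokernel ((Scheme.Modules.restrictFunctor V.ι).map φ) := PreservesCokernel.iso _ _
    exact Groth.Agent.Lib.QCoh.stalk_subsingleton_of_isZero_restrict V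
      (IsZero.of_iso (isZero_cokernel_of_epi _) e) x hxV
  haveI : Mono φ := Preadditive.mono_of_kernel_zero (hk.eq_of_src _ _)
  haveI : Epi φ := Preadditive.epi_of_cokernel_zero (hc.eq_of_tgt _ _)
  exact isIso_of_mono_of_epi φ

/-- a morphism of complexes of `O_S`-modules which is a quasi-isomorphism on every affine open is
a quasi-isomorphism -/
lemma quasiIso_of_forall_affine {K L : CochainComplex S.Modules ℤ} (ψ : K ⟶ L)
    (h : ∀ V : S.Opens, IsAffineOpen V → QuasiIso
      (((Scheme.Modules.restrictFunctor V.ι).mapHomologicalComplex (ComplexShape.up ℤ)).map ψ)) :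
    QuasiIso ψ := by
  rw [quasiIso_iff]
  intro j
  rw [quasiIsoAt_iff_isIso_homologyMap]
  apply isIso_of_forall_affine
  intro V hV
  haveI := h V hV
  exact isIso_map_homologyMap (Scheme.Modules.restrictFunctor V.ι) ψ j inferInstance

end Local

section Main

attribute [local instance] HasDerivedCategory.standard

variable {X S : Scheme.{u}} (f : X ⟶ S) [QuasiCompact f] [QuasiSeparated f]

open Groth.Agent.Lib.Helper34.SchPush Groth.Agent.Lib.QCoh

theorem quasiIso_push_of_acyclic [HasInjectiveResolutions X.Modules]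
    (F : CochainComplex X.Modules ℤ) (hq : ∀ n, Coh.IsQCoh (F.X n))
    (hac : ∀ (n : ℤ) (i : ℕ), 0 < i → IsZero ((Coh.Rpush f i).obj (F.X n)))
    (I : CochainComplex X.Modules ℤ) [I.IsKInjective] (s : F ⟶ I) [QuasiIso s] :
    QuasiIso (((Scheme.Modules.pushforward f).mapHomologicalComplex (ComplexShape.up ℤ)).map s) := by
  apply quasiIso_of_forall_affine
  intro V hV
  haveI : IsAffine (V : Scheme.{u}) := hV
  let g := f ∣_ V
  let e := pushforwardRestrictIso f V
  let E := NatIso.mapHomologicalComplex e (ComplexShape.up ℤ)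
  -- the restricted resolution
  let res := (Scheme.Modules.restrictFunctor (f ⁻¹ᵁ V).ι).mapHomologicalComplex (ComplexShape.up ℤ)
  haveI : CochainComplex.IsKInjective (res.obj I) :=
    Groth.Agent.Lib.Helper99.RestrKInj.isKInjective_restrict (f ⁻¹ᵁ V) I
  haveI : QuasiIso (res.map s) := inferInstance
  -- the affine base case
  haveI : EnoughInjectives (MS (f ⁻¹ᵁ V : Scheme.{u})) :=
    Groth.Agent.S0485.result _ _
  haveI : HasInjectiveResolutions (MS (f ⁻¹ᵁ V : Scheme.{u})) := inferInstance
  haveI : EnoughInjectives X.Modules := Groth.Agent.S0485.result _ _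
  haveI : EnoughInjectives (f ⁻¹ᵁ V : Scheme.{u}).Modules := Groth.Agent.S0485.result _ _
  haveI : IsGrothendieckAbelian.{u} (MS (f ⁻¹ᵁ V : Scheme.{u})) :=
    Groth.Agent.S0484.result _ _
  obtain ⟨R', hs, β', htri, hder⟩ := RDBdd.exists_model (ModSite.RMor.ofScheme g).push
  have hq' : ∀ n, QC (f ⁻¹ᵁ V : Scheme.{u}) ((res.obj F).X n) := by
    intro n
    haveI : (F.X n).IsQuasicoherent := hq n
    exact isQuasicoherent_restrict (f ⁻¹ᵁ V).ι (F.X n)
  have hac' : ∀ (n : ℤ) (i : ℕ), 0 < i →
      IsZero (((ModSite.RMor.ofScheme g).push.rightDerived i).obj ((res.obj F).X n)) := by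
    intro n i hi
    obtain ⟨ei⟩ := Groth.Agent.Lib.Cohomology.RpushLinear.nonempty_restrict_iso f V i
    exact IsZero.of_iso ((Scheme.Modules.restrictFunctor V.ι).map_isZero (hac n i hi))
      (ei.app (F.X n)).symm
  have hbC := isIso_bC_of_compact g R' β' (res.obj F) hq' hac'
  have hKI : @CochainComplex.IsKInjective (MS (f ⁻¹ᵁ V : Scheme.{u}))
      (inferInstanceAs (Category.{u} (MS (f ⁻¹ᵁ V : Scheme.{u}))))
      (inferInstanceAs (Abelian (MS (f ⁻¹ᵁ V : Scheme.{u})))) (res.obj I) :=
    Groth.Agent.Lib.Helper99.RestrKInj.isKInjective_restrict (f ⁻¹ᵁ V) I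
  have hQI : @QuasiIso ℤ (MS (f ⁻¹ᵁ V : Scheme.{u}))
      (inferInstanceAs (Category.{u} (MS (f ⁻¹ᵁ V : Scheme.{u}))))
      (inferInstanceAs (Limits.HasZeroMorphisms (MS (f ⁻¹ᵁ V : Scheme.{u}))))
      (ComplexShape.up ℤ) (res.obj F) (res.obj I)
      (res.map s) (fun _ => inferInstance) (fun _ => inferInstance) :=
    (inferInstance : QuasiIso (res.map s))
  have key := @quasiIso_of_isIso_bC (MS (f ⁻¹ᵁ V : Scheme.{u}))
      (inferInstanceAs (Category.{u} (MS (f ⁻¹ᵁ V : Scheme.{u}))))
      (inferInstanceAs (Abelian (MS (f ⁻¹ᵁ V : Scheme.{u})))) _ _ (MS (V : Scheme.{u})) _ _ _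
    (ModSite.RMor.ofScheme g).push _ R' β' _ (res.obj F) (res.obj I) hKI (res.map s) hQI hbC
  have key' : QuasiIso (((Scheme.Modules.pushforward g).mapHomologicalComplex
      (ComplexShape.up ℤ)).map (res.map s)) := key
  refine (quasiIso_iff_of_arrow_mk_iso _ _
    (Arrow.isoMk (E.app F) (E.app I) (E.hom.naturality s).symm)).2 key'

theorem main [HasInjectiveResolutions X.Modules] [DCoh.HasRpush f]
    (F : CochainComplex X.Modules ℤ) (hq : ∀ n : ℤ, Coh.IsQCoh (F.X n))
    (hac : ∀ (n : ℤ) (i : ℕ), 0 < i → IsZero ((Coh.Rpush f i).obj (F.X n))) :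
    IsIso (((DCoh.pushKh f).totalRightDerivedUnit DerivedCategory.Qh
      (HomotopyCategory.quasiIso X.Modules (ComplexShape.up ℤ))).app
      ((HomotopyCategory.quotient X.Modules (ComplexShape.up ℤ)).obj F)) := by
  haveI : IsGrothendieckAbelian.{u} X.Modules :=
    Groth.Agent.Lib.Helper99.RestrKInj.isGrothendieckAbelian_modules X
  obtain ⟨I, s, hI, hs, -, -⟩ := Groth.Agent.Lib.Helper99.KInj.exists_kInjective_resolution F
  have hqi := quasiIso_push_of_acyclic f F hq hac I s
  let R := DCoh.Rpush f
  let β := (DCoh.pushKh f).totalRightDerivedUnit DerivedCategory.Qh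
      (HomotopyCategory.quasiIso X.Modules (ComplexShape.up ℤ))
  have hR : R.IsRightDerivedFunctor β
    (HomotopyCategory.quasiIso X.Modules (ComplexShape.up ℤ)) := inferInstance
  have h1 := isIso_bC_of_quasiIso (Scheme.Modules.pushforward f) R β s hqi
  exact (isIso_bC_iff (Scheme.Modules.pushforward f) R β F).1 h1

end Main

end Groth.Agent.Lib.Helper34.AcycLocal
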