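import Mathlib
import Groth.Agent.S1032
import Groth.Agent.Lib.Helper12.HomotopyAdjunction

/-!
# Derived adjunction on unbounded derived categories

* `KanAbsL.isLeftKanExtension_comp`: a left Kan extension along a functor admitting a right adjoint
  is absolute (preserved by post-composition with any functor).
* `DerAdj.derivedAdj`: let `G ⊣ F` be an adjunction of additive functors between abelian
  categories `B` and `A`, with `G : B ⥤ A` exact, and assume every complex of `A` has a K-injective
  resolution. Then `G.mapDerivedCategory` is left adjoint to ANY total right derived functor of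
  `F` (w.r.t. quasi-isomorphisms).
-/

set_option autoImplicit false
universe w v₁ v₂ v₃ v₄ u₁ u₂ u₃ u₄

open CategoryTheory

namespace Groth.Agent.Lib.Helper34

namespace KanAbsL

variable {C : Type u₁} {D : Type u₂} {H : Type u₃} {H' : Type u₄} [Category.{v₁} C]
  [Category.{v₂} D] [Category.{v₃} H] [Category.{v₄} H'] {L : C ⥤ D} {R : D ⥤ C} (adj : L ⊣ R)

/-- the canonical unit `F ⟶ L ⋙ R ⋙ F` -/
def canUnit (F : C ⥤ H) : F ⟶ L ⋙ R ⋙ F := (adj.whiskerLeft H).unit.app F

@[simp]
lemma canUnit_app (F : C ⥤ H) (X : C) : (canUnit adj F).app X = F.map (adj.unit.app X) := by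
  simp [canUnit]

/-- `R ⋙ F` is a left Kan extension of `F` along `L` when `L ⊣ R`. -/
theorem isLeftKanExtension_of_adjunction (F : C ⥤ H) :
    (R ⋙ F).IsLeftKanExtension (canUnit adj F) :=
  ⟨⟨mkInitialOfLeftAdjoint _ (adj.whiskerLeft H) F⟩⟩

include adj in
/-- A left Kan extension along a functor admitting a right adjoint is absolute. -/
theorem isLeftKanExtension_comp {F : C ⥤ H} (RF : D ⥤ H) (α : F ⟶ L ⋙ RF)
    [RF.IsLeftKanExtension α] (T : H ⥤ H') :
    (RF ⋙ T).IsLeftKanExtension (Functor.whiskerRight α T ≫ (Functor.associator _ _ _).hom) := by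
  have := isLeftKanExtension_of_adjunction adj F
  have := isLeftKanExtension_of_adjunction adj (F ⋙ T)
  let e : R ⋙ F ≅ RF := Functor.leftKanExtensionUnique (R ⋙ F) (canUnit adj F) RF α
  have he : ∀ X, F.map (adj.unit.app X) ≫ e.hom.app (L.obj X) = α.app X := by
    intro X
    have := Functor.descOfIsLeftKanExtension_fac_app (R ⋙ F) (canUnit adj F) RF α X
    rw [canUnit_app] at this
    simpa [e, Functor.leftKanExtensionUnique, Functor.leftKanExtensionUniqueOfIso] using this
  let φ : R ⋙ F ⋙ T ⟶ RF ⋙ T := (Functor.associator _ _ _).inv ≫ Functor.whiskerRight e.hom T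
  have hφ : IsIso φ := inferInstance
  refine (Functor.isLeftKanExtension_iff_isIso φ (canUnit adj (F ⋙ T)) _ ?_).mpr hφ
  ext X
  simp only [NatTrans.comp_app, canUnit_app, Functor.whiskerLeft_app, Functor.comp_map,
    Functor.whiskerRight_app, Functor.associator_hom_app, Functor.associator_inv_app,
    Category.comp_id, Category.id_comp, φ, Functor.comp_obj]
  rw [← T.map_comp, he]

end KanAbsL

namespace DerAdj

variable {A : Type u₁} {B : Type u₂} [Category.{v₁} A] [Category.{v₂} B] [Abelian A] [Abelian B]
  [HasDerivedCategory.{w} A] [HasDerivedCategory.{w} B]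
  {G : B ⥤ A} {F : A ⥤ B} [G.Additive] [F.Additive] (adj : G ⊣ F)
  [Limits.PreservesFiniteLimits G] [Limits.PreservesFiniteColimits G]
  (hKinj : ∀ K : CochainComplex A ℤ, ∃ (I : CochainComplex A ℤ) (f : K ⟶ I),
    I.IsKInjective ∧ QuasiIso f)

/-- **Derived adjunction** (unbounded): for an exact left adjoint `G` and K-injective resolutions
in the source of `F`, `G.mapDerivedCategory` is left adjoint to any total right derived functor
of `F`. -/
noncomputable def derivedAdj (RF : DerivedCategory A ⥤ DerivedCategory B)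
    (β : F.mapHomotopyCategory (ComplexShape.up ℤ) ⋙ DerivedCategory.Qh ⟶ DerivedCategory.Qh ⋙ RF)
    [RF.IsRightDerivedFunctor β (HomotopyCategory.quasiIso A (ComplexShape.up ℤ))] :
    G.mapDerivedCategory ⊣ RF := by
  let e : DerivedCategory.Qh ⋙ G.mapDerivedCategory ≅
      G.mapHomotopyCategory (ComplexShape.up ℤ) ⋙ DerivedCategory.Qh :=
    G.mapDerivedCategoryFactorsh
  have i1 : G.mapDerivedCategory.IsLeftDerivedFunctor e.hom
      (HomotopyCategory.quasiIso B (ComplexShape.up ℤ)) :=
    Functor.isLeftDerivedFunctor_of_inverts _ _ e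
  let e' : DerivedCategory.Qh ⋙ (G.mapDerivedCategory ⋙ RF) ≅
      (G.mapHomotopyCategory (ComplexShape.up ℤ) ⋙ DerivedCategory.Qh) ⋙ RF :=
    (Functor.associator _ _ _).symm ≪≫ Functor.isoWhiskerRight e RF
  have i3 : (G.mapDerivedCategory ⋙ RF).IsLeftDerivedFunctor
      ((Functor.associator _ _ _).inv ≫ Functor.whiskerRight e.hom RF)
      (HomotopyCategory.quasiIso B (ComplexShape.up ℤ)) :=
    Functor.isLeftDerivedFunctor_of_inverts _ _ e'
  have i4 : (RF ⋙ G.mapDerivedCategory).IsRightDerivedFunctor
      (Functor.whiskerRight β G.mapDerivedCategory ≫ (Functor.associator _ _ _).hom)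
      (HomotopyCategory.quasiIso A (ComplexShape.up ℤ)) := by
    have : RF.IsLeftKanExtension β :=
      Functor.IsRightDerivedFunctor.isLeftKanExtension _ _
        (HomotopyCategory.quasiIso A (ComplexShape.up ℤ))
    exact ⟨KanAbsL.isLeftKanExtension_comp (Groth.Agent.S1032.rAdj hKinj) RF β
      G.mapDerivedCategory⟩
  exact (Groth.Agent.Lib.Helper12.mapHomotopyCategoryAdj (ComplexShape.up ℤ) adj).derived
    (HomotopyCategory.quasiIso B (ComplexShape.up ℤ))
    (HomotopyCategory.quasiIso A (ComplexShape.up ℤ)) e.hom β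

end DerAdj

end Groth.Agent.Lib.Helper34
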