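import Groth.Agent.Lib.Helper34.ModPushMain
import Groth.Agent.Lib.Helper34.DerAdj

/-!
# `Rf_*` has bounded cohomological dimension on `D_A` (non-flat `f`)
-/

set_option autoImplicit false
universe w w' u v₁ v₂ v₃ u₁ u₂ u₃
open CategoryTheory Limits Pretriangulated DerivedCategory Opposite

namespace Groth.Agent.Lib.Helper34.ModPushFinal

open ModSite SiteCmp Groth.Agent.Lib.Helper34.ModFree Groth.Agent.Lib.Helper34.ModPushLZ
  Groth.Agent.Lib.Helper68.HZeroLocal Groth.Agent.Lib.Helper34.ModHZero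
  Groth.Agent.Lib.Helper34.ModVL Groth.Agent.Lib.Helper34.ModTruncRlim
  Groth.Agent.Lib.Helper68.RlimMilnor Groth.Agent.Lib.Helper68.TruncRlim
  Groth.Agent.Lib.Helper32 Groth.Agent.Lib.Helper34.ModPullFree
  Groth.Agent.Lib.Helper34.ModPushBdd Groth.Agent.Lib.Helper34.ModUnbdd
  Groth.Agent.Lib.Helper34.ModPushUnbdd Groth.Agent.Lib.Helper34.ModPushSingle
  Groth.Agent.Lib.Helper34.ModPushMain

section
variable {C₁ : Type u₁} {C₂ : Type u₂} {C₃ : Type u₃} [Category.{v₁} C₁] [Category.{v₂} C₂]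
  [Category.{v₃} C₃] [HasShift C₁ ℤ] [HasShift C₂ ℤ] [HasShift C₃ ℤ]
  [Preadditive C₁] [Preadditive C₂] [Preadditive C₃] [HasZeroObject C₁] [HasZeroObject C₂]
  [HasZeroObject C₃] [∀ n : ℤ, (shiftFunctor C₁ n).Additive] [∀ n : ℤ, (shiftFunctor C₂ n).Additive]
  [∀ n : ℤ, (shiftFunctor C₃ n).Additive] [Pretriangulated C₁] [Pretriangulated C₂]
  [Pretriangulated C₃]

lemma isTriangulated_comp' (F : C₁ ⥤ C₂) (G : C₂ ⥤ C₃) [F.CommShift ℤ] [G.CommShift ℤ]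
    [F.IsTriangulated] [G.IsTriangulated] : (F ⋙ G).IsTriangulated := inferInstance
end


variable {C : Type u} [SmallCategory C] {J : GrothendieckTopology C} {O_C : Sheaf J CommRingCat.{u}}
  {D : Type u} [SmallCategory D] {K : GrothendieckTopology D} {O_D : Sheaf K CommRingCat.{u}}
  [HasDerivedCategory.{w} (Mod O_C)] [HasDerivedCategory.{w'} (Mod O_D)] (f : RMor O_C O_D)

variable [HasInjectiveResolutions (Mod O_C)]
  (A : ObjectProperty (Mod O_C)) [WSerre.IsWeakSerre A]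
  (B : Set C) (B' : Set D)
  (hB : ∀ U : C, ∃ (ι : Type u) (Y : ι → C) (g : ∀ i, Y i ⟶ U),
    Sieve.ofArrows Y g ∈ J U ∧ ∀ i, Y i ∈ B)
  (hA : ∀ V ∈ B, ∃ d : ℕ, ∀ T ∈ J V, ∃ (ι : Type u) (Y : ι → C) (g : ∀ i, Y i ⟶ V),
    (∀ i, T.arrows (g i)) ∧ Sieve.ofArrows Y g ∈ J V ∧
    ∀ (i : ι) (F : Mod O_C), A F → ∀ k : ℕ, d < k → Subsingleton (ModSite.HU O_C F k (Y i)))
  (hB' : ∀ U : D, ∃ (ι : Type u) (Y : ι → D) (g : ∀ i, Y i ⟶ U),
    Sieve.ofArrows Y g ∈ K U ∧ ∀ i, Y i ∈ B')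
  (hA' : ∀ V ∈ B', ∃ d : ℕ, ∀ T ∈ K V, ∃ (ι : Type u) (Y : ι → D) (g : ∀ i, Y i ⟶ V),
    (∀ i, T.arrows (g i)) ∧ Sieve.ofArrows Y g ∈ K V ∧
    ∀ (i : ι) (F : Mod O_C), A F → ∀ k : ℕ, d < k →
      Subsingleton (ModSite.HU O_C F k (f.fn.obj (Y i))))
  (N : ℤ)
  (h3 : ∀ F : Mod O_C, A F → ∀ p : ℕ, N < (p : ℤ) → IsZero ((f.Rpush p).obj F))

include hB hA hB' hA' h3 in
theorem main_of_adj (ρ : DerivedCategory (Mod O_C) ⥤ HomotopyCategory (Mod O_C) (ComplexShape.up ℤ))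
    (adj : (DerivedCategory.Qh : HomotopyCategory (Mod O_C) (ComplexShape.up ℤ) ⥤ _) ⊣ ρ)
    [ρ.CommShift ℤ] [ρ.IsTriangulated]
    (R : DerivedCategory (Mod O_C) ⥤ DerivedCategory (Mod O_D))
    (β : f.push.mapHomotopyCategory (ComplexShape.up ℤ) ⋙ DerivedCategory.Qh ⟶
      DerivedCategory.Qh ⋙ R)
    [R.IsRightDerivedFunctor β (HomotopyCategory.quasiIso (Mod O_C) (ComplexShape.up ℤ))]
    (X : DerivedCategory (Mod O_C)) (hX : WSerre.cohIn A X) (n : ℕ) (j : ℤ)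
    (hj : N - (n : ℤ) ≤ j) :
    IsIso ((homologyFunctor (Mod O_D) j).map
      (R.map ((TStructure.t.truncGEπ (-(n : ℤ))).app X))) := by
  haveI : (f.push.mapHomotopyCategory (ComplexShape.up ℤ) ⋙
      (DerivedCategory.Qh : _ ⥤ DerivedCategory (Mod O_D))).IsTriangulated :=
    isTriangulated_comp' (f.push.mapHomotopyCategory (ComplexShape.up ℤ)) DerivedCategory.Qh
  haveI : (ρ ⋙ f.push.mapHomotopyCategory (ComplexShape.up ℤ) ⋙
      (DerivedCategory.Qh : _ ⥤ DerivedCategory (Mod O_D))).IsTriangulated :=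
    isTriangulated_comp' ρ (f.push.mapHomotopyCategory (ComplexShape.up ℤ) ⋙ DerivedCategory.Qh)
  haveI hK' : (ρ ⋙ f.push.mapHomotopyCategory (ComplexShape.up ℤ) ⋙
      DerivedCategory.Qh).IsLeftKanExtension
      (KanAbsL.canUnit adj (f.push.mapHomotopyCategory (ComplexShape.up ℤ) ⋙
        (DerivedCategory.Qh : _ ⥤ DerivedCategory (Mod O_D)))) :=
    KanAbsL.isLeftKanExtension_of_adjunction adj _
  haveI : (ρ ⋙ f.push.mapHomotopyCategory (ComplexShape.up ℤ) ⋙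
      DerivedCategory.Qh).IsRightDerivedFunctor
      (KanAbsL.canUnit adj (f.push.mapHomotopyCategory (ComplexShape.up ℤ) ⋙
        (DerivedCategory.Qh : _ ⥤ DerivedCategory (Mod O_D))))
      (HomotopyCategory.quasiIso (Mod O_C) (ComplexShape.up ℤ)) := ⟨hK'⟩
  haveI hK : R.IsLeftKanExtension β :=
    Functor.IsRightDerivedFunctor.isLeftKanExtension _ _
      (HomotopyCategory.quasiIso (Mod O_C) (ComplexShape.up ℤ))
  have h1 := main_triangulated f A B B' hB hA hB' hA' N h3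
    (ρ ⋙ f.push.mapHomotopyCategory (ComplexShape.up ℤ) ⋙ DerivedCategory.Qh)
    (KanAbsL.canUnit adj (f.push.mapHomotopyCategory (ComplexShape.up ℤ) ⋙
        (DerivedCategory.Qh : _ ⥤ DerivedCategory (Mod O_D)))) X hX n j hj
  let e : (ρ ⋙ f.push.mapHomotopyCategory (ComplexShape.up ℤ) ⋙ DerivedCategory.Qh) ≅ R :=
    Functor.leftKanExtensionUnique _ (KanAbsL.canUnit adj
      (f.push.mapHomotopyCategory (ComplexShape.up ℤ) ⋙
        (DerivedCategory.Qh : _ ⥤ DerivedCategory (Mod O_D)))) R β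
  exact (NatIso.isIso_map_iff (Functor.isoWhiskerRight e (homologyFunctor (Mod O_D) j))
    ((TStructure.t.truncGEπ (-(n : ℤ))).app X)).1 h1

include hB hA hB' hA' h3 in
/-- the truncation statement for any total right derived functor of `f_*`. -/
theorem main (R : DerivedCategory (Mod O_C) ⥤ DerivedCategory (Mod O_D))
    (β : f.push.mapHomotopyCategory (ComplexShape.up ℤ) ⋙ DerivedCategory.Qh ⟶
      DerivedCategory.Qh ⋙ R)
    [R.IsRightDerivedFunctor β (HomotopyCategory.quasiIso (Mod O_C) (ComplexShape.up ℤ))]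
    (X : DerivedCategory (Mod O_C)) (hX : WSerre.cohIn A X) (n : ℕ) (j : ℤ)
    (hj : N - (n : ℤ) ≤ j) :
    IsIso ((homologyFunctor (Mod O_D) j).map
      (R.map ((TStructure.t.truncGEπ (-(n : ℤ))).app X))) := by
  haveI : IsGrothendieckAbelian.{u} (Mod O_C) := Groth.Agent.S0484.result J (ringSh O_C)
  have hKinj : ∀ K : CochainComplex (Mod O_C) ℤ, ∃ (I : CochainComplex (Mod O_C) ℤ)
      (g : K ⟶ I), I.IsKInjective ∧ QuasiIso g := by
    intro K
    obtain ⟨I, g, hI, hg, -, -⟩ :=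
      Groth.Agent.Lib.Helper99.KInj.exists_kInjective_resolution K
    exact ⟨I, g, hI, hg⟩
  obtain ⟨ρ, ⟨adj⟩⟩ : ∃ ρ : DerivedCategory (Mod O_C) ⥤
      HomotopyCategory (Mod O_C) (ComplexShape.up ℤ),
      Nonempty ((DerivedCategory.Qh : HomotopyCategory (Mod O_C) (ComplexShape.up ℤ) ⥤ _) ⊣ ρ) :=
    ⟨_, ⟨Groth.Agent.S1032.rAdj hKinj⟩⟩
  let _ := adj.rightAdjointCommShift ℤ
  have := adj.commShift_of_leftAdjoint ℤ
  have : ρ.IsTriangulated := adj.isTriangulated_rightAdjoint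
  exact main_of_adj f A B B' hB hA hB' hA' N h3 ρ adj R β X hX n j hj

end Groth.Agent.Lib.Helper34.ModPushFinal
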