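import Groth.Agent.Lib.Helper34.ModRlimConst
import Groth.Agent.Lib.Helper32.AdjDevissagePlus
import Groth.Agent.Lib.Helper6.ProdCx
import Groth.Agent.Lib.Helper99.KInjRes
import Groth.Agent.S0484

/-!
# Unbounded version of the equivalence `D_{A'}(O_D) ≃ D_A(O_C)` (Stacks-style, via derived limits)
-/

set_option autoImplicit false
universe w w' u
open CategoryTheory Limits Pretriangulated DerivedCategory Opposite

namespace Groth.Agent.Lib.Helper34.ModUnbdd

open ModSite Groth.Agent.Lib.Helper34.ModVL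
open Groth.Agent.Lib.Helper68.TruncRlim Groth.Agent.Lib.Helper32
  Groth.Agent.Lib.Helper32.AdjDevissage

section Products

variable {C : Type u} [SmallCategory C] {J : GrothendieckTopology C} (O : Sheaf J CommRingCat.{u})
  [HasDerivedCategory.{w} (Mod O)]

/-- countable products exist in `D(Mod O)`. -/
lemma hasProduct_derived (K : ℕ → DerivedCategory (Mod O)) : HasProduct K := by
  haveI : IsGrothendieckAbelian.{u} (Mod O) := Groth.Agent.S0484.result J (ringSh O)
  have hI : ∀ n, ∃ I : CochainComplex (Mod O) ℤ, I.IsKInjective ∧ Nonempty (K n ≅ Q.obj I) := by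
    intro n
    obtain ⟨I, f, hI, hf, -, -⟩ :=
      Groth.Agent.Lib.Helper99.KInj.exists_kInjective_resolution (Q.objPreimage (K n))
    haveI : IsIso (Q.map f) := by
      rw [isIso_Q_map_iff_quasiIso]
      exact hf
    exact ⟨I, hI, ⟨(Q.objObjPreimageIso (K n)).symm ≪≫ asIso (Q.map f)⟩⟩
  choose I hI e using hI
  haveI := Groth.Agent.Lib.Helper6.ProdCx.hasProduct_Q I hI
  exact hasLimit_of_iso (F := Discrete.functor (fun n => Q.obj (I n)))
    (Discrete.natIso (fun n => (e n.as).some.symm))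

end Products

section RlimMap

variable {D₁ D₂ : Type*} [Category D₁] [Category D₂] [Preadditive D₁] [Preadditive D₂]
  [HasZeroObject D₁] [HasZeroObject D₂] [HasShift D₁ ℤ] [HasShift D₂ ℤ]
  [∀ n : ℤ, (shiftFunctor D₁ n).Additive] [∀ n : ℤ, (shiftFunctor D₂ n).Additive]
  [Pretriangulated D₁] [Pretriangulated D₂]
  (R : D₁ ⥤ D₂) [R.CommShift ℤ] [R.IsTriangulated] [PreservesLimitsOfShape (Discrete ℕ) R]

/-- a triangulated functor preserving countable products preserves derived limits. -/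
lemma isRlimVia_map (K : ℕ → D₁) (t : ∀ n, K (n + 1) ⟶ K n) [HasProduct K]
    [HasProduct fun n => R.obj (K n)] (L : D₁) (a : ∀ n, L ⟶ K n)
    (hL : CohCx.IsRlimVia K t L a) :
    CohCx.IsRlimVia (fun n => R.obj (K n)) (fun n => R.map (t n)) (R.obj L)
      (fun n => R.map (a n)) := by
  obtain ⟨c, hT⟩ := hL
  haveI : R.Additive := inferInstance
  let θ : R.obj (∏ᶜ K) ≅ ∏ᶜ fun n => R.obj (K n) := PreservesProduct.iso R K
  have hθ : ∀ n, θ.hom ≫ Pi.π (fun n => R.obj (K n)) n = R.map (Pi.π K n) := fun n =>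
    piComparison_comp_π R K n
  have hT' := R.map_distinguished _ hT
  refine ⟨θ.inv ≫ R.map c ≫ (R.commShiftIso (1 : ℤ)).hom.app L, ?_⟩
  refine isomorphic_distinguished _ hT' _ ?_
  refine Triangle.isoMk _ _ (Iso.refl _) θ.symm θ.symm ?_ ?_ ?_
  · change Pi.lift (fun n => R.map (a n)) ≫ θ.inv = 𝟙 _ ≫ R.map (Pi.lift a)
    rw [Category.id_comp, Iso.comp_inv_eq]
    apply Pi.hom_ext
    intro n
    rw [Pi.lift_π, Category.assoc, hθ, ← R.map_comp, Pi.lift_π]
  · change Pi.lift (fun n => Pi.π (fun n => R.obj (K n)) n -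
        Pi.π (fun n => R.obj (K n)) (n + 1) ≫ R.map (t n)) ≫ θ.inv =
      θ.inv ≫ R.map (Pi.lift fun n => Pi.π K n - Pi.π K (n + 1) ≫ t n)
    rw [Iso.comp_inv_eq, Category.assoc, Iso.eq_inv_comp]
    apply Pi.hom_ext
    intro n
    rw [Category.assoc, Pi.lift_π, Category.assoc, hθ, ← R.map_comp, Pi.lift_π,
      Preadditive.comp_sub, hθ, ← Category.assoc, hθ, Functor.map_sub, Functor.map_comp]
  · change (θ.inv ≫ R.map c ≫ (R.commShiftIso (1 : ℤ)).hom.app L) ≫ (𝟙 (R.obj L))⟦(1 : ℤ)⟧' =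
      θ.inv ≫ R.map c ≫ (R.commShiftIso (1 : ℤ)).hom.app L
    rw [CategoryTheory.Functor.map_id]
    erw [Category.comp_id]

end RlimMap

section Der

variable {𝒜 : Type (u + 1)} [Category.{u} 𝒜] [Abelian 𝒜] [HasDerivedCategory.{w} 𝒜]

/-- in a distinguished triangle whose first vertex is `≤ b - 1`, the second map is an isomorphism
on `H^j` for `j ≥ b`. -/
lemma isIso_homology_mor₂_of_isLE (T : Triangle (DerivedCategory 𝒜)) (hT : T ∈ distTriang _)
    (b j : ℤ) (hj : b ≤ j) (h1 : T.obj₁.IsLE (b - 1)) :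
    IsIso ((homologyFunctor 𝒜 j).map T.mor₂) := by
  have hm : Mono ((homologyFunctor 𝒜 j).map T.mor₂) := by
    refine (HomologySequence.mono_homologyMap_mor₂_iff _ hT j).2 ?_
    exact (isZero_of_isLE T.obj₁ (b - 1) j (by omega)).eq_of_src _ _
  have he : Epi ((homologyFunctor 𝒜 j).map T.mor₂) := by
    refine (HomologySequence.epi_homologyMap_mor₂_iff _ hT j (j + 1) rfl).2 ?_
    exact (isZero_of_isLE T.obj₁ (b - 1) (j + 1) (by omega)).eq_of_tgt _ _
  exact isIso_of_mono_of_epi _

variable (P : ObjectProperty 𝒜) [WSerre.IsWeakSerre P]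

lemma cohIn_truncLT {X : DerivedCategory 𝒜} (hX : WSerre.cohIn P X) (b : ℤ) :
    WSerre.cohIn P ((TStructure.t.truncLT b).obj X) := fun i => by
  by_cases hi : i < b
  · have := EssConstDer.isIso_homology_truncLTι X b i hi
    exact P.prop_of_iso
      (asIso ((homologyFunctor 𝒜 i).map ((TStructure.t.truncLTι b).app X))).symm (hX i)
  · exact P.prop_of_isZero
      (isZero_of_isLE ((TStructure.t.truncLT b).obj X) (b - 1) i (by omega))

lemma cohIn_truncGE {X : DerivedCategory 𝒜} (hX : WSerre.cohIn P X) (b : ℤ) :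
    WSerre.cohIn P ((TStructure.t.truncGE b).obj X) := fun i => by
  by_cases hi : b ≤ i
  · have := isIso_homology_truncGEπ X b i hi
    exact P.prop_of_iso
      (asIso ((homologyFunctor 𝒜 i).map ((TStructure.t.truncGEπ b).app X))) (hX i)
  · exact P.prop_of_isZero
      (isZero_of_isGE ((TStructure.t.truncGE b).obj X) b i (by omega))

end Der

section Main

variable {C : Type u} [SmallCategory C] {J : GrothendieckTopology C} {O_C : Sheaf J CommRingCat.{u}}
  {D : Type u} [SmallCategory D] {K : GrothendieckTopology D} {O_D : Sheaf K CommRingCat.{u}}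
  [HasDerivedCategory.{w} (Mod O_C)] [HasDerivedCategory.{w'} (Mod O_D)]
  {F : Mod O_D ⥤ Mod O_C} [F.Additive] [PreservesFiniteLimits F] [PreservesFiniteColimits F]
  {R : DerivedCategory (Mod O_C) ⥤ DerivedCategory (Mod O_D)}
  (adj : F.mapDerivedCategory ⊣ R)
  (A : ObjectProperty (Mod O_C)) [WSerre.IsWeakSerre A]
  (A' : ObjectProperty (Mod O_D)) [WSerre.IsWeakSerre A']
  (h2a : ∀ F' : Mod O_D, A' F' → A (F.obj F'))
  (h2b : ∀ F' G' : Mod O_D, A' F' → A' G' → Function.Bijective (fun φ : F' ⟶ G' => F.map φ))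
  (h2c : ∀ M : Mod O_C, A M → ∃ F' : Mod O_D, A' F' ∧ Nonempty (F.obj F' ≅ M))
  (h3 : ∀ F' : Mod O_D, A' F' → IsIso (adj.unit.app ((singleFunctor (Mod O_D) 0).obj F')))

include adj h2a h2b h2c h3 in
/-- vanishing of cohomology is preserved by `R` on `D^+_A`. -/
lemma isZero_homology_R (X : DerivedCategory (Mod O_C)) (hX : WSerre.cohInPlus A X) (i : ℤ)
    (hz : IsZero ((homologyFunctor (Mod O_C) i).obj X)) :
    IsZero ((homologyFunctor (Mod O_D) i).obj (R.obj X)) := by
  obtain ⟨⟨hRX, _⟩, hcounit⟩ := (plus_equiv adj A' A h2a h2c h3).2 X hX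
  have hM := hRX i
  have e : F.obj ((homologyFunctor (Mod O_D) i).obj (R.obj X)) ≅
      (homologyFunctor (Mod O_C) i).obj X :=
    (Devissage.homologyMapIso F (R.obj X) i).symm ≪≫
      (homologyFunctor (Mod O_C) i).mapIso (asIso (adj.counit.app X))
  have hz' : IsZero (F.obj ((homologyFunctor (Mod O_D) i).obj (R.obj X))) := hz.of_iso e
  rw [IsZero.iff_id_eq_zero]
  apply (h2b _ _ hM hM).1
  change F.map (𝟙 _) = F.map 0
  rw [F.map_id, F.map_zero]
  exact hz'.eq_of_src _ _

variable (B : Set C)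
  (hB : ∀ U : C, ∃ (ι : Type u) (Y : ι → C) (g : ∀ i, Y i ⟶ U), Sieve.ofArrows Y g ∈ J U ∧
    ∀ i, Y i ∈ B)
  (hA : ∀ V ∈ B, ∃ d : ℕ, ∀ T ∈ J V, ∃ (ι : Type u) (Y : ι → C) (g : ∀ i, Y i ⟶ V),
    (∀ i, T.arrows (g i)) ∧ Sieve.ofArrows Y g ∈ J V ∧
    ∀ (i : ι) (M : Mod O_C), A M → ∀ k : ℕ, d < k → Subsingleton (ModSite.HU O_C M k (Y i)))
  (B' : Set D)
  (hB' : ∀ U : D, ∃ (ι : Type u) (Y : ι → D) (g : ∀ i, Y i ⟶ U), Sieve.ofArrows Y g ∈ K U ∧
    ∀ i, Y i ∈ B')
  (hA' : ∀ V ∈ B', ∃ d : ℕ, ∀ T ∈ K V, ∃ (ι : Type u) (Y : ι → D) (g : ∀ i, Y i ⟶ V),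
    (∀ i, T.arrows (g i)) ∧ Sieve.ofArrows Y g ∈ K V ∧
    ∀ (i : ι) (M : Mod O_D), A' M → ∀ k : ℕ, d < k → Subsingleton (ModSite.HU O_D M k (Y i)))

include adj h2a h2b h2c h3 hB hA hB' hA' in
/-- `R` has cohomological dimension `0` on `D_A`. -/
theorem isLE_R (X : DerivedCategory (Mod O_C)) (hX : WSerre.cohIn A X) (b : ℤ) [X.IsLE b] :
    (R.obj X).IsLE b := by
  let _ := adj.rightAdjointCommShift ℤ
  have := adj.commShift_of_leftAdjoint ℤ
  have : R.IsTriangulated := adj.isTriangulated_rightAdjoint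
  haveI : PreservesLimitsOfShape (Discrete ℕ) R :=
    (adj.rightAdjoint_preservesLimits).preservesLimitsOfShape
  haveI : HasProduct (CohCx.truncTower X) := hasProduct_derived O_C _
  haveI : HasProduct (fun n => R.obj (CohCx.truncTower X n)) := hasProduct_derived O_D _
  have hRlim : CohCx.IsRlimVia (CohCx.truncTower X) (CohCx.truncTowerMap X) X
      (CohCx.toTruncTower X) := by
    refine Groth.Agent.Lib.Helper34.ModTruncRlim.main_site X B hB ?_
    intro V hV
    obtain ⟨d, hd⟩ := hA V hV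
    refine ⟨fun m => (d : ℤ) + max m 0, fun T' hT => ?_⟩
    obtain ⟨ι, Yc, g, hg, hcov, hv⟩ := hd T' hT
    refine ⟨ι, Yc, g, hg, hcov, fun i m k hk => ?_⟩
    have hk' : (d : ℤ) + max m 0 < (k : ℤ) := hk
    exact hv i _ (hX (m - k)) k (by omega)
  have hR := isRlimVia_map R _ _ X _ hRlim
  -- the truncations are in `D^+_A`
  have hXn : ∀ n, WSerre.cohInPlus A (CohCx.truncTower X n) := fun n =>
    ⟨cohIn_truncGE A hX _, ⟨-(n : ℤ), inferInstance⟩⟩
  have hK : ∀ n, WSerre.cohInPlus A' (R.obj (CohCx.truncTower X n)) := fun n =>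
    ((plus_equiv adj A' A h2a h2c h3).2 _ (hXn n)).1
  have hconst : ∀ j : ℤ, ∃ n₀ : ℕ, ∀ n, n₀ ≤ n →
      IsIso ((homologyFunctor (Mod O_D) j).map (R.map (CohCx.truncTowerMap X n))) := by
    intro j
    refine ⟨(-j).toNat, fun n hn => ?_⟩
    obtain ⟨Fib, f, h, hT, hGE, hLE, ⟨e⟩⟩ := exists_fiber X n
    have hT' := R.map_distinguished _ hT
    have hFib : WSerre.cohInPlus A Fib := by
      refine ⟨fun i => ?_, ⟨-(n : ℤ) - 1, hGE⟩⟩
      by_cases hi : i = -(n : ℤ) - 1
      · subst hi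
        exact A.prop_of_iso e.symm (hX _)
      · rcases lt_or_gt_of_ne hi with h' | h'
        · exact A.prop_of_isZero (isZero_of_isGE Fib (-(n : ℤ) - 1) i h')
        · exact A.prop_of_isZero (isZero_of_isLE Fib (-(n : ℤ) - 1) i h')
    have hLE' : (R.obj Fib).IsLE (-(n : ℤ) - 1) := by
      rw [isLE_iff]
      intro i hi
      exact isZero_homology_R adj A A' h2a h2b h2c h3 Fib hFib i
        (isZero_of_isLE Fib (-(n : ℤ) - 1) i hi)
    exact isIso_homology_mor₂_of_isLE _ hT' (-(n : ℤ)) j (by omega) hLE'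
  rw [isLE_iff]
  intro j hj
  obtain ⟨n₀, hn₀⟩ := Groth.Agent.Lib.Helper34.ModRlimConst.main A'
    (fun n => R.obj (CohCx.truncTower X n)) (fun n => R.map (CohCx.truncTowerMap X n))
    (R.obj X) (fun n => R.map (CohCx.toTruncTower X n)) hR B' hB' hA' hK hconst j
  let n := max n₀ (-j).toNat
  have h1 := hn₀ n (le_max_left _ _)
  have h2 : IsZero ((homologyFunctor (Mod O_C) j).obj (CohCx.truncTower X n)) := by
    have := isIso_homology_toTruncTower X n j (by
      have : (-j).toNat ≤ n := le_max_right _ _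
      omega)
    exact (isZero_of_isLE X b j hj).of_iso
      (asIso ((homologyFunctor (Mod O_C) j).map (CohCx.toTruncTower X n))).symm
  have h3' := isZero_homology_R adj A A' h2a h2b h2c h3 _ (hXn n) j h2
  exact h3'.of_iso (asIso ((homologyFunctor (Mod O_D) j).map (R.map (CohCx.toTruncTower X n))))

include adj h2a h2b h2c h3 hB hA hB' hA' in
/-- the unbounded equivalence `D_{A'}(O_D) ≃ D_A(O_C)`. -/
theorem main :
    (∀ Y : DerivedCategory (Mod O_D), WSerre.cohIn A' Y →
      WSerre.cohIn A (F.mapDerivedCategory.obj Y) ∧ IsIso (adj.unit.app Y)) ∧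
    (∀ X : DerivedCategory (Mod O_C), WSerre.cohIn A X →
      WSerre.cohIn A' (R.obj X) ∧ IsIso (adj.counit.app X)) := by
  let _ := adj.rightAdjointCommShift ℤ
  have := adj.commShift_of_leftAdjoint ℤ
  have : R.IsTriangulated := adj.isTriangulated_rightAdjoint
  have hle := fun (X : DerivedCategory (Mod O_C)) (hX : WSerre.cohIn A X) (b : ℤ)
      (h : X.IsLE b) =>
    haveI := h
    isLE_R adj A A' h2a h2b h2c h3 B hB hA B' hB' hA' X hX b
  have hplus := plus_equiv adj A' A h2a h2c h3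
  have hΦ : ∀ Y : DerivedCategory (Mod O_D), WSerre.cohIn A' Y →
      WSerre.cohIn A (F.mapDerivedCategory.obj Y) := fun Y hY i =>
    A.prop_of_iso (Devissage.homologyMapIso F Y i).symm (h2a _ (hY i))
  refine ⟨fun Y hY => ⟨hΦ Y hY, ?_⟩, fun X hX => ?_⟩
  · rw [DerivedCategory.isIso_iff]
    intro j
    have hT := TStructure.t.triangleLTGE_distinguished j Y
    have hT' := R.map_distinguished _ (F.mapDerivedCategory.map_distinguished _ hT)
    have hLT : WSerre.cohIn A' ((TStructure.t.truncLT j).obj Y) := cohIn_truncLT A' hY j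
    have hLE1 : (F.mapDerivedCategory.obj ((TStructure.t.truncLT j).obj Y)).IsLE (j - 1) :=
      map_isLE F _ _
    have hLE2 : (R.obj (F.mapDerivedCategory.obj ((TStructure.t.truncLT j).obj Y))).IsLE (j - 1) :=
      hle _ (hΦ _ hLT) _ hLE1
    have h1 : IsIso ((homologyFunctor (Mod O_D) j).map
        (R.map (F.mapDerivedCategory.map ((TStructure.t.truncGEπ j).app Y)))) :=
      isIso_homology_mor₂_of_isLE _ hT' j j le_rfl hLE2
    have h2 : IsIso ((homologyFunctor (Mod O_D) j).map ((TStructure.t.truncGEπ j).app Y)) :=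
      isIso_homology_truncGEπ Y j j le_rfl
    have hGE : WSerre.cohInPlus A' ((TStructure.t.truncGE j).obj Y) :=
      ⟨cohIn_truncGE A' hY j, ⟨j, inferInstance⟩⟩
    have h3' : IsIso (adj.unit.app ((TStructure.t.truncGE j).obj Y)) := (hplus.1 _ hGE).2
    have hnat := adj.unit.naturality ((TStructure.t.truncGEπ j).app Y)
    have hnat' : (homologyFunctor (Mod O_D) j).map (adj.unit.app Y) ≫
        (homologyFunctor (Mod O_D) j).map
          (R.map (F.mapDerivedCategory.map ((TStructure.t.truncGEπ j).app Y))) =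
        (homologyFunctor (Mod O_D) j).map ((TStructure.t.truncGEπ j).app Y) ≫
          (homologyFunctor (Mod O_D) j).map (adj.unit.app ((TStructure.t.truncGE j).obj Y)) := by
      rw [← Functor.map_comp, ← Functor.map_comp]
      congr 1
      exact hnat.symm
    exact IsIso.of_isIso_fac_right hnat'
  · have hiso : ∀ j : ℤ, IsIso ((homologyFunctor (Mod O_D) j).map
        (R.map ((TStructure.t.truncGEπ j).app X))) ∧
        IsIso ((homologyFunctor (Mod O_C) j).map
          (F.mapDerivedCategory.map (R.map ((TStructure.t.truncGEπ j).app X)))) := by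
      intro j
      have hT := TStructure.t.triangleLTGE_distinguished j X
      have hT' := R.map_distinguished _ hT
      have hT'' := F.mapDerivedCategory.map_distinguished _ hT'
      have hLT : WSerre.cohIn A ((TStructure.t.truncLT j).obj X) := cohIn_truncLT A hX j
      have hLE1 : (R.obj ((TStructure.t.truncLT j).obj X)).IsLE (j - 1) :=
        hle _ hLT _ inferInstance
      have hLE2 : (F.mapDerivedCategory.obj (R.obj ((TStructure.t.truncLT j).obj X))).IsLE
          (j - 1) := by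
        haveI := hLE1
        exact map_isLE F _ _
      exact ⟨isIso_homology_mor₂_of_isLE _ hT' j j le_rfl hLE1,
        isIso_homology_mor₂_of_isLE _ hT'' j j le_rfl hLE2⟩
    have hGE : ∀ j : ℤ, WSerre.cohInPlus A ((TStructure.t.truncGE j).obj X) := fun j =>
      ⟨cohIn_truncGE A hX j, ⟨j, inferInstance⟩⟩
    refine ⟨fun j => ?_, ?_⟩
    · have := (hiso j).1
      exact A'.prop_of_iso (asIso ((homologyFunctor (Mod O_D) j).map
        (R.map ((TStructure.t.truncGEπ j).app X)))).symm ((hplus.2 _ (hGE j)).1.1 j)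
    · rw [DerivedCategory.isIso_iff]
      intro j
      have h1 := (hiso j).2
      have h2 : IsIso ((homologyFunctor (Mod O_C) j).map ((TStructure.t.truncGEπ j).app X)) :=
        isIso_homology_truncGEπ X j j le_rfl
      have h3' : IsIso (adj.counit.app ((TStructure.t.truncGE j).obj X)) := (hplus.2 _ (hGE j)).2
      have hnat := adj.counit.naturality ((TStructure.t.truncGEπ j).app X)
      have hnat' : (homologyFunctor (Mod O_C) j).map (adj.counit.app X) ≫
          (homologyFunctor (Mod O_C) j).map ((TStructure.t.truncGEπ j).app X) =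
          (homologyFunctor (Mod O_C) j).map
            (F.mapDerivedCategory.map (R.map ((TStructure.t.truncGEπ j).app X))) ≫
          (homologyFunctor (Mod O_C) j).map
            (adj.counit.app ((TStructure.t.truncGE j).obj X)) := by
        rw [← Functor.map_comp, ← Functor.map_comp]
        congr 1
        exact hnat.symm
      exact IsIso.of_isIso_fac_right hnat'

end Main

end Groth.Agent.Lib.Helper34.ModUnbdd
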