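import Groth.Agent.Lib.Helper34.RDSingle
import Groth.Agent.Lib.Helper34.ModPushFinal
import Groth.Agent.Lib.Helper34.ModUnbdd
import Groth.Agent.Lib.Helper32.AdjDevissage

/-!
# The total right derived functor of an additive functor of finite cohomological dimension on a
weak Serre subcategory: bounded complexes
-/

set_option autoImplicit false
universe w w' v v' u u'
open CategoryTheory CategoryTheory.Limits DerivedCategory Pretriangulated

namespace Groth.Agent.Lib.Helper34.RDBdd

variable {A : Type (u + 1)} [Category.{u} A] [Abelian A] [HasDerivedCategory.{w} A]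
  [IsGrothendieckAbelian.{u} A]
  {B : Type u'} [Category.{v'} B] [Abelian B] [HasDerivedCategory.{w'} B]
  (F : A ⥤ B) [F.Additive]

/-- a triangulated model of the total right derived functor. -/
theorem exists_model :
    ∃ (R' : DerivedCategory A ⥤ DerivedCategory B) (_ : R'.CommShift ℤ)
      (β' : F.mapHomotopyCategory (ComplexShape.up ℤ) ⋙ DerivedCategory.Qh ⟶
        DerivedCategory.Qh ⋙ R'),
      R'.IsTriangulated ∧
        R'.IsRightDerivedFunctor β' (HomotopyCategory.quasiIso A (ComplexShape.up ℤ)) := by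
  have hKinj : ∀ K : CochainComplex A ℤ, ∃ (I : CochainComplex A ℤ)
      (g : K ⟶ I), I.IsKInjective ∧ QuasiIso g := by
    intro K
    obtain ⟨I, g, hI, hg, -, -⟩ :=
      Groth.Agent.Lib.Helper99.KInj.exists_kInjective_resolution K
    exact ⟨I, g, hI, hg⟩
  obtain ⟨ρ, ⟨adj⟩⟩ : ∃ ρ : DerivedCategory A ⥤
      HomotopyCategory A (ComplexShape.up ℤ),
      Nonempty ((DerivedCategory.Qh : HomotopyCategory A (ComplexShape.up ℤ) ⥤ _) ⊣ ρ) :=
    ⟨_, ⟨Groth.Agent.S1032.rAdj hKinj⟩⟩
  let _ := adj.rightAdjointCommShift ℤ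
  have := adj.commShift_of_leftAdjoint ℤ
  have : ρ.IsTriangulated := adj.isTriangulated_rightAdjoint
  haveI : (F.mapHomotopyCategory (ComplexShape.up ℤ) ⋙
      (DerivedCategory.Qh : _ ⥤ DerivedCategory B)).IsTriangulated :=
    Groth.Agent.Lib.Helper34.ModPushFinal.isTriangulated_comp'
      (F.mapHomotopyCategory (ComplexShape.up ℤ)) DerivedCategory.Qh
  haveI : (ρ ⋙ F.mapHomotopyCategory (ComplexShape.up ℤ) ⋙
      (DerivedCategory.Qh : _ ⥤ DerivedCategory B)).IsTriangulated :=
    Groth.Agent.Lib.Helper34.ModPushFinal.isTriangulated_comp' ρ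
      (F.mapHomotopyCategory (ComplexShape.up ℤ) ⋙ DerivedCategory.Qh)
  refine ⟨ρ ⋙ F.mapHomotopyCategory (ComplexShape.up ℤ) ⋙ DerivedCategory.Qh,
    inferInstance, KanAbsL.canUnit adj (F.mapHomotopyCategory (ComplexShape.up ℤ) ⋙
        (DerivedCategory.Qh : _ ⥤ DerivedCategory B)), inferInstance, ⟨?_⟩⟩
  exact KanAbsL.isLeftKanExtension_of_adjunction adj _

section Tri

variable (R : DerivedCategory A ⥤ DerivedCategory B) [R.CommShift ℤ] [R.IsTriangulated]
  (β : F.mapHomotopyCategory (ComplexShape.up ℤ) ⋙ DerivedCategory.Qh ⟶ DerivedCategory.Qh ⋙ R)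
  [R.IsRightDerivedFunctor β (HomotopyCategory.quasiIso A (ComplexShape.up ℤ))]
  [HasInjectiveResolutions A]

include β in
/-- `RF(M[0])` is concentrated in degrees `≥ 0`. -/
lemma isGE_single (M : A) : (R.obj ((singleFunctor A 0).obj M)).IsGE 0 := by
  let I := injectiveResolution M
  haveI : I.cochainComplex.IsKInjective := CochainComplex.isKInjective_of_injective _ 0
  haveI := Groth.Agent.Lib.Helper6.RFAcyc.isIso_bC_of_isKInjective F R β I.cochainComplex
  haveI : IsIso (Q.map I.ι') := by
    rw [isIso_Q_map_iff_quasiIso]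
    infer_instance
  let e1 : (singleFunctor A 0).obj M ≅ Q.obj I.cochainComplex :=
    (singleFunctorIsoCompQ A 0).app M ≪≫ asIso (Q.map I.ι')
  let e2 : Q.obj ((F.mapHomologicalComplex (ComplexShape.up ℤ)).obj I.cochainComplex) ≅
      R.obj (Q.obj I.cochainComplex) :=
    asIso ((Groth.Agent.Lib.Helper6.RFAcyc.bC F R β).app I.cochainComplex)
  haveI : CochainComplex.IsStrictlyGE
      ((F.mapHomologicalComplex (ComplexShape.up ℤ)).obj I.cochainComplex) 0 :=
    inferInstance
  haveI : (Q.obj ((F.mapHomologicalComplex (ComplexShape.up ℤ)).obj I.cochainComplex)).IsGE 0 := by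
    rw [isGE_Q_obj_iff]
    infer_instance
  exact TStructure.t.isGE_of_iso (e2 ≪≫ R.mapIso e1.symm) 0

include β in
/-- `H^{a+p}(RF(M[-a])) = R^p F (M)`. -/
lemma nonempty_homology_single_iso (M : A) (a : ℤ) (p : ℕ) (m : ℤ) (hm : m = a + p) :
    Nonempty ((homologyFunctor B m).obj (R.obj ((singleFunctor A a).obj M)) ≅
      (F.rightDerived p).obj M) := by
  obtain ⟨e0⟩ := Groth.Agent.Lib.Helper34.RDSingle.nonempty_homology_single_iso F R β M p
  let e1 : ((singleFunctor A 0).obj M)⟦-a⟧ ≅ (singleFunctor A a).obj M :=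
    ((singleFunctors A).shiftIso (-a) a 0 (by omega)).app M
  let e2 : R.obj (((singleFunctor A 0).obj M)⟦-a⟧) ≅
      (R.obj ((singleFunctor A 0).obj M))⟦-a⟧ :=
    (R.commShiftIso (-a)).app _
  let e3 : (homologyFunctor B m).obj
      ((R.obj ((singleFunctor A 0).obj M))⟦-a⟧) ≅
      (homologyFunctor B (p : ℤ)).obj (R.obj ((singleFunctor A 0).obj M)) :=
    ((homologyFunctor B 0).shiftIso (-a) m p (by omega)).app _
  exact ⟨(homologyFunctor B m).mapIso (R.mapIso e1.symm ≪≫ e2) ≪≫ e3 ≪≫ e0⟩

include β in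
/-- `H^m(RF(M[-a])) = 0` for `m < a`. -/
lemma isZero_homology_single_neg (M : A) (a m : ℤ) (hm : m < a) :
    IsZero ((homologyFunctor B m).obj (R.obj ((singleFunctor A a).obj M))) := by
  let e1 : ((singleFunctor A 0).obj M)⟦-a⟧ ≅ (singleFunctor A a).obj M :=
    ((singleFunctors A).shiftIso (-a) a 0 (by omega)).app M
  let e2 : R.obj (((singleFunctor A 0).obj M)⟦-a⟧) ≅
      (R.obj ((singleFunctor A 0).obj M))⟦-a⟧ :=
    (R.commShiftIso (-a)).app _
  let e3 : (homologyFunctor B m).obj
      ((R.obj ((singleFunctor A 0).obj M))⟦-a⟧) ≅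
      (homologyFunctor B (m - a)).obj (R.obj ((singleFunctor A 0).obj M)) :=
    ((homologyFunctor B 0).shiftIso (-a) m (m - a) (by omega)).app _
  haveI := isGE_single F R β M
  refine IsZero.of_iso (isZero_of_isGE _ 0 (m - a) (by omega))
    ((homologyFunctor B m).mapIso (R.mapIso e1.symm ≪≫ e2) ≪≫ e3)

variable (P : ObjectProperty A) [WSerre.IsWeakSerre P] (N : ℕ)
  (hF : ∀ G : A, P G → ∀ p : ℕ, N ≤ p → IsZero ((F.rightDerived p).obj G))

include β hF in
/-- the case of an object concentrated in one degree. -/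
lemma isZero_homology_of_single (a : ℤ) (E : DerivedCategory A) (hE : WSerre.cohIn P E)
    [E.IsGE a] [E.IsLE a] (i : ℤ) (hi : i < a ∨ a + N - 1 < i) :
    IsZero ((homologyFunctor B i).obj (R.obj E)) := by
  obtain ⟨M, ⟨e⟩⟩ := exists_iso_singleFunctor_obj_of_isGE_of_isLE E a
  have hM : P M := P.prop_of_iso ((homologyFunctor A a).mapIso e ≪≫
    (singleFunctorCompHomologyFunctorIso A a).app M) (hE a)
  refine IsZero.of_iso ?_ ((homologyFunctor B i).mapIso (R.mapIso e))
  rcases hi with hi | hi
  · exact isZero_homology_single_neg F R β M a i hi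
  · obtain ⟨p, hp⟩ : ∃ p : ℕ, i = a + p := ⟨(i - a).toNat, by omega⟩
    obtain ⟨e'⟩ := nonempty_homology_single_iso F R β M a p i hp
    exact IsZero.of_iso (hF M hM p (by omega)) e'

include β hF in
/-- **bounded devissage**: cohomological amplitude of `RF` on bounded objects of `D_P`. -/
theorem isZero_homology_of_bdd : ∀ (n : ℕ) (a b : ℤ) (_ : b = a + n) (E : DerivedCategory A)
    (_ : WSerre.cohIn P E) [E.IsGE a] [E.IsLE b] (i : ℤ) (_ : i < a ∨ b + N - 1 < i),
    IsZero ((homologyFunctor B i).obj (R.obj E)) := by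
  intro n
  induction n with
  | zero =>
    intro a b hb E hE _ _ i hi
    have hb' : b = a := by simpa using hb
    subst hb'
    exact isZero_homology_of_single F R β P N hF b E hE i hi
  | succ n ih =>
    intro a b hb E hE _ _ i hi
    have hT := TStructure.t.triangleLTGE_distinguished b E
    have hT' := R.map_distinguished _ hT
    have hex := HomologySequence.exact₂ _ hT' i
    have h1 : IsZero ((homologyFunctor B i).obj (R.obj ((TStructure.t.truncLT b).obj E))) := by
      haveI : ((TStructure.t.truncLT b).obj E).IsGE a :=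
        inferInstanceAs (TStructure.t.IsGE ((TStructure.t.truncLT b).obj E) a)
      haveI : ((TStructure.t.truncLT b).obj E).IsLE (b - 1) :=
        inferInstanceAs (TStructure.t.IsLE ((TStructure.t.truncLT b).obj E) (b - 1))
      exact ih a (b - 1) (by push_cast at hb; omega) _
        (Groth.Agent.Lib.Helper34.ModUnbdd.cohIn_truncLT (P := P) hE b) i (by omega)
    have h3 : IsZero ((homologyFunctor B i).obj (R.obj ((TStructure.t.truncGE b).obj E))) := by
      haveI : ((TStructure.t.truncGE b).obj E).IsGE b :=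
        inferInstanceAs (TStructure.t.IsGE ((TStructure.t.truncGE b).obj E) b)
      haveI : ((TStructure.t.truncGE b).obj E).IsLE b :=
        inferInstanceAs (TStructure.t.IsLE ((TStructure.t.truncGE b).obj E) b)
      exact isZero_homology_of_single F R β P N hF b _
        (Groth.Agent.Lib.Helper34.ModUnbdd.cohIn_truncGE (P := P) hE b) i (by
          push_cast at hb
          omega)
    exact hex.isZero_of_both_isZero h1 h3

end Tri

variable [HasInjectiveResolutions A] (P : ObjectProperty A) [WSerre.IsWeakSerre P] (N : ℕ)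
  (hF : ∀ G : A, P G → ∀ p : ℕ, N ≤ p → IsZero ((F.rightDerived p).obj G))

include hF in
/-- the same for any total right derived functor. -/
theorem main (R : DerivedCategory A ⥤ DerivedCategory B)
    (β : F.mapHomotopyCategory (ComplexShape.up ℤ) ⋙ DerivedCategory.Qh ⟶ DerivedCategory.Qh ⋙ R)
    [R.IsRightDerivedFunctor β (HomotopyCategory.quasiIso A (ComplexShape.up ℤ))]
    (E : DerivedCategory A) (hE : WSerre.cohIn P E) (a b : ℤ)
    (hab : ∀ i : ℤ, i < a ∨ b < i → IsZero ((homologyFunctor A i).obj E))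
    (i : ℤ) (hi : i < a ∨ b + N - 1 < i) :
    IsZero ((homologyFunctor B i).obj (R.obj E)) := by
  obtain ⟨R', hs, β', htri, hder⟩ := exists_model F
  haveI hK : R.IsLeftKanExtension β :=
    Functor.IsRightDerivedFunctor.isLeftKanExtension _ _
      (HomotopyCategory.quasiIso A (ComplexShape.up ℤ))
  haveI hK' : R'.IsLeftKanExtension β' :=
    Functor.IsRightDerivedFunctor.isLeftKanExtension _ _
      (HomotopyCategory.quasiIso A (ComplexShape.up ℤ))
  let e : R' ≅ R := Functor.leftKanExtensionUnique R' β' R β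
  refine IsZero.of_iso ?_ ((homologyFunctor B i).mapIso (e.app E).symm)
  haveI : E.IsGE a := (isGE_iff E a).2 (fun j hj => hab j (Or.inl hj))
  haveI : E.IsLE b := (isLE_iff E b).2 (fun j hj => hab j (Or.inr hj))
  by_cases hle : a ≤ b
  · obtain ⟨n, hn⟩ : ∃ n : ℕ, b = a + n := ⟨(b - a).toNat, by omega⟩
    exact isZero_homology_of_bdd F R' β' P N hF n a b hn E hE i hi
  · have hz : IsZero E := TStructure.t.isZero E b a (by omega)
    exact (homologyFunctor B i).map_isZero (R'.map_isZero hz)

end Groth.Agent.Lib.Helper34.RDBdd
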