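import Groth.Agent.Lib.Helper6.RFAcyc2
import Groth.Agent.Lib.Helper6.SigmaGE
import Groth.Agent.Lib.Helper34.RDBdd

/-!
# The unit `F(K) ⟶ RF(K)` on unbounded complexes of acyclic objects, when `RF` has bounded
cohomological dimension on the brutal truncations of `K` (helper34)
-/

set_option autoImplicit false
universe w w' v' u u'
open CategoryTheory Limits Pretriangulated DerivedCategory

namespace Groth.Agent.Lib.Helper34.AcycUnit

open Groth.Agent.Lib.Helper6.RFAcyc Groth.Agent.Lib.Helper6.SigmaGE

variable {A : Type (u + 1)} [Category.{u} A] [Abelian A] [HasDerivedCategory.{w} A]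
  [IsGrothendieckAbelian.{u} A]
  {B : Type u'} [Category.{v'} B] [Abelian B] [HasDerivedCategory.{w'} B]
  (F : A ⥤ B) [F.Additive] [PreservesFiniteLimits F]
  (R : DerivedCategory A ⥤ DerivedCategory B) [R.CommShift ℤ] [R.IsTriangulated]
  (β : F.mapHomotopyCategory (ComplexShape.up ℤ) ⋙ DerivedCategory.Qh ⟶ DerivedCategory.Qh ⋙ R)
  [R.IsRightDerivedFunctor β (HomotopyCategory.quasiIso A (ComplexShape.up ℤ))]

/-- the brutal truncation short exact sequence `0 ⟶ σ≥b K ⟶ K ⟶ σ≤b-1 K ⟶ 0` -/
noncomputable def sesSg (K : CochainComplex A ℤ) (b : ℤ) : ShortComplex (CochainComplex A ℤ) :=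
  ShortComplex.mk (sgι K b) (π K (b - 1)) (kernel.condition _)

lemma epi_π (K : CochainComplex A ℤ) (a : ℤ) : Epi (π K a) := by
  apply HomologicalComplex.epi_of_epi_f
  intro i
  by_cases h : i ≤ a
  · haveI := isIso_π_f K a i h
    infer_instance
  · exact ⟨fun g h' _ => (isZero_stupidTrunc_X' K a i (by omega)).eq_of_src g h'⟩

lemma sesSg_shortExact (K : CochainComplex A ℤ) (b : ℤ) : (sesSg K b).ShortExact := by
  haveI : Epi (sesSg K b).g := epi_π K (b - 1)
  haveI : Mono (sesSg K b).f := inferInstanceAs (Mono (sgι K b))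
  exact ShortComplex.ShortExact.mk' (ShortComplex.exact_of_f_is_kernel _ (kernelIsKernel _))
    inferInstance inferInstance

/-- in a distinguished triangle whose third vertex has no cohomology in degrees `j - 1`, `j`, the
first map is an isomorphism on `H^j` -/
lemma isIso_homology_mor₁ (T : Triangle (DerivedCategory B)) (hT : T ∈ distTriang _) (j : ℤ)
    (h1 : IsZero ((homologyFunctor B (j - 1)).obj T.obj₃))
    (h2 : IsZero ((homologyFunctor B j).obj T.obj₃)) :
    IsIso ((homologyFunctor B j).map T.mor₁) := by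
  have hm : Mono ((homologyFunctor B j).map T.mor₁) := by
    refine (HomologySequence.mono_homologyMap_mor₁_iff _ hT (j - 1) j (by omega)).2 ?_
    exact h1.eq_of_src _ _
  have he : Epi ((homologyFunctor B j).map T.mor₁) := by
    refine (HomologySequence.epi_homologyMap_mor₁_iff _ hT j).2 ?_
    exact h2.eq_of_tgt _ _
  exact isIso_of_mono_of_epi _

include β in
theorem isIso_bC_of_acyclic_of_bound [HasInjectiveResolutions A] (K : CochainComplex A ℤ)
    (hK : ∀ (m : ℤ) (i : ℕ), 0 < i → IsZero ((F.rightDerived i).obj (K.X m)))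
    (N : ℕ) (hN : ∀ (a i : ℤ), a + N < i → IsZero ((homologyFunctor B i).obj
      (R.obj (Q.obj (K.stupidTrunc (ComplexShape.embeddingUpIntLE a)))))) :
    IsIso ((bC F R β).app K) := by
  rw [DerivedCategory.isIso_iff]
  intro j
  let b : ℤ := j - N - 1
  have hS := sesSg_shortExact K b
  have hT := triangleOfSES_distinguished hS
  have hT' := R.map_distinguished _ hT
  -- `H^j(R(σ≥b K)) ≅ H^j(R K)`
  have i1 : IsIso ((homologyFunctor B j).map (R.map (Q.map (sgι K b)))) :=
    isIso_homology_mor₁ (R.mapTriangle.obj (triangleOfSES hS)) hT' j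
      (hN (b - 1) (j - 1) (by omega)) (hN (b - 1) j (by omega))
  -- the unit on `σ≥b K`
  have hK' : ∀ (m : ℤ) (i : ℕ), 0 < i → IsZero ((F.rightDerived i).obj ((sg K b).X m)) := by
    intro m i hi
    by_cases hm : m < b
    · exact (F.rightDerived i).map_isZero (isZero_sg_X K b m hm)
    · haveI := isIso_sgι_f K b m (by omega)
      exact (hK m i hi).of_iso ((F.rightDerived i).mapIso (asIso ((sgι K b).f m)))
  have i2 : IsIso ((bC F R β).app (sg K b)) := isIso_bC_of_isStrictlyGE F R β (sg K b) b hK'
  -- `H^j(F(σ≥b K)) ≅ H^j(F K)`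
  have hq : QuasiIsoAt ((F.mapHomologicalComplex (ComplexShape.up ℤ)).map (sgι K b)) j :=
    Groth.Agent.Lib.Helper6.RFAcyc2.quasiIsoAt_of_isIso_f _ j (fun i hi => by
      haveI := isIso_sgι_f K b i (by omega)
      change IsIso (F.map ((sgι K b).f i))
      infer_instance)
  have i3 : IsIso ((homologyFunctor B j).map
      (Q.map ((F.mapHomologicalComplex (ComplexShape.up ℤ)).map (sgι K b)))) := by
    have h := NatIso.naturality_2 (homologyFunctorFactors B j)
      ((F.mapHomologicalComplex (ComplexShape.up ℤ)).map (sgι K b))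
    dsimp only [Functor.comp_map] at h
    haveI : IsIso ((HomologicalComplex.homologyFunctor B (ComplexShape.up ℤ) j).map
        ((F.mapHomologicalComplex (ComplexShape.up ℤ)).map (sgι K b))) := by
      change IsIso (HomologicalComplex.homologyMap
        ((F.mapHomologicalComplex (ComplexShape.up ℤ)).map (sgι K b)) j)
      rw [← quasiIsoAt_iff_isIso_homologyMap]
      exact hq
    rw [← h]
    infer_instance
  have nat := (bC F R β).naturality (sgι K b)
  dsimp only [Functor.comp_map] at nat
  have key : (homologyFunctor B j).map ((bC F R β).app K) =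
      inv ((homologyFunctor B j).map
        (Q.map ((F.mapHomologicalComplex (ComplexShape.up ℤ)).map (sgι K b)))) ≫
      (homologyFunctor B j).map ((bC F R β).app (sg K b)) ≫
      (homologyFunctor B j).map (R.map (Q.map (sgι K b))) := by
    rw [IsIso.eq_inv_comp, ← Functor.map_comp, ← Functor.map_comp, nat]
  rw [key]
  infer_instance

end Groth.Agent.Lib.Helper34.AcycUnit
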