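import Groth.Agent.Lib.Helper34.BigEt
import Groth.Agent.Lib.Cohomology.Helper3_RDerComp
import Groth.Agent.Lib.Cohomology.Helper3_RDerComp2
import Groth.Agent.Lib.Helper43.BigSiteBC
import Groth.Agent.Lib.Helper43.BigSmallBC

/-!
# Base change for higher direct images on big sites (formal part)

Generic lemma `nonempty_bc_rightDerived`: given a natural isomorphism `G ⋙ E ≅ F ⋙ G'` with
`E`, `F` exact, `F` preserving injectives, `G`, `G'` left exact, we get
`Rⁿ G ⋙ E ≅ F ⋙ Rⁿ G'`.
-/

set_option autoImplicit false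
universe v₁ v₂ v₃ v₄ u₁ u₂ u₃ u₄ u
open CategoryTheory CategoryTheory.Limits AlgebraicGeometry Opposite

namespace Groth.Agent.Lib.Helper34.BigBC

section generic

variable {C₁ : Type u₁} [Category.{v₁} C₁] [Abelian C₁] [EnoughInjectives C₁]
  {C₂ : Type u₂} [Category.{v₂} C₂] [Abelian C₂]
  {C₃ : Type u₃} [Category.{v₃} C₃] [Abelian C₃] [EnoughInjectives C₃]
  {C₄ : Type u₄} [Category.{v₄} C₄] [Abelian C₄] [EnoughInjectives C₄]
  (G : C₁ ⥤ C₂) [G.Additive] [PreservesFiniteLimits G]
  (E : C₂ ⥤ C₄) [E.Additive] [PreservesFiniteLimits E] [PreservesFiniteColimits E]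
  (F : C₁ ⥤ C₃) [F.Additive] [PreservesFiniteLimits F] [PreservesFiniteColimits F]
  (G' : C₃ ⥤ C₄) [G'.Additive] [PreservesFiniteLimits G']

/-- formal base change for right derived functors -/
theorem nonempty_bc_rightDerived (e : G ⋙ E ≅ F ⋙ G')
    (hF : ∀ I : C₁, Injective I → Injective (F.obj I)) (n : ℕ) :
    Nonempty (G.rightDerived n ⋙ E ≅ F ⋙ G'.rightDerived n) := by
  obtain ⟨e1⟩ := Groth.Agent.Lib.Cohomology.RDerComp.nonempty_rightDerived_post_iso G E n
  obtain ⟨e3⟩ := Groth.Agent.Lib.Cohomology.RDerComp.nonempty_rightDerived_comp_iso F G'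
    (fun k I hI => by
      haveI := hF I hI
      exact G'.isZero_rightDerived_obj_injective_succ k (F.obj I)) n
  exact ⟨e1.symm ≪≫ Groth.Agent.Lib.Cohomology.RDerComp.rightDerivedIso e n ≪≫ e3⟩

end generic

section big

variable (K : Precoverage Scheme.{u}) {S T : Scheme.{u}} (f : T ⟶ S)

instance : PreservesFiniteColimits (BigSite.pullBig K f AddCommGrpCat.{u + 1}) :=
  have := (BigSite.bigAdj K f AddCommGrpCat.{u + 1}).leftAdjoint_preservesColimits
  inferInstance

end big

end Groth.Agent.Lib.Helper34.BigBC
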