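import Groth.Prelude.Def_BigSite
import Groth.Agent.Lib.Helper68.ShriekGen

/-!
# `f_big!` on abelian sheaves of the big sites is exact
-/

set_option autoImplicit false
universe u
open CategoryTheory CategoryTheory.Limits AlgebraicGeometry Opposite

namespace Groth.Agent.Lib.Helper34.BigShriek

variable {X Y : Scheme.{u}} (f : X ⟶ Y)

/-- `Over X ≌ Over (Over.mk f)`, the iterated slice. -/
noncomputable def equiv : Over X ≌ Over (Over.mk f) := (Over.iteratedSliceEquiv (Over.mk f)).symm

/-- the equivalence is compatible with `Over.map f` -/
noncomputable def equivIso : (equiv f).functor ⋙ Over.forget (Over.mk f) ≅ Over.map f :=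
  NatIso.ofComponents (fun V => Iso.refl _) (by
    intro V V' g
    simp only [Iso.refl_hom]
    rfl)

instance ab4Small : AB4OfSize.{u} AddCommGrpCat.{u + 1} :=
  AB4OfSize_shrink.{u, u + 1} AddCommGrpCat.{u + 1}

variable (K : Precoverage Scheme.{u})

instance preservesMonomorphisms_shriekAb : (BigSite.shriekAb K f).PreservesMonomorphisms :=
  Groth.Agent.Lib.Helper68.ShriekGen.preservesMonomorphisms_sheafPullback (equiv f) (equivIso f)
    AddCommGrpCat.{u + 1} (QuotSh.J K X) (QuotSh.J K Y)

instance additive_shriekAb : (BigSite.shriekAb K f).Additive :=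
  (BigSite.shriekAbAdj K f).left_adjoint_additive

instance preservesFiniteColimits_shriekAb : PreservesFiniteColimits (BigSite.shriekAb K f) :=
  have := (BigSite.shriekAbAdj K f).leftAdjoint_preservesColimits
  inferInstance

/-- `f_big!` is exact on abelian sheaves. -/
theorem preservesFiniteLimits_shriekAb : PreservesFiniteLimits (BigSite.shriekAb K f) :=
  Groth.Agent.Lib.Helper68.JShriek.preservesFiniteLimits_of_preservesMonomorphisms _

end Groth.Agent.Lib.Helper34.BigShriek
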