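import Groth.Prelude.Def_BigSite
import Groth.Agent.Lib.Helper1.LanFlat
import Groth.Agent.Lib.Helper34.BigShriek
import Groth.Agent.Lib.Helper68.KInj

/-!
# Small etale site inside a big site: exactness of `π_S⁻¹`, restriction preserves (K-)injectives
-/

set_option autoImplicit false
universe u
open CategoryTheory CategoryTheory.Limits AlgebraicGeometry Opposite

namespace Groth.Agent.Lib.Helper34.BigEt

variable (K : Precoverage Scheme.{u}) (S : Scheme.{u})

noncomputable instance representablyFlat_a : RepresentablyFlat (EtFppf.a S) :=
  haveI : PreservesFiniteLimits (EtFppf.a S) :=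
    inferInstanceAs (PreservesFiniteLimits (Scheme.Etale.forget S))
  flat_of_preservesFiniteLimits _

section

variable [BigSite.AEtCont K S]

attribute [local instance] CategoryTheory.Limits.reflectsLimits_of_reflectsIsomorphisms in
set_option backward.isDefEq.respectTransparency.types false in
/-- `π_S⁻¹` is exact. -/
theorem preservesFiniteLimits_piEtPull : PreservesFiniteLimits (BigSite.piEtPull K S) := by
  haveI : PreservesFilteredColimitsOfSize.{u, u + 1} (forget AddCommGrpCat.{u + 1}) :=
    preservesFilteredColimitsOfSize_shrink.{u + 1, u + 1, u, u + 1} _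
  haveI : ∀ V : (Over S)ᵒᵖ, IsFiltered (CostructuredArrow (EtFppf.a S).op V) := fun V =>
    IsFiltered.of_equivalence (structuredArrowOpEquivalence (EtFppf.a S) (unop V))
  haveI : ∀ V : (Over S)ᵒᵖ, PreservesColimitsOfShape (CostructuredArrow (EtFppf.a S).op V)
      (forget AddCommGrpCat.{u + 1}) := fun V =>
    PreservesFilteredColimitsOfSize.preserves_filtered_colimits _
  haveI : PreservesFiniteLimits ((EtFppf.a S).op.lan :
      ((S.Etale)ᵒᵖ ⥤ AddCommGrpCat.{u + 1}) ⥤ ((Over S)ᵒᵖ ⥤ AddCommGrpCat.{u + 1})) :=
    Groth.Agent.Lib.Helper1.LanFlat.lan_preservesFiniteLimits_of_flat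
      (E := AddCommGrpCat.{u + 1}) (EtFppf.a S)
  exact Functor.sheafPullbackConstruction.preservesFiniteLimits (EtFppf.a S)
    AddCommGrpCat.{u + 1} S.smallEtaleTopology (QuotSh.J K S)

instance additive_piEtPull : (BigSite.piEtPull K S).Additive :=
  (BigSite.piEtAdj K S).left_adjoint_additive

instance preservesFiniteColimits_piEtPull : PreservesFiniteColimits (BigSite.piEtPull K S) :=
  have := (BigSite.piEtAdj K S).leftAdjoint_preservesColimits
  inferInstance

/-- restriction to the small etale site preserves injectives -/
theorem injective_resEt (I : BigSite.Ab K S) [Injective I] :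
    Injective ((BigSite.resEt K S).obj I) := by
  haveI := preservesFiniteLimits_piEtPull K S
  haveI : (BigSite.piEtPull K S).PreservesMonomorphisms := inferInstance
  exact Injective.injective_of_adjoint (BigSite.piEtAdj K S) I

/-- restriction to the small etale site preserves K-injectives -/
theorem isKInjective_resEt (I : CochainComplex (BigSite.Ab K S) ℤ) [I.IsKInjective] :
    CochainComplex.IsKInjective
      (((BigSite.resEt K S).mapHomologicalComplex (ComplexShape.up ℤ)).obj I) := by
  haveI := preservesFiniteLimits_piEtPull K S
  exact Groth.Agent.Lib.Helper68.KInj.isKInjective_map_of_adjunction (BigSite.piEtAdj K S) I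

end

section

variable {S} {T : Scheme.{u}} (f : T ⟶ S)

/-- `f_big⁻¹` preserves injectives -/
theorem injective_pullBig (I : BigSite.Ab K S) [Injective I] :
    Injective ((BigSite.pullBig K f AddCommGrpCat.{u + 1}).obj I) := by
  haveI := BigShriek.preservesMonomorphisms_shriekAb f K
  exact Injective.injective_of_adjoint (BigSite.shriekAbAdj K f) I

/-- `f_big⁻¹` preserves K-injectives -/
theorem isKInjective_pullBig (I : CochainComplex (BigSite.Ab K S) ℤ) [I.IsKInjective] :
    CochainComplex.IsKInjective
      (((BigSite.pullBig K f AddCommGrpCat.{u + 1}).mapHomologicalComplex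
        (ComplexShape.up ℤ)).obj I) := by
  haveI := BigShriek.preservesFiniteLimits_shriekAb f K
  exact Groth.Agent.Lib.Helper68.KInj.isKInjective_map_of_adjunction (BigSite.shriekAbAdj K f) I

end

end Groth.Agent.Lib.Helper34.BigEt
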