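import Groth.Agent.Lib.Helper34.BigEt
import Groth.Agent.Lib.Helper68.ExtAdj
import Groth.Agent.Lib.Helper19.PushCocontGlobal
import Groth.Prelude.Def_EtCore

/-!
# Cohomology on the big site vs the small etale site
-/

set_option autoImplicit false
universe u
open CategoryTheory CategoryTheory.Limits AlgebraicGeometry Opposite

namespace Groth.Agent.Lib.Helper34.BigEt

variable (K : Precoverage Scheme.{u}) (S : Scheme.{u}) [BigSite.AEtCont K S]

/-- global sections of the restriction are global sections -/
noncomputable def resEtSectionsIso :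
    BigSite.resEt K S ⋙ (sheafSections S.smallEtaleTopology AddCommGrpCat.{u + 1}).obj
        (op (EtCoh.top S)) ≅
      (sheafSections (QuotSh.J K S) AddCommGrpCat.{u + 1}).obj (op (Over.mk (𝟙 S))) :=
  NatIso.ofComponents (fun F => Iso.refl _) (by
    intro F G φ
    simp only [Iso.refl_hom]
    rfl)

/-- `π_S⁻¹` of a constant sheaf is the constant sheaf. -/
noncomputable def piEtPullConstIso :
    constantSheaf S.smallEtaleTopology AddCommGrpCat.{u + 1} ⋙ BigSite.piEtPull K S ≅
      constantSheaf (QuotSh.J K S) AddCommGrpCat.{u + 1} :=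
  (((constantSheafAdj S.smallEtaleTopology AddCommGrpCat.{u + 1} (EtCore.topIsTerminal S)).comp
      (BigSite.piEtAdj K S)).ofNatIsoRight (resEtSectionsIso K S)).leftAdjointUniq
    (constantSheafAdj (QuotSh.J K S) AddCommGrpCat.{u + 1} Over.mkIdTerminal)

end Groth.Agent.Lib.Helper34.BigEt
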