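import Groth.Agent.Lib.Helper34.Catenary

/-!
# Catenary posets and coheight as a dimension function (helper34)
-/

set_option autoImplicit false
universe u v

namespace Groth.Agent.Lib.Helper34

open Order

/-- a maximal-length chain starting at its head is saturated and ends at the top -/
theorem sat_of_length_eq_coheight {P : Type u} [PartialOrder P] [OrderTop P]
    (hfin : ∀ x : P, coheight x < ⊤) (s : LTSeries P) (hs : (s.length : ℕ∞) = coheight s.head) :
    (∀ i : Fin s.length, s (Fin.castSucc i) ⋖ s (Fin.succ i)) ∧ s.last = ⊤ := by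
  have hidx := coheight_eq_index_of_length_eq_head_coheight hs
  constructor
  · intro i
    refine ⟨s.step i, fun z hz1 hz2 => ?_⟩
    have h1 : coheight (s i.succ) < coheight z := coheight_strictAnti hz2 (hfin _)
    have h2 : coheight z < coheight (s i.castSucc) := coheight_strictAnti hz1 (hfin _)
    rw [hidx] at h1 h2
    rw [Fin.rev_succ] at h1
    rw [Fin.rev_castSucc] at h2
    have h3 : ((i.rev.castSucc : Fin (s.length + 1)) : ℕ∞) + 1 ≤ coheight z :=
      Order.add_one_le_of_lt h1
    have h4 : ((i.rev.succ : Fin (s.length + 1)) : ℕ∞) =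
        ((i.rev.castSucc : Fin (s.length + 1)) : ℕ∞) + 1 := by
      simp
    rw [h4] at h2
    exact absurd h3 (not_le.mpr h2)
  · have h0 := hidx (Fin.last _)
    rw [Fin.rev_last] at h0
    have h1 : s.toFun (Fin.last s.length) = ⊤ := by simpa using h0
    exact h1

/-- In a partial order with a top element and finite coheights, the catenary property says that the
coheight is a dimension function. -/
theorem posetCatenary_iff_coheight {P : Type u} [PartialOrder P] [OrderTop P]
    (hfin : ∀ x : P, coheight x < ⊤) :
    PosetCatenary P ↔ ∀ p q : P, p < q →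
      coheight q < coheight p ∧ (p ⋖ q → coheight p = coheight q + 1) := by
  constructor
  · intro hcat p q hpq
    refine ⟨coheight_strictAnti hpq (hfin q), fun hcov => ?_⟩
    apply le_antisymm _ (coheight_add_one_le hpq)
    obtain ⟨np, hnp⟩ := ENat.ne_top_iff_exists.mp (hfin p).ne
    obtain ⟨nq, hnq⟩ := ENat.ne_top_iff_exists.mp (hfin q).ne
    obtain ⟨s, hsh, hsl⟩ := exists_series_of_coheight_eq_coe p hnp.symm
    obtain ⟨t', hth, htl⟩ := exists_series_of_coheight_eq_coe q hnq.symm
    have hs := sat_of_length_eq_coheight hfin s (by rw [hsl, hsh, hnp])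
    have ht' := sat_of_length_eq_coheight hfin t' (by rw [htl, hth, hnq])
    -- the chain p ⋖ q = t'₀ < ...
    have hmono : StrictMono (Fin.cons p t'.toFun : Fin (t'.length + 1 + 1) → P) := by
      rw [Fin.strictMono_iff_lt_succ]
      intro i
      induction i using Fin.cases with
      | zero =>
        simp only [Fin.castSucc_zero, Fin.cons_zero, Fin.succ_zero_eq_one, Fin.cons_one]
        have : t'.toFun 0 = q := hth
        rw [this]; exact hpq
      | succ j =>
        rw [← Fin.succ_castSucc, Fin.cons_succ, Fin.cons_succ]
        exact t'.step j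
    let t : LTSeries P := LTSeries.mk (t'.length + 1) (Fin.cons p t'.toFun) hmono
    have htsat : ∀ i : Fin t.length, t (Fin.castSucc i) ⋖ t (Fin.succ i) := by
      intro i
      induction i using Fin.cases with
      | zero =>
        show (Fin.cons p t'.toFun : Fin (t'.length + 1 + 1) → P) (Fin.castSucc 0) ⋖
          (Fin.cons p t'.toFun : Fin (t'.length + 1 + 1) → P) (Fin.succ 0)
        simp only [Fin.castSucc_zero, Fin.cons_zero, Fin.succ_zero_eq_one, Fin.cons_one]
        have : t'.toFun 0 = q := hth
        rw [this]; exact hcov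
      | succ j =>
        show (Fin.cons p t'.toFun : Fin (t'.length + 1 + 1) → P) (Fin.castSucc j.succ) ⋖
          (Fin.cons p t'.toFun : Fin (t'.length + 1 + 1) → P) (Fin.succ j.succ)
        rw [← Fin.succ_castSucc, Fin.cons_succ, Fin.cons_succ]
        exact ht'.1 j
    have hth' : t.head = p := rfl
    have htl' : t.last = ⊤ := by
      show (Fin.cons p t'.toFun : Fin (t'.length + 1 + 1) → P) (Fin.last _) = ⊤
      rw [← Fin.succ_last, Fin.cons_succ]
      exact ht'.2
    have hlen := hcat.2 s t (by rw [hsh, hth']) (by rw [hs.2, htl']) hs.1 htsat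
    have hlen' : s.length = t'.length + 1 := hlen
    rw [← hnp, ← hnq, ← hsl, ← htl, hlen']
    simp
  · intro h
    have tele : ∀ (s : LTSeries P), (∀ i : Fin s.length, s (Fin.castSucc i) ⋖ s (Fin.succ i)) →
        ∀ i : Fin (s.length + 1), coheight (s 0) = coheight (s i) + (i : ℕ) := by
      intro s hs i
      induction i using Fin.induction with
      | zero => simp
      | succ i ih =>
        have h1 := (h _ _ (hs i).lt).2 (hs i)
        rw [ih, h1, Fin.val_succ, Fin.val_castSucc]
        push_cast
        ring
    refine ⟨fun p q _ => ⟨(coheight p).toNat, fun s hs _ => ?_⟩, fun s t hh hl hs ht => ?_⟩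
    · have h1 : (s.length : ℕ∞) ≤ coheight p := by
        rw [← hs]; exact length_le_coheight_head
      have h2 := ENat.toNat_le_toNat h1 (hfin p).ne
      simpa using h2
    · have e1 := tele s hs (Fin.last _)
      have e2 := tele t ht (Fin.last _)
      have e3 : s 0 = t 0 := hh
      have e4 : s (Fin.last _) = t (Fin.last _) := hl
      rw [e3, e4, e2] at e1
      obtain ⟨n, hn⟩ := ENat.ne_top_iff_exists.mp (hfin (t (Fin.last _))).ne
      rw [← hn] at e1
      simp only [Fin.val_last] at e1
      have : (n + t.length : ℕ) = (n + s.length : ℕ) := by exact_mod_cast e1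
      omega

end Groth.Agent.Lib.Helper34
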