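import Groth.Agent.Lib.Cohomology.helper5_RightDerivedShift
import Groth.Agent.Lib.Cohomology.helper5_ExtShift

/-!
# Exact complex-valued functors acyclic on injectives compute right derived functors

Let `K : 𝒜 ⥤ CochainComplex ℬ ℕ` be an additive functor sending short exact sequences to short exact
sequences of complexes and such that `H^{p+1}(K I) = 0` for injective `I`.  Then `G = H⁰ ∘ K` is left
exact and `H^p(K A) ≅ (R^p G) A`.
-/

set_option autoImplicit false
universe v v' u u'
open CategoryTheory CategoryTheory.Limits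

namespace Groth.Agent.Lib.Helper34.CxRD

open Groth.Agent.Lib.Cohomology.ExtShift Groth.Agent.Lib.Cohomology.RDShift

variable {𝒜 : Type u} [Category.{v} 𝒜] [Abelian 𝒜]
variable {ℬ : Type u'} [Category.{v'} ℬ] [Abelian ℬ]
variable (K : 𝒜 ⥤ CochainComplex ℬ ℕ) [K.Additive]

/-- `H⁰ ∘ K`. -/
noncomputable abbrev G : 𝒜 ⥤ ℬ := K ⋙ HomologicalComplex.homologyFunctor ℬ (ComplexShape.up ℕ) 0

variable (hK : ∀ S : ShortComplex 𝒜, S.ShortExact → (S.map K).ShortExact)

include hK in
lemma preservesFiniteLimits_G : PreservesFiniteLimits (G K) := by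
  refine ((Functor.preservesFiniteLimits_tfae (G K)).out 3 0).2 (fun S hS => ?_)
  have hS' := hK S hS
  refine ⟨hS'.homology_exact₂ 0, ?_⟩
  have := hS'.mono_f
  have h1 : Mono (HomologicalComplex.cyclesMap (K.map S.f) 0) :=
    inferInstanceAs (Mono (HomologicalComplex.cyclesMap (S.map K).f 0))
  have h2 : HomologicalComplex.homologyMap (K.map S.f) 0 =
      (K.obj S.X₁).isoHomologyπ₀.inv ≫ HomologicalComplex.cyclesMap (K.map S.f) 0 ≫
        (K.obj S.X₂).isoHomologyπ₀.hom := by
    rw [← CochainComplex.isoHomologyπ₀_inv_naturality_assoc, Iso.inv_hom_id, Category.comp_id]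
  show Mono (HomologicalComplex.homologyMap (K.map S.f) 0)
  rw [h2]
  infer_instance

variable [EnoughInjectives 𝒜]
variable (hI : ∀ (I : 𝒜), Injective I → ∀ p : ℕ, IsZero ((K.obj I).homology (p + 1)))

include hK hI in
theorem nonempty_homology_succ_iso (p : ℕ) : ∀ A : 𝒜,
    Nonempty ((K.obj A).homology (p + 1) ≅ ((G K).rightDerived (p + 1)).obj A) := by
  haveI := preservesFiniteLimits_G K hK
  induction p with
  | zero =>
    intro A
    have hS := injSES_shortExact A
    have hS' := hK _ hS
    obtain ⟨π, w, hπ, hex⟩ := exists_rightDerived_one_cokernel hS (G K)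
    have hex' := hS'.homology_exact₃ 0 1 rfl
    have : Epi (hS'.δ 0 1 rfl) := hS'.epi_δ 0 1 rfl (hI _ inferInstance 0)
    exact ⟨IsColimit.coconePointUniqueUpToIso hex'.gIsCokernel hex.gIsCokernel⟩
  | succ p ih =>
    intro A
    have hS := injSES_shortExact A
    have hS' := hK _ hS
    obtain ⟨e1⟩ := rightDerived_shift hS (G K) p
    obtain ⟨e2⟩ := ih (injSES A).X₃
    have e3 := hS'.δIso (p + 1) (p + 2) rfl (hI _ inferInstance p) (hI _ inferInstance (p + 1))
    exact ⟨e3.symm ≪≫ e2 ≪≫ e1.symm⟩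

include hK hI in
/-- `H^p(K A) ≅ (R^p (H⁰ ∘ K)) A`. -/
theorem nonempty_homology_iso_rightDerived (p : ℕ) (A : 𝒜) :
    Nonempty ((K.obj A).homology p ≅ ((G K).rightDerived p).obj A) := by
  haveI := preservesFiniteLimits_G K hK
  cases p with
  | zero => exact ⟨((G K).rightDerivedZeroIsoSelf.app A).symm⟩
  | succ p => exact nonempty_homology_succ_iso K hK hI p A

end Groth.Agent.Lib.Helper34.CxRD
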