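import Groth.Agent.Lib.Helper34.SiblingDb

/-!
# Induction principle for `D^b(A)`: generated by stalks under cones
-/

set_option autoImplicit false
universe w v u
open CategoryTheory CategoryTheory.Limits CategoryTheory.Pretriangulated

namespace Groth.Agent.Lib.Helper34.Sibling

variable {A : Type u} [Category.{v} A] [Abelian A] [HasDerivedCategory.{w} A]

lemma nonempty_iso_Gk_stalk (b : ℤ) (k : ℕ) (Z : A) :
    Nonempty ((Gk (G b) k).obj Z ≅ ((DEquiv.singleB A).obj Z)⟦(k : ℤ) - b⟧) :=
  nonempty_iso_Gk (𝟭 (DerivedCategory.Bounded A)) b k Z _ rfl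

set_option backward.defeqAttrib.useBackward true in
set_option backward.isDefEq.respectTransparency false in
theorem Db_induction_aux (P : DerivedCategory.Bounded A → Prop)
    (hiso : ∀ K K' : DerivedCategory.Bounded A, (K ≅ K') → P K → P K')
    (hstalk : ∀ (X : A) (m : ℤ), P (((DEquiv.singleB A).obj X)⟦m⟧))
    (hcone : ∀ T ∈ distTriang (DerivedCategory.Bounded A), P T.obj₁ → P T.obj₃ → P T.obj₂)
    (b : ℤ) :
    ∀ (k : ℕ) (E : CochainComplex A ℤ) (_ : E.IsStrictlyGE (b - k)) (_ : E.IsStrictlyLE b)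
      (L : DerivedCategory.Bounded A) (_ : L.obj ≅ DerivedCategory.Q.obj E), P L := by
  intro k
  induction k with
  | zero =>
    intro E hGE hLE L e
    have : E.IsStrictlyGE b := by simpa using hGE
    obtain ⟨M, ⟨e'⟩⟩ := CochainComplex.exists_iso_single E b
    obtain ⟨e₃⟩ := nonempty_iso_ι_Gk (A := A) b 0 M b (by simp)
    let φ : DerivedCategory.Bounded.ι.obj L ≅
        DerivedCategory.Bounded.ι.obj ((Gk (G b) 0).obj M) :=
      e ≪≫ DerivedCategory.Q.mapIso e' ≪≫ e₃.symm
    let ψ : L ≅ (Gk (G b) 0).obj M :=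
      (DerivedCategory.TStructure.t.bounded.fullyFaithfulι).preimageIso φ
    obtain ⟨e₄⟩ := nonempty_iso_Gk_stalk (A := A) b 0 M
    exact hiso _ _ (ψ ≪≫ e₄).symm (hstalk M _)
  | succ k ih =>
    intro E hGE hLE L e
    set n : ℤ := b - ((k + 1 : ℕ) : ℤ) with hn
    let Y : A := E.X n
    let p : E ⟶ (HomologicalComplex.single A (ComplexShape.up ℤ) n).obj Y :=
      HomologicalComplex.mkHomToSingle (𝟙 _) (fun i (hi : i + 1 = n) =>
        (E.isZero_of_isStrictlyGE n i (by omega)).eq_of_src _ _)
    have hpn : IsIso (p.f n) := by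
      rw [HomologicalComplex.mkHomToSingle_f]
      infer_instance
    have hp : Epi p := by
      apply HomologicalComplex.epi_of_epi_f
      intro i
      by_cases hi : i = n
      · subst hi
        infer_instance
      · have hz : IsZero (((HomologicalComplex.single A (ComplexShape.up ℤ) n).obj Y).X i) :=
          HomologicalComplex.isZero_single_obj_X _ _ _ _ hi
        exact ⟨fun g h _ => hz.eq_of_src g h⟩
    let E' : CochainComplex A ℤ := kernel p
    let ι' : E' ⟶ E := kernel.ι p
    have hιf : ∀ i, Mono (ι'.f i) := fun i => inferInstance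
    have hE'GE : E'.IsStrictlyGE (b - k) := by
      rw [CochainComplex.isStrictlyGE_iff]
      intro i hi
      by_cases hin : i = n
      · subst hin
        have h0 : ι'.f n ≫ p.f n = 0 := by
          rw [← HomologicalComplex.comp_f, kernel.condition]
          rfl
        have h1 : ι'.f n = 0 := by
          rw [← cancel_mono (p.f n), h0, zero_comp]
        exact IsZero.of_mono_eq_zero _ h1
      · exact IsZero.of_mono (ι'.f i) (E.isZero_of_isStrictlyGE n i (by push_cast at hn; omega))
    have hE'LE : E'.IsStrictlyLE b := by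
      rw [CochainComplex.isStrictlyLE_iff]
      intro i hi
      exact IsZero.of_mono (ι'.f i) (E.isZero_of_isStrictlyLE b i hi)
    let S₀ : ShortComplex (CochainComplex A ℤ) := ShortComplex.mk ι' p (kernel.condition p)
    have hS₀ : S₀.ShortExact :=
      { exact := ShortComplex.exact_of_f_is_kernel _ (kernelIsKernel p)
        mono_f := inferInstanceAs (Mono (kernel.ι p))
        epi_g := hp }
    have hT₀ := DerivedCategory.triangleOfSES_distinguished hS₀
    have hE'GE' : E'.IsGE (b - k) := inferInstance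
    have hE'LE' : E'.IsLE b := inferInstance
    let L₀ : DerivedCategory.Bounded A :=
      ⟨DerivedCategory.Q.obj E', ⟨⟨b - k, inferInstance⟩, ⟨b, inferInstance⟩⟩⟩
    have hL₀ := ih E' hE'GE hE'LE L₀ (Iso.refl _)
    obtain ⟨e₃⟩ := nonempty_iso_ι_Gk (A := A) b (k + 1) Y n hn
    obtain ⟨i, q, δ, hT⟩ := exists_distTriang_of_iso DerivedCategory.TStructure.t.bounded
      (DerivedCategory.triangleOfSES hS₀) hT₀ L₀ L ((Gk (G b) (k + 1)).obj Y)
      (Iso.refl _) e e₃
    obtain ⟨e₄⟩ := nonempty_iso_Gk_stalk (A := A) b (k + 1) Y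
    exact hcone _ hT hL₀ (hiso _ _ e₄.symm (hstalk Y _))

/-- `D^b(A)` is generated by the stalk complexes under isomorphisms and cones. -/
theorem Db_induction (P : DerivedCategory.Bounded A → Prop)
    (hiso : ∀ K K' : DerivedCategory.Bounded A, (K ≅ K') → P K → P K')
    (hstalk : ∀ (X : A) (m : ℤ), P (((DEquiv.singleB A).obj X)⟦m⟧))
    (hcone : ∀ T ∈ distTriang (DerivedCategory.Bounded A), P T.obj₁ → P T.obj₃ → P T.obj₂)
    (K : DerivedCategory.Bounded A) : P K := by
  obtain ⟨⟨a, ha⟩, ⟨b, hb⟩⟩ := K.property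
  have : K.obj.IsGE a := ha
  have : K.obj.IsLE b := hb
  obtain ⟨E, hGE, hLE, ⟨e⟩⟩ := DerivedCategory.exists_iso_Q_obj_of_isGE_of_isLE K.obj a b
  have hGE' : E.IsStrictlyGE (b - ((b - a).toNat : ℤ)) :=
    E.isStrictlyGE_of_ge _ a (by omega)
  exact Db_induction_aux P hiso hstalk hcone b (b - a).toNat E hGE' hLE K e

end Groth.Agent.Lib.Helper34.Sibling
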