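import Mathlib
import Groth.Agent.Lib.Helper12.HomotopyAdjunction

/-!
# Adjunction of exact functors induces an adjunction on (unbounded) derived categories

`DerAdj.exactAdj`: if `G ⊣ F` are additive functors between abelian categories, both exact, then
`G.mapDerivedCategory ⊣ F.mapDerivedCategory`.
-/

set_option autoImplicit false
universe w v₁ v₂ u₁ u₂

open CategoryTheory

namespace Groth.Agent.Lib.Helper34.DerAdj

variable {A : Type u₁} {B : Type u₂} [Category.{v₁} A] [Category.{v₂} B] [Abelian A] [Abelian B]
  [HasDerivedCategory.{w} A] [HasDerivedCategory.{w} B]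
  {G : B ⥤ A} {F : A ⥤ B} [G.Additive] [F.Additive] (adj : G ⊣ F)
  [Limits.PreservesFiniteLimits G] [Limits.PreservesFiniteColimits G]
  [Limits.PreservesFiniteLimits F] [Limits.PreservesFiniteColimits F]

/-- An adjunction between exact functors induces an adjunction on derived categories. -/
noncomputable def exactAdj : G.mapDerivedCategory ⊣ F.mapDerivedCategory := by
  let e : DerivedCategory.Qh ⋙ G.mapDerivedCategory ≅
      G.mapHomotopyCategory (ComplexShape.up ℤ) ⋙ DerivedCategory.Qh :=
    G.mapDerivedCategoryFactorsh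
  let e₂ : DerivedCategory.Qh ⋙ F.mapDerivedCategory ≅
      F.mapHomotopyCategory (ComplexShape.up ℤ) ⋙ DerivedCategory.Qh :=
    F.mapDerivedCategoryFactorsh
  have i1 : G.mapDerivedCategory.IsLeftDerivedFunctor e.hom
      (HomotopyCategory.quasiIso B (ComplexShape.up ℤ)) :=
    Functor.isLeftDerivedFunctor_of_inverts _ _ e
  have i2 : F.mapDerivedCategory.IsRightDerivedFunctor e₂.inv
      (HomotopyCategory.quasiIso A (ComplexShape.up ℤ)) :=
    Functor.isRightDerivedFunctor_of_inverts _ _ e₂
  let e' : DerivedCategory.Qh ⋙ (G.mapDerivedCategory ⋙ F.mapDerivedCategory) ≅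
      (G.mapHomotopyCategory (ComplexShape.up ℤ) ⋙ DerivedCategory.Qh) ⋙ F.mapDerivedCategory :=
    (Functor.associator _ _ _).symm ≪≫ Functor.isoWhiskerRight e F.mapDerivedCategory
  have i3 : (G.mapDerivedCategory ⋙ F.mapDerivedCategory).IsLeftDerivedFunctor
      ((Functor.associator _ _ _).inv ≫ Functor.whiskerRight e.hom F.mapDerivedCategory)
      (HomotopyCategory.quasiIso B (ComplexShape.up ℤ)) :=
    Functor.isLeftDerivedFunctor_of_inverts _ _ e'
  let e'' : DerivedCategory.Qh ⋙ (F.mapDerivedCategory ⋙ G.mapDerivedCategory) ≅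
      (F.mapHomotopyCategory (ComplexShape.up ℤ) ⋙ DerivedCategory.Qh) ⋙ G.mapDerivedCategory :=
    (Functor.associator _ _ _).symm ≪≫ Functor.isoWhiskerRight e₂ G.mapDerivedCategory
  have i4 : (F.mapDerivedCategory ⋙ G.mapDerivedCategory).IsRightDerivedFunctor
      (Functor.whiskerRight e₂.inv G.mapDerivedCategory ≫ (Functor.associator _ _ _).hom)
      (HomotopyCategory.quasiIso A (ComplexShape.up ℤ)) := by
    have h := Functor.isRightDerivedFunctor_of_inverts
      (HomotopyCategory.quasiIso A (ComplexShape.up ℤ))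
      (F.mapDerivedCategory ⋙ G.mapDerivedCategory) e''
    have he : e''.inv = Functor.whiskerRight e₂.inv G.mapDerivedCategory ≫
        (Functor.associator _ _ _).hom := by
      ext X
      simp [e'']
    rw [← he]
    exact h
  exact (Groth.Agent.Lib.Helper12.mapHomotopyCategoryAdj (ComplexShape.up ℤ) adj).derived
    (HomotopyCategory.quasiIso B (ComplexShape.up ℤ))
    (HomotopyCategory.quasiIso A (ComplexShape.up ℤ)) e.hom e₂.inv

end Groth.Agent.Lib.Helper34.DerAdj
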