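import Mathlib

/-!
# Effaceability in the derived category

If `K` is strictly `≤ b` and `L` strictly `≤ b - 1`, any `f : Q K ⟶ Q L` is killed by a map
from a stalk complex in degree `b` which is an epimorphism on `H^b`.
-/

set_option autoImplicit false
universe w v u
open CategoryTheory CategoryTheory.Limits

namespace Groth.Agent.Lib.Helper34.Efface

variable {A : Type u} [Category.{v} A] [Abelian A]

/-- The tautological map from the stalk of the top term. -/
noncomputable def topStalk (K : CochainComplex A ℤ) (b : ℤ) [K.IsStrictlyLE b] :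
    (HomologicalComplex.single A (ComplexShape.up ℤ) b).obj (K.X b) ⟶ K :=
  HomologicalComplex.mkHomFromSingle (𝟙 _) (fun k (hk : b + 1 = k) =>
    (K.isZero_of_isStrictlyLE b k (by omega)).eq_of_tgt _ _)

lemma epi_homologyMap_topStalk (K : CochainComplex A ℤ) (b : ℤ) [K.IsStrictlyLE b] :
    Epi (HomologicalComplex.homologyMap (topStalk K b) b) := by
  have hd : K.d b (b + 1) = 0 := (K.isZero_of_isStrictlyLE b (b + 1) (by omega)).eq_of_tgt _ _
  have h1 : IsIso (K.iCycles b) := K.isIso_iCycles b (b + 1) (by simp) hd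
  set S := (HomologicalComplex.single A (ComplexShape.up ℤ) b).obj (K.X b) with hS
  have h2 : IsIso (S.iCycles b) := S.isIso_iCycles b (b + 1) (by simp) (by simp [S])
  have h3 : IsIso ((topStalk K b).f b) := by
    rw [topStalk, HomologicalComplex.mkHomFromSingle_f]
    infer_instance
  have h4 : IsIso (HomologicalComplex.cyclesMap (topStalk K b) b) := by
    have e := HomologicalComplex.cyclesMap_i (topStalk K b) b
    have : IsIso (HomologicalComplex.cyclesMap (topStalk K b) b ≫ K.iCycles b) := by
      rw [e]; infer_instance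
    exact IsIso.of_isIso_comp_right _ (K.iCycles b)
  have h5 : Epi (S.homologyπ b ≫ HomologicalComplex.homologyMap (topStalk K b) b) := by
    rw [HomologicalComplex.homologyπ_naturality]
    infer_instance
  exact epi_of_epi (S.homologyπ b) _

variable [HasDerivedCategory.{w} A]

open DerivedCategory in
/-- Effaceability at the level of complexes. -/
theorem exists_single_efface {K L : CochainComplex A ℤ} (b : ℤ) [K.IsStrictlyLE b]
    [L.IsStrictlyLE (b - 1)] (f : Q.obj K ⟶ Q.obj L) :
    ∃ (N : A) (j : (HomologicalComplex.single A (ComplexShape.up ℤ) b).obj N ⟶ K),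
      Epi (HomologicalComplex.homologyMap j b) ∧ Q.map j ≫ f = 0 := by
  obtain ⟨X', hX', s, hs, g, rfl⟩ := right_fac_of_isStrictlyLE f b
  refine ⟨X'.X b, topStalk X' b ≫ s, ?_, ?_⟩
  · rw [HomologicalComplex.homologyMap_comp]
    have := epi_homologyMap_topStalk X' b
    have : QuasiIso s := by rwa [isIso_Q_map_iff_quasiIso] at hs
    infer_instance
  · have hz : topStalk X' b ≫ g = 0 := by
      apply HomologicalComplex.from_single_hom_ext
      exact (L.isZero_of_isStrictlyLE (b - 1) b (by omega)).eq_of_tgt _ _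
    rw [Q.map_comp, Category.assoc, IsIso.hom_inv_id_assoc, ← Q.map_comp, hz, Q.map_zero]

open DerivedCategory in
lemma epi_homologyFunctor_map_Q_map {K L : CochainComplex A ℤ} (j : K ⟶ L) (b : ℤ)
    (h : Epi (HomologicalComplex.homologyMap j b)) :
    Epi ((homologyFunctor A b).map (Q.map j)) := by
  have nat := (homologyFunctorFactors A b).hom.naturality j
  have h1 : Epi ((homologyFunctorFactors A b).hom.app K ≫ HomologicalComplex.homologyMap j b) :=
    epi_comp' inferInstance h
  have h2 : Epi ((homologyFunctor A b).map (Q.map j) ≫ (homologyFunctorFactors A b).hom.app L) := by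
    have : (homologyFunctor A b).map (Q.map j) ≫ (homologyFunctorFactors A b).hom.app L =
      (homologyFunctorFactors A b).hom.app K ≫ HomologicalComplex.homologyMap j b := nat
    rw [this]
    exact h1
  have h3 : Epi (((homologyFunctor A b).map (Q.map j) ≫
    (homologyFunctorFactors A b).hom.app L) ≫ (homologyFunctorFactors A b).inv.app L) :=
    epi_comp' h2 inferInstance
  rw [Category.assoc, Iso.hom_inv_id_app] at h3
  erw [Category.comp_id] at h3
  exact h3

open DerivedCategory in
lemma efface_aux {Y X X' Z Z' : DerivedCategory A} (g₁ : Y ⟶ Z) (e : X ≅ Z) (e' : X' ≅ Z')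
    (f : X ⟶ X') (b : ℤ) (h : Epi ((homologyFunctor A b).map g₁))
    (h0 : g₁ ≫ e.inv ≫ f ≫ e'.hom = 0) :
    Epi ((homologyFunctor A b).map (g₁ ≫ e.inv)) ∧ (g₁ ≫ e.inv) ≫ f = 0 := by
  constructor
  · rw [Functor.map_comp]
    exact epi_comp' h inferInstance
  · rw [← cancel_mono e'.hom, zero_comp, Category.assoc, Category.assoc]
    exact h0

open DerivedCategory in
/-- Effaceability in the derived category. -/
theorem exists_singleFunctor_efface (X X' : DerivedCategory A) (f : X ⟶ X') (b : ℤ) [X.IsLE b]
    [X'.IsLE (b - 1)] :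
    ∃ (N : A) (g : (singleFunctor A b).obj N ⟶ X),
      Epi ((homologyFunctor A b).map g) ∧ g ≫ f = 0 := by
  obtain ⟨K, hK, ⟨e⟩⟩ := X.exists_iso_Q_obj_of_isLE b
  obtain ⟨L, hL, ⟨e'⟩⟩ := X'.exists_iso_Q_obj_of_isLE (b - 1)
  obtain ⟨N, j, hj, hjf⟩ := exists_single_efface b (e.inv ≫ f ≫ e'.hom)
  have hj' := epi_homologyFunctor_map_Q_map j b hj
  exact ⟨N, _, efface_aux (Y := (singleFunctor A b).obj N) (Q.map j) e e' f b hj' hjf⟩

end Groth.Agent.Lib.Helper34.Efface
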