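import Mathlib
import Groth.Prelude.Def_WeakSerre

/-!
# Essential image of a weak Serre subcategory under a fully faithful right adjoint

`F ⊣ G` with `F` exact, `G` fully faithful, `A` weak Serre in the source of `G`, and `G` preserving
the epimorphism of every short exact sequence whose kernel lies in `A`. Then `A.map G` is weak
Serre and `F` restricts to an equivalence `A.map G ≃ A`.
-/

set_option autoImplicit false
universe v v' u u'
open CategoryTheory Limits
open scoped ZeroObject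

namespace Groth.Agent.Lib.Helper34.EpsAbs

variable {𝒜 : Type u} [Category.{v} 𝒜] [Abelian 𝒜] {𝒜' : Type u'} [Category.{v'} 𝒜'] [Abelian 𝒜']
  {F : 𝒜' ⥤ 𝒜} {G : 𝒜 ⥤ 𝒜'} (madj : F ⊣ G) [G.Full] [G.Faithful] [F.Additive] [G.Additive]
  [PreservesFiniteLimits F]
  (A : ObjectProperty 𝒜) [WSerre.IsWeakSerre A]
  (hstar : ∀ S : ShortComplex 𝒜, S.ShortExact → A S.X₁ → Epi (G.map S.g))

include madj in
lemma map_iff (Y : 𝒜') : A.map G Y ↔ A (F.obj Y) ∧ IsIso (madj.unit.app Y) := by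
  constructor
  · rintro ⟨X, hX, ⟨e⟩⟩
    refine ⟨?_, madj.isIso_unit_app_of_iso e.symm⟩
    exact A.prop_of_iso ((asIso (madj.counit.app X)).symm ≪≫ F.mapIso e) hX
  · rintro ⟨hY, hiso⟩
    exact ⟨F.obj Y, hY, ⟨(asIso (madj.unit.app Y)).symm⟩⟩

include madj in
lemma h2a (Y : 𝒜') (hY : A.map G Y) : A (F.obj Y) := ((map_iff madj A Y).1 hY).1

include madj in
lemma h2c (X : 𝒜) (hX : A X) : ∃ Y : 𝒜', A.map G Y ∧ Nonempty (F.obj Y ≅ X) :=
  ⟨G.obj X, A.prop_map_obj G hX, ⟨asIso (madj.counit.app X)⟩⟩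

include madj in
lemma h2b (Y Y' : 𝒜') (hY' : A.map G Y') :
    Function.Bijective (fun φ : Y ⟶ Y' => F.map φ) := by
  haveI := ((map_iff madj A Y').1 hY').2
  have h1 : ∀ φ : Y ⟶ Y', madj.homEquiv Y (F.obj Y') (F.map φ) = φ ≫ madj.unit.app Y' := by
    intro φ
    rw [Adjunction.homEquiv_unit]
    exact (madj.unit.naturality φ).symm
  constructor
  · intro φ φ' hφ
    have : φ ≫ madj.unit.app Y' = φ' ≫ madj.unit.app Y' := by
      rw [← h1, ← h1]
      exact congrArg _ hφ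
    exact (cancel_mono _).1 this
  · intro χ
    refine ⟨madj.homEquiv Y (F.obj Y') χ ≫ inv (madj.unit.app Y'), ?_⟩
    apply (madj.homEquiv Y (F.obj Y')).injective
    rw [h1, Category.assoc, IsIso.inv_hom_id, Category.comp_id]

include madj in
lemma kernels : (A.map G).IsClosedUnderKernels where
  kernels_le := by
    rintro _ ⟨φ, k, hk, ⟨⟨X₁, hX₁, ⟨e₁⟩⟩, ⟨X₂, hX₂, ⟨e₂⟩⟩⟩⟩
    haveI : PreservesLimitsOfSize.{0, 0} G := madj.rightAdjoint_preservesLimits
    let ψ : X₁ ⟶ X₂ := G.preimage (e₁.hom ≫ φ ≫ e₂.inv)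
    have hψ : G.map ψ = e₁.hom ≫ φ ≫ e₂.inv := G.map_preimage _
    refine ⟨kernel ψ, A.prop_kernel ψ hX₁ hX₂, ⟨?_⟩⟩
    exact PreservesKernel.iso G ψ ≪≫
      kernel.mapIso (G.map ψ) φ e₁ e₂ (by rw [hψ]; simp) ≪≫
      (IsLimit.conePointUniqueUpToIso hk (kernelIsKernel φ)).symm

include madj hstar in
/-- `G` preserves cokernels of morphisms between objects of `A`. -/
lemma isColimit_map_cokernel {X₁ X₂ : 𝒜} (ψ : X₁ ⟶ X₂) (hX₁ : A X₁) (hX₂ : A X₂) :
    Nonempty (IsColimit (CokernelCofork.ofπ (f := G.map ψ) (G.map (cokernel.π ψ))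
      (by rw [← G.map_comp, cokernel.condition, G.map_zero]))) := by
  haveI : PreservesLimitsOfSize.{0, 0} G := madj.rightAdjoint_preservesLimits
  have hQ : A (cokernel ψ) := A.prop_cokernel ψ hX₁ hX₂
  have hI : A (kernel (cokernel.π ψ)) := A.prop_kernel _ hX₂ hQ
  let ψ' : X₁ ⟶ kernel (cokernel.π ψ) := Abelian.factorThruImage ψ
  have hψ' : ψ' ≫ kernel.ι (cokernel.π ψ) = ψ := Abelian.image.fac ψ
  -- the two short exact sequences
  let S₂ : ShortComplex 𝒜 := ShortComplex.mk (kernel.ι (cokernel.π ψ)) (cokernel.π ψ)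
    (kernel.condition _)
  have hS₂ : S₂.ShortExact :=
    { exact := ShortComplex.exact_of_f_is_kernel _ (kernelIsKernel _)
      mono_f := inferInstanceAs (Mono (kernel.ι (cokernel.π ψ)))
      epi_g := inferInstanceAs (Epi (cokernel.π ψ)) }
  let S₁ : ShortComplex 𝒜 := ShortComplex.mk (kernel.ι ψ') ψ' (kernel.condition _)
  have hS₁ : S₁.ShortExact :=
    { exact := ShortComplex.exact_of_f_is_kernel _ (kernelIsKernel _)
      mono_f := inferInstanceAs (Mono (kernel.ι ψ'))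
      epi_g := inferInstanceAs (Epi (Abelian.factorThruImage ψ)) }
  haveI e₁ : Epi (G.map ψ') := hstar S₁ hS₁ (A.prop_kernel ψ' hX₁ hI)
  haveI e₂ : Epi (G.map (cokernel.π ψ)) := hstar S₂ hS₂ hI
  have hex₂ : (S₂.map G).Exact :=
    hS₂.exact.map_of_mono_of_preservesKernel G hS₂.mono_f inferInstance
  let T : ShortComplex 𝒜' := ShortComplex.mk (G.map ψ) (G.map (cokernel.π ψ))
    (by rw [← G.map_comp, cokernel.condition, G.map_zero])
  let τ : T ⟶ S₂.map G :=
    { τ₁ := G.map ψ'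
      τ₂ := 𝟙 _
      τ₃ := 𝟙 _
      comm₁₂ := by
        change G.map ψ' ≫ G.map (kernel.ι (cokernel.π ψ)) = G.map ψ ≫ 𝟙 _
        rw [← G.map_comp, hψ', Category.comp_id]
      comm₂₃ := by
        change 𝟙 _ ≫ G.map (cokernel.π ψ) = G.map (cokernel.π ψ) ≫ 𝟙 _
        rw [Category.id_comp, Category.comp_id] }
  haveI : Epi τ.τ₁ := e₁
  haveI : IsIso τ.τ₂ := inferInstanceAs (IsIso (𝟙 _))
  haveI : Mono τ.τ₃ := inferInstanceAs (Mono (𝟙 _))
  have hT : T.Exact := (ShortComplex.exact_iff_of_epi_of_isIso_of_mono τ).2 hex₂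
  haveI : Epi T.g := e₂
  exact ⟨hT.gIsCokernel⟩

include madj hstar in
lemma cokernels : (A.map G).IsClosedUnderCokernels where
  cokernels_le := by
    rintro _ ⟨φ, c, hc, ⟨⟨X₁, hX₁, ⟨e₁⟩⟩, ⟨X₂, hX₂, ⟨e₂⟩⟩⟩⟩
    let ψ : X₁ ⟶ X₂ := G.preimage (e₁.hom ≫ φ ≫ e₂.inv)
    have hψ : G.map ψ = e₁.hom ≫ φ ≫ e₂.inv := G.map_preimage _
    obtain ⟨hcok⟩ := isColimit_map_cokernel madj A hstar ψ hX₁ hX₂
    refine ⟨cokernel ψ, A.prop_cokernel ψ hX₁ hX₂, ⟨?_⟩⟩
    exact (IsColimit.coconePointUniqueUpToIso hcok (cokernelIsCokernel (G.map ψ))) ≪≫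
      cokernel.mapIso (G.map ψ) φ e₁ e₂ (by rw [hψ]; simp) ≪≫
      (IsColimit.coconePointUniqueUpToIso hc (cokernelIsCokernel φ)).symm

include madj hstar in
lemma extensions : (A.map G).IsClosedUnderExtensions where
  prop_X₂_of_shortExact {S'} hS' h₁ h₃ := by
    rw [map_iff madj A] at h₁ h₃ ⊢
    haveI : PreservesLimitsOfSize.{0, 0} G := madj.rightAdjoint_preservesLimits
    haveI : PreservesColimitsOfSize.{0, 0} F := madj.leftAdjoint_preservesColimits
    have hFS : (S'.map F).ShortExact := hS'.map_of_exact F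
    have hA2 : A (F.obj S'.X₂) := A.prop_X₂_of_shortExact hFS h₁.1 h₃.1
    refine ⟨hA2, ?_⟩
    have hGFS : ((S'.map F).map G).ShortExact :=
      { exact := hFS.exact.map_of_mono_of_preservesKernel G hFS.mono_f inferInstance
        mono_f := by
          haveI := hFS.mono_f
          exact inferInstanceAs (Mono (G.map (S'.map F).f))
        epi_g := hstar _ hFS h₁.1 }
    let φ : S' ⟶ (S'.map F).map G :=
      { τ₁ := madj.unit.app _
        τ₂ := madj.unit.app _
        τ₃ := madj.unit.app _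
        comm₁₂ := (madj.unit.naturality S'.f).symm
        comm₂₃ := (madj.unit.naturality S'.g).symm }
    haveI : IsIso φ.τ₁ := h₁.2
    haveI : IsIso φ.τ₃ := h₃.2
    exact ShortComplex.isIso₂_of_shortExact_of_isIso₁₃ φ hS' hGFS

include madj hstar in
theorem isWeakSerre_map : WSerre.IsWeakSerre (A.map G) :=
  { exists_zero := ⟨G.obj 0, G.map_isZero (isZero_zero _), A.prop_map_obj G A.prop_zero⟩
    toIsClosedUnderKernels := kernels madj A
    toIsClosedUnderCokernels := cokernels madj A hstar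
    toIsClosedUnderExtensions := extensions madj A hstar }

end Groth.Agent.Lib.Helper34.EpsAbs
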