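import Groth.Agent.Lib.Helper34.ModPullFree
import Groth.Agent.Lib.Helper34.EpsAbs

/-!
# The comparison morphism `ε : (C, J, O) → (C, J', O)` for `J' ≤ J` (S9071)
-/

set_option autoImplicit false
universe w w' u
open CategoryTheory Limits Pretriangulated DerivedCategory Opposite

namespace Groth.Agent.Lib.Helper34.EpsCmp

open ModSite SiteCmp Groth.Agent.Lib.Helper34.ModFree Groth.Agent.Lib.Helper34.ModTruncRlim
  Groth.Agent.Lib.Helper68.HZeroLocal Groth.Agent.Lib.Helper34.ModHZero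
  Groth.Agent.Lib.Helper34.ModPullFree

variable {C : Type u} [SmallCategory C] {J J' : GrothendieckTopology C} (h : J' ≤ J)
  (O : Sheaf J CommRingCat.{u})

section FF

/-- `ε_*` is fully faithful: a morphism of the underlying presheaves of modules. -/
noncomputable def pushPreimage {M N : Mod O}
    (g : (eps h O).push.obj M ⟶ (eps h O).push.obj N) : M ⟶ N :=
  ⟨g.val⟩

noncomputable def pushFF : (eps h O).push.FullyFaithful where
  preimage g := pushPreimage h O g
  map_preimage _ := rfl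
  preimage_map _ := rfl

instance : (eps h O).push.Full := (pushFF h O).full
instance : (eps h O).push.Faithful := (pushFF h O).faithful

end FF

section Star

variable (A : ObjectProperty (Mod O)) (B : Set C)
  (h3 : ∀ U : C, ∃ (ι : Type u) (Y : ι → C) (g : ∀ i, Y i ⟶ U),
    Sieve.ofArrows Y g ∈ J' U ∧ ∀ i, Y i ∈ B)
  (h4 : ∀ U ∈ B, ∀ F : Mod O, A F → ∀ p : ℕ, 0 < p → Subsingleton (ModSite.HU O F p U))

include h4 in
/-- sections over members of `B` lift along epimorphisms with kernel in `A`. -/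
lemma exists_lift_of_mem (S : ShortComplex (Mod O)) (hS : S.ShortExact) (hA : A S.X₁)
    (V : C) (hV : V ∈ B) (φ₃ : P O V ⟶ S.X₃) : ∃ φ₂ : P O V ⟶ S.X₂, φ₂ ≫ S.g = φ₃ := by
  haveI : EnoughInjectives (Mod O) := Groth.Agent.S0485.result J (ringSh O)
  haveI : HasExt.{u} (Mod O) := hasExt_of_enoughInjectives.{u} _
  haveI : Subsingleton (Abelian.Ext.{u} (P O V) S.X₁ 1) :=
    subsingleton_ext_of_HU O V S.X₁ 1 (h4 V hV S.X₁ hA 1 Nat.one_pos)
  obtain ⟨x₂, hx₂⟩ := Abelian.Ext.covariant_sequence_exact₃ (P O V) hS (Abelian.Ext.mk₀ φ₃)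
    (zero_add 1) (Subsingleton.elim _ _)
  obtain ⟨φ₂, rfl⟩ := (Abelian.Ext.mk₀_bijective _ _).2 x₂
  refine ⟨φ₂, ?_⟩
  rw [Abelian.Ext.mk₀_comp_mk₀] at hx₂
  exact (Abelian.Ext.mk₀_bijective _ _).1 hx₂

include h3 h4 in
/-- `ε_*` preserves the epimorphism of a short exact sequence with kernel in `A`. -/
lemma epi_push_map (S : ShortComplex (Mod O)) (hS : S.ShortExact) (hA : A S.X₁) :
    Epi ((eps h O).push.map S.g) := by
  let Tε := SheafOfModules.toSheaf (ringSh (epsRing h O))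
  suffices hepi : Epi (Tε.map ((eps h O).push.map S.g)) from Tε.epi_of_epi_map hepi
  have hls : Sheaf.IsLocallySurjective (Tε.map ((eps h O).push.map S.g)) := by
    refine ⟨fun {U} s => ?_⟩
    obtain ⟨ι, Yc, g, hcov, hY⟩ := h3 U
    refine J'.superset_covering ?_ hcov
    rw [Sieve.ofArrows, Sieve.generate_le_iff]
    rintro W k ⟨i⟩
    let s' : (toAb S.X₃).obj.obj (op U) := s
    obtain ⟨φ₂, hφ₂⟩ := exists_lift_of_mem O A B h4 S hS hA (Yc i) (hY i)
      (ofSect O (Yc i) S.X₃ (((toAb S.X₃).obj.map (g i).op).hom s'))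
    refine ⟨evalGen O (Yc i) S.X₂ φ₂, ?_⟩
    have := evalGen_comp O (Yc i) φ₂ S.g
    rw [hφ₂, evalGen_ofSect] at this
    exact this.symm
  exact (Sheaf.isLocallySurjective_iff_epi' _ _).1 hls

end Star

section Gen

variable {C : Type u} [SmallCategory C] {J : GrothendieckTopology C} {O : Sheaf J CommRingCat.{u}}
  [HasDerivedCategory.{w} (Mod O)]

/-- sections of `H^0(L)` vanish if `Hom(P_V, L) = 0` for `V` in a dense family. -/
lemma section_eq_zero (L : DerivedCategory (Mod O)) (B : Set C)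
    (hB : ∀ U : C, ∃ (ι : Type u) (Y : ι → C) (g : ∀ i, Y i ⟶ U),
      Sieve.ofArrows Y g ∈ J U ∧ ∀ i, Y i ∈ B)
    (hL : ∀ V ∈ B, Subsingleton (S.obj (P O V) ⟶ L)) (U : C)
    (s : ((T O).obj (H.obj L)).obj.obj (op U)) : s = 0 := by
  have hsep : Presieve.IsSeparated J (((T O).obj (H.obj L)).obj ⋙ forget _) := by
    apply Presieve.IsSheaf.isSeparated
    rw [← isSheaf_iff_isSheaf_of_type]
    exact ((sheafCompose J (forget AddCommGrpCat.{u})).obj ((T O).obj (H.obj L))).2
  obtain ⟨R₁, hR₁, h₁⟩ := locSurj_aux L U s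
  refine (hsep _ hR₁).ext ?_
  intro W j hj
  obtain ⟨ξ, hξ⟩ := h₁ j hj
  obtain ⟨ι, Yc, f, hcov, hY⟩ := hB W
  refine (hsep _ hcov).ext ?_
  intro W' g hg
  obtain ⟨W'', k, g', hg', rfl⟩ := hg
  obtain ⟨i⟩ := hg'
  have h0 : S.map (Pmap O (f i)) ≫ ξ = 0 := (hL _ (hY i)).elim _ _
  have h1 : (((T O).obj (H.obj L)).obj.map (f i).op).hom
      ((((T O).obj (H.obj L)).obj.map j.op).hom s) = 0 := by
    rw [← hξ, ← ηU_res, h0, map_zero]
  change (((T O).obj (H.obj L)).obj.map (k ≫ f i).op).hom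
      ((((T O).obj (H.obj L)).obj.map j.op).hom s) =
    (((T O).obj (H.obj L)).obj.map (k ≫ f i).op).hom
      ((((T O).obj (H.obj L)).obj.map j.op).hom 0)
  rw [map_zero, map_zero, op_comp, Functor.map_comp]
  change (((T O).obj (H.obj L)).obj.map k.op).hom
    ((((T O).obj (H.obj L)).obj.map (f i).op).hom
      ((((T O).obj (H.obj L)).obj.map j.op).hom s)) = 0
  rw [h1, map_zero]

omit [HasDerivedCategory.{w} (Mod O)] in
lemma isZero_of_sections (M : Mod O)
    (hM : ∀ (U : C) (s : ((T O).obj M).obj.obj (op U)), s = 0) : IsZero M := by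
  rw [IsZero.iff_id_eq_zero]
  apply (T O).map_injective
  apply Sheaf.hom_ext
  apply NatTrans.ext
  funext U
  apply AddCommGrpCat.hom_ext
  apply AddMonoidHom.ext
  intro x
  exact (hM U.unop _).trans (hM U.unop _).symm

omit [HasDerivedCategory.{w} (Mod O)] in
lemma isIso_of_sections {M₁ M₂ : Mod O} (ψ : M₁ ⟶ M₂)
    (hψ : ∀ V : C, Function.Bijective (fun φ : P O V ⟶ M₁ => φ ≫ ψ)) : IsIso ψ := by
  have hb : ∀ U : Cᵒᵖ, Function.Bijective (((T O).map ψ).hom.app U) := by
    intro U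
    obtain ⟨V⟩ := U
    constructor
    · intro x y hxy
      have h1 : evalGen O V M₂ (ofSect O V M₁ x ≫ ψ) = evalGen O V M₂ (ofSect O V M₁ y ≫ ψ) := by
        rw [evalGen_comp, evalGen_comp, evalGen_ofSect, evalGen_ofSect]
        exact hxy
      have h2 := (hψ V).1 ((evalGen_bijective O V M₂).1 h1)
      have h3 := congrArg (evalGen O V M₁) h2
      rwa [evalGen_ofSect, evalGen_ofSect] at h3
    · intro y
      obtain ⟨φ, hφ⟩ := (hψ V).2 (ofSect O V M₂ y)
      refine ⟨evalGen O V M₁ φ, ?_⟩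
      have h1 := evalGen_comp O V φ ψ
      rw [show φ ≫ ψ = ofSect O V M₂ y from hφ, evalGen_ofSect] at h1
      exact h1.symm
  haveI : ∀ U : Cᵒᵖ, IsIso (((T O).map ψ).hom.app U) := fun U =>
    (ConcreteCategory.isIso_iff_bijective _).2 (hb U)
  haveI : IsIso ((T O).map ψ).hom := NatIso.isIso_of_isIso_app _
  haveI : IsIso ((sheafToPresheaf J AddCommGrpCat.{u}).map ((T O).map ψ)) :=
    inferInstanceAs (IsIso ((T O).map ψ).hom)
  haveI : IsIso ((T O).map ψ) := isIso_of_reflects_iso _ (sheafToPresheaf J AddCommGrpCat.{u})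
  exact isIso_of_reflects_iso ψ (T O)

end Gen

section Derived

open Groth.Agent.Lib.Helper32.AdjDevissage

variable [HasDerivedCategory.{w} (Mod O)] [HasDerivedCategory.{w'} (Mod (epsRing h O))]
  [PreservesFiniteLimits (eps h O).pull]
  {R : DerivedCategory (Mod O) ⥤ DerivedCategory (Mod (epsRing h O))}
  (adj : (eps h O).pull.mapDerivedCategory ⊣ R)

include adj in
lemma subsingleton_hom_R (M : Mod O) (V : C) (q : ℤ)
    (hq : ∀ k : ℕ, (k : ℤ) = q → Subsingleton (ModSite.HU O M k V)) :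
    Subsingleton (S.obj (P (epsRing h O) V) ⟶ (R.obj (S.obj M))⟦q⟧) := by
  let _ := adj.rightAdjointCommShift ℤ
  have h0 : Subsingleton (S.obj (P O V) ⟶ (S.obj M)⟦q⟧) :=
    subsingleton_hom_single_shift M V q hq
  let i1 : (eps h O).pull.mapDerivedCategory.obj (S.obj (P (epsRing h O) V)) ≅ S.obj (P O V) :=
    ((eps h O).pull.mapDerivedCategorySingleFunctor 0).app (P (epsRing h O) V) ≪≫
      S.mapIso (pullPIso (eps h O) V)
  have h1 : Subsingleton ((eps h O).pull.mapDerivedCategory.obj (S.obj (P (epsRing h O) V)) ⟶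
      (S.obj M)⟦q⟧) := (Iso.homCongr i1 (Iso.refl _)).subsingleton
  have h2 : Subsingleton (S.obj (P (epsRing h O) V) ⟶ R.obj ((S.obj M)⟦q⟧)) :=
    (adj.homEquiv _ _).symm.subsingleton
  exact subsingleton_hom_of_iso ((R.commShiftIso q).app (S.obj M)) h2

variable (B : Set C)
  (h3 : ∀ U : C, ∃ (ι : Type u) (Y : ι → C) (g : ∀ i, Y i ⟶ U),
    Sieve.ofArrows Y g ∈ J' U ∧ ∀ i, Y i ∈ B)

include adj h3 in
lemma isLE_R_single (M : Mod O)
    (hM : ∀ V ∈ B, ∀ k : ℕ, 0 < k → Subsingleton (ModSite.HU O M k V)) :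
    (R.obj (S.obj M)).IsLE 0 := by
  rw [isLE_iff]
  intro i hi
  let e := (DerivedCategory.homologyFunctor (Mod (epsRing h O)) 0).shiftIso i 0 i (add_zero i)
  let eK : H.obj ((R.obj (S.obj M))⟦i⟧) ≅
      (DerivedCategory.homologyFunctor _ i).obj (R.obj (S.obj M)) := e.app _
  refine IsZero.of_iso ?_ eK.symm
  apply isZero_of_sections
  intro U s
  exact section_eq_zero _ B h3
    (fun V hV => subsingleton_hom_R h O adj M V i (fun k hk => hM V hV k (by omega))) U s

include adj h3 in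
theorem isIso_unit_push (M : Mod O)
    (hM : ∀ V ∈ B, ∀ k : ℕ, 0 < k → Subsingleton (ModSite.HU O M k V)) :
    IsIso (adj.unit.app (S.obj ((eps h O).push.obj M))) := by
  let K := R.obj (S.obj M)
  haveI : K.IsLE 0 := isLE_R_single h O adj B h3 M hM
  haveI : K.IsGE 0 := right_isGE adj (S.obj M) 0
  obtain ⟨N, ⟨e⟩⟩ := exists_iso_singleFunctor_obj_of_isGE_of_isLE K 0
  let ι := (eps h O).pull.mapDerivedCategorySingleFunctor 0
  let g : (eps h O).pull.mapDerivedCategory.obj (S.obj ((eps h O).push.obj M)) ⟶ S.obj M :=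
    ι.hom.app ((eps h O).push.obj M) ≫ S.map ((eps h O).adj.counit.app M)
  haveI : IsIso g := inferInstance
  let gt : S.obj ((eps h O).push.obj M) ⟶ K := adj.homEquiv _ _ g
  let ψ : (eps h O).push.obj M ⟶ N := (singleFunctor (Mod (epsRing h O)) 0).preimage (gt ≫ e.hom)
  have hψ : S.map ψ = gt ≫ e.hom := (singleFunctor (Mod (epsRing h O)) 0).map_preimage _
  have hΘ : ∀ (V : C) (φ : P (epsRing h O) V ⟶ (eps h O).push.obj M),
      S.map φ ≫ gt = adj.homEquiv _ _ (ι.hom.app (P (epsRing h O) V) ≫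
        S.map (((eps h O).adj.homEquiv _ _).symm φ)) := by
    intro V φ
    rw [← Adjunction.homEquiv_naturality_left]
    congr 1
    rw [Adjunction.homEquiv_counit, Functor.map_comp, ← Category.assoc, ← Category.assoc]
    congr 1
    exact ι.hom.naturality φ
  have key : ∀ V : C, Function.Bijective
      (fun φ : P (epsRing h O) V ⟶ (eps h O).push.obj M => φ ≫ ψ) := by
    intro V
    constructor
    · intro φ φ' hφ
      have h1 : S.map φ ≫ gt = S.map φ' ≫ gt := by
        have h := congrArg (fun x => S.map x ≫ e.inv) hφ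
        simpa [hψ] using h
      rw [hΘ, hΘ] at h1
      have h2 := (adj.homEquiv _ _).injective h1
      have h3' := (cancel_epi (ι.hom.app (P (epsRing h O) V))).1 h2
      have h4 := (singleFunctor (Mod O) 0).map_injective h3'
      exact ((eps h O).adj.homEquiv _ _).symm.injective h4
    · intro χ
      let y : S.obj (P (epsRing h O) V) ⟶ K := S.map χ ≫ e.inv
      let z' : S.obj ((eps h O).pull.obj (P (epsRing h O) V)) ⟶ S.obj M :=
        ι.inv.app (P (epsRing h O) V) ≫ (adj.homEquiv _ _).symm y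
      let φ : P (epsRing h O) V ⟶ (eps h O).push.obj M :=
        (eps h O).adj.homEquiv _ _ ((singleFunctor (Mod O) 0).preimage z')
      refine ⟨φ, ?_⟩
      apply (singleFunctor (Mod (epsRing h O)) 0).map_injective
      change S.map (φ ≫ ψ) = S.map χ
      rw [Functor.map_comp, hψ, ← Category.assoc, hΘ]
      have h5 : ι.hom.app (P (epsRing h O) V) ≫
          S.map (((eps h O).adj.homEquiv _ _).symm φ) = (adj.homEquiv _ _).symm y := by
        have : ((eps h O).adj.homEquiv _ _).symm φ = (singleFunctor (Mod O) 0).preimage z' :=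
          Equiv.symm_apply_apply _ _
        rw [this]
        have h6 : S.map ((singleFunctor (Mod O) 0).preimage z') = z' :=
          (singleFunctor (Mod O) 0).map_preimage _
        rw [h6, Iso.hom_inv_id_app_assoc]
      rw [h5, Equiv.apply_symm_apply, Category.assoc, Iso.inv_hom_id, Category.comp_id]
  haveI : IsIso ψ := isIso_of_sections ψ key
  have h7 : IsIso (gt ≫ e.hom) := by
    rw [← hψ]
    infer_instance
  have hgt : IsIso gt := IsIso.of_isIso_comp_right gt e.hom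
  have hu : adj.unit.app _ ≫ R.map g = gt := (Adjunction.homEquiv_unit _ _ _ _).symm
  exact IsIso.of_isIso_fac_right hu

end Derived

section Main

variable [HasDerivedCategory.{w} (Mod O)] [HasDerivedCategory.{w'} (Mod (epsRing h O))]
  [PreservesFiniteLimits (eps h O).pull]
  {R : DerivedCategory (Mod O) ⥤ DerivedCategory (Mod (epsRing h O))}
  (adj : (eps h O).pull.mapDerivedCategory ⊣ R)
  (A : ObjectProperty (Mod O)) [WSerre.IsWeakSerre A] (B : Set C)
  (h3 : ∀ U : C, ∃ (ι : Type u) (Y : ι → C) (g : ∀ i, Y i ⟶ U),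
    Sieve.ofArrows Y g ∈ J' U ∧ ∀ i, Y i ∈ B)
  (h4 : ∀ U ∈ B, ∀ F : Mod O, A F → ∀ p : ℕ, 0 < p → Subsingleton (ModSite.HU O F p U))

include h3 h4 in
omit [HasDerivedCategory.{w} (Mod O)] [HasDerivedCategory.{w'} (Mod (epsRing h O))] in
theorem isWeakSerre_map_push : WSerre.IsWeakSerre (A.map (eps h O).push) :=
  EpsAbs.isWeakSerre_map (eps h O).adj A (fun S hS hA => epi_push_map h O A B h3 h4 S hS hA)

include adj h3 h4 in
theorem main :
    WSerre.IsWeakSerre (A.map (eps h O).push) ∧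
    (∀ Y : DerivedCategory (Mod (epsRing h O)), WSerre.cohIn (A.map (eps h O).push) Y →
      WSerre.cohIn A ((eps h O).pull.mapDerivedCategory.obj Y) ∧ IsIso (adj.unit.app Y)) ∧
    (∀ X : DerivedCategory (Mod O), WSerre.cohIn A X →
      WSerre.cohIn (A.map (eps h O).push) (R.obj X) ∧ IsIso (adj.counit.app X)) := by
  haveI hWS := isWeakSerre_map_push h O A B h3 h4
  refine ⟨hWS, ?_⟩
  have hBJ : ∀ U : C, ∃ (ι : Type u) (Y : ι → C) (g : ∀ i, Y i ⟶ U),
      Sieve.ofArrows Y g ∈ J U ∧ ∀ i, Y i ∈ B := fun U => by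
    obtain ⟨ι, Y, g, hc, hY⟩ := h3 U
    exact ⟨ι, Y, g, h _ hc, hY⟩
  refine ModPullFree.main (eps h O) adj A (A.map (eps h O).push)
    (EpsAbs.h2a (eps h O).adj A) (fun F' G' _ hG' => EpsAbs.h2b (eps h O).adj A F' G' hG')
    (EpsAbs.h2c (eps h O).adj A) ?_ B hBJ ?_ B h3 ?_
  · rintro F' ⟨M, hM, ⟨e⟩⟩
    haveI := isIso_unit_push h O adj B h3 M (fun V hV k hk => h4 V hV M hM k hk)
    exact (NatTrans.isIso_app_iff_of_iso adj.unit
      ((singleFunctor (Mod (epsRing h O)) 0).mapIso e)).1 inferInstance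
  · intro V hV
    refine ⟨0, fun T hT => ?_⟩
    obtain ⟨ι, Yc, f, hf, hcov, hY⟩ := refine_cover B hBJ T hT
    exact ⟨ι, Yc, f, hf, hcov, fun i F hF k hk => h4 (Yc i) (hY i) F hF k hk⟩
  · intro V hV
    refine ⟨0, fun T hT => ?_⟩
    obtain ⟨ι, Yc, f, hf, hcov, hY⟩ := refine_cover B h3 T hT
    exact ⟨ι, Yc, f, hf, hcov, fun i F hF k hk => h4 (Yc i) (hY i) F hF k hk⟩

end Main

end Groth.Agent.Lib.Helper34.EpsCmp
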