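import Mathlib
import Groth.Agent.Lib.Helper68.ExtAdj

/-!
# Derived category of a reflective exact subcategory

`adj : w ⊣ u` an adjunction of exact functors with invertible counit (`u` fully faithful).
Then `u.mapDerivedCategory` is fully faithful and its essential image consists of the objects
whose cohomology lies in the essential image of `u`.
-/

open CategoryTheory Limits

namespace Groth.Agent.Lib.Helper34.ExactAdjDer

open Groth.Agent.Lib.Helper68.KInj Groth.Agent.Lib.Helper68.ExtAdj

universe w₁ w₂ v v' u₁ u₂

variable {A : Type u₁} [Category.{v} A] [Abelian A]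
  {B : Type u₂} [Category.{v'} B] [Abelian B] {u : A ⥤ B} {w : B ⥤ A} (adj : w ⊣ u)
  [u.Additive] [w.Additive]
  [PreservesFiniteLimits w] [PreservesFiniteColimits w] [PreservesFiniteLimits u]
  [PreservesFiniteColimits u] [HasDerivedCategory.{w₁} A] [HasDerivedCategory.{w₂} B]

theorem isIso_counit_adjDer (h : ∀ Y : A, IsIso (adj.counit.app Y)) :
    IsIso (adjDer adj).counit := by
  have key : ∀ I : CochainComplex A ℤ, IsIso ((adjDer adj).counit.app (DerivedCategory.Q.obj I)) := by
    intro I
    have h1 : IsIso (counitCx adj I) := by
      have : ∀ n, IsIso ((counitCx adj I).f n) := fun n => by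
        rw [counitCx_f]; exact h _
      exact HomologicalComplex.Hom.isIso_of_components _
    dsimp only [adjDer]
    rw [Adjunction.localization_counit_app]
    have h2 : IsIso (DerivedCategory.Q.map ((adjCx adj).counit.app I)) := by
      change IsIso (DerivedCategory.Q.map (counitCx adj I))
      infer_instance
    infer_instance
  have : ∀ K : DerivedCategory A, IsIso ((adjDer adj).counit.app K) := by
    intro K
    have e : K ≅ DerivedCategory.Q.obj (DerivedCategory.Q.objPreimage K) :=
      (DerivedCategory.Q.objObjPreimageIso K).symm
    have := key (DerivedCategory.Q.objPreimage K)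
    have hn := (adjDer adj).counit.naturality e.hom
    have : (adjDer adj).counit.app K = (u.mapDerivedCategory ⋙ w.mapDerivedCategory).map e.hom ≫
        (adjDer adj).counit.app _ ≫ e.inv := by
      rw [← Category.assoc, hn]; simp
    rw [this]
    infer_instance
  exact NatIso.isIso_of_isIso_app _

/-- the derived functor of a fully faithful exact functor with exact left adjoint is fully
faithful -/
noncomputable def fullyFaithfulMapDerivedCategory (h : ∀ Y : A, IsIso (adj.counit.app Y)) :
    u.mapDerivedCategory.FullyFaithful :=
  haveI := isIso_counit_adjDer adj h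
  (adjDer adj).fullyFaithfulROfIsIsoCounit

omit [HasDerivedCategory.{w₁} A] [HasDerivedCategory.{w₂} B] in
/-- if the unit is invertible on the cohomology of `M`, the termwise unit is a quasi-isomorphism -/
theorem quasiIso_unitCx (M : CochainComplex B ℤ)
    (h : ∀ n : ℤ, IsIso (adj.unit.app (M.homology n))) : QuasiIso (unitCx adj M) := by
  rw [quasiIso_iff]
  intro n
  rw [quasiIsoAt_iff_isIso_homologyMap]
  have h1 := NatTrans.app_homology adj.unit (M.sc n)
  have h2 : IsIso (ShortComplex.homologyMap ((M.sc n).mapNatTrans adj.unit)) := by
    have h3 : ShortComplex.homologyMap ((M.sc n).mapNatTrans adj.unit) =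
        ((M.sc n).mapHomologyIso (𝟭 B)).hom ≫ adj.unit.app (M.sc n).homology ≫
          ((M.sc n).mapHomologyIso (w ⋙ u)).inv := by
      rw [h1]; simp
    rw [h3]
    have : IsIso (adj.unit.app (M.sc n).homology) := h n
    infer_instance
  exact h2

omit [HasDerivedCategory.{w₁} A] [HasDerivedCategory.{w₂} B] [PreservesFiniteLimits w]
  [PreservesFiniteColimits w] [w.Additive] in
/-- an exact functor commutes with the cohomology of complexes -/
noncomputable def homologyMapIso (N : CochainComplex A ℤ) (n : ℤ) :
    ((u.mapHomologicalComplex (ComplexShape.up ℤ)).obj N).homology n ≅ u.obj (N.homology n) :=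
  (N.sc n).mapHomologyIso u

include adj in
/-- objects in the essential image of `u.mapDerivedCategory` have cohomology in the essential
image of `u` -/
theorem essImage_homology_of_essImage (K : DerivedCategory B)
    (hK : u.mapDerivedCategory.essImage K) (n : ℤ) :
    u.essImage ((DerivedCategory.homologyFunctor B n).obj K) := by
  obtain ⟨L, ⟨e⟩⟩ := hK
  let N := DerivedCategory.Q.objPreimage L
  let e1 : K ≅ DerivedCategory.Q.obj ((u.mapHomologicalComplex (ComplexShape.up ℤ)).obj N) :=
    e.symm ≪≫ u.mapDerivedCategory.mapIso (DerivedCategory.Q.objObjPreimageIso L).symm ≪≫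
      u.mapDerivedCategoryFactors.app N
  let e2 : (DerivedCategory.homologyFunctor B n).obj K ≅ u.obj (N.homology n) :=
    (DerivedCategory.homologyFunctor B n).mapIso e1 ≪≫
      (DerivedCategory.homologyFunctorFactors B n).app _ ≪≫ homologyMapIso N n
  exact ⟨N.homology n, ⟨e2.symm⟩⟩

include adj in
/-- if `u` is fully faithful and the cohomology of `K` lies in the essential image of `u`, then `K`
lies in the essential image of `u.mapDerivedCategory` -/
theorem essImage_of_essImage_homology [u.Full] [u.Faithful] (K : DerivedCategory B)
    (hK : ∀ n : ℤ, u.essImage ((DerivedCategory.homologyFunctor B n).obj K)) :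
    u.mapDerivedCategory.essImage K := by
  let M := DerivedCategory.Q.objPreimage K
  have e0 : DerivedCategory.Q.obj M ≅ K := DerivedCategory.Q.objObjPreimageIso K
  have hM : ∀ n : ℤ, IsIso (adj.unit.app (M.homology n)) := by
    intro n
    rw [adj.isIso_unit_app_iff_mem_essImage]
    have e : (DerivedCategory.homologyFunctor B n).obj K ≅ M.homology n :=
      (DerivedCategory.homologyFunctor B n).mapIso e0.symm ≪≫
        (DerivedCategory.homologyFunctorFactors B n).app M
    exact Functor.essImage.ofIso e (hK n)
  have hq := quasiIso_unitCx adj M hM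
  let e1 : DerivedCategory.Q.obj M ≅ DerivedCategory.Q.obj
      ((u.mapHomologicalComplex _).obj ((w.mapHomologicalComplex _).obj M)) :=
    asIso (DerivedCategory.Q.map (unitCx adj M))
  exact ⟨DerivedCategory.Q.obj ((w.mapHomologicalComplex _).obj M),
    ⟨u.mapDerivedCategoryFactors.app _ ≪≫ e1.symm ≪≫ e0⟩⟩

end Groth.Agent.Lib.Helper34.ExactAdjDer
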