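import Mathlib

/-!
# The category of finitely presented modules (as a full subcategory of `ModuleCat A`)

Infrastructure for right exact functors on f.p. modules:
* `FP A` abbreviation, `FP.of`, `FP.homOf`, `FP.elt x : A ⟶ M`
* `HasBinaryBiproducts (FP A)`; right exact functors on `FP A` are additive, preserve epis
* `FP.hom_ext_elt` : the maps `F(elt x)` are jointly epi on `F(M)`
* `FP.exists_desc` : cokernel property of `F` applied to a presentation
-/

set_option autoImplicit false
universe u v' u'
open CategoryTheory CategoryTheory.Limits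

namespace Groth.Agent.Lib.Helper34.FPMod

variable (A : Type u) [CommRing A]

/-- The category of finitely presented `A`-modules. -/
abbrev FP := ObjectProperty.FullSubcategory
  (fun M : ModuleCat.{u} A => Module.FinitePresentation A M)

namespace FP

variable {A}

/-- Object of `FP A` from a bundled-free f.p. module. -/
abbrev of (M : Type u) [AddCommGroup M] [Module A M] [h : Module.FinitePresentation A M] : FP A :=
  ⟨ModuleCat.of A M, h⟩

instance (M : FP A) : Module.FinitePresentation A M.obj := M.property

/-- Morphism of `FP A` from a linear map. -/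
abbrev homOf {M N : FP A} (f : M.obj →ₗ[A] N.obj) : M ⟶ N :=
  ObjectProperty.homMk (ModuleCat.ofHom f)

@[simp] lemma homOf_hom_hom {M N : FP A} (f : M.obj →ₗ[A] N.obj) :
    (homOf f).hom.hom = f := rfl

lemma homOf_comp {M N P : FP A} (f : M.obj →ₗ[A] N.obj) (g : N.obj →ₗ[A] P.obj) :
    homOf f ≫ homOf g = homOf (g ∘ₗ f) := rfl

lemma homOf_add {M N : FP A} (f g : M.obj →ₗ[A] N.obj) :
    homOf (f + g) = homOf f + homOf g := rfl

lemma homOf_zero {M N : FP A} : homOf (0 : M.obj →ₗ[A] N.obj) = 0 := rfl

lemma homOf_id {M : FP A} : homOf (LinearMap.id : M.obj →ₗ[A] M.obj) = 𝟙 M := rfl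

lemma hom_eq_homOf {M N : FP A} (f : M ⟶ N) : f = homOf f.hom.hom := rfl

lemma homOf_sum {M N : FP A} {ι : Type*} (s : Finset ι) (f : ι → (M.obj →ₗ[A] N.obj)) :
    homOf (∑ i ∈ s, f i) = ∑ i ∈ s, homOf (f i) := by
  classical
  induction s using Finset.induction_on with
  | empty => simp [homOf_zero]
  | insert a s ha ih => rw [Finset.sum_insert ha, Finset.sum_insert ha, homOf_add, ih]

variable (A) in
/-- The object `A` of `FP A`. -/
abbrev one : FP A := ⟨ModuleCat.of A A, inferInstance⟩

/-- Multiplication by `a` on `A`. -/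
abbrev smulHom (a : A) : one A ⟶ one A :=
  ObjectProperty.homMk (ModuleCat.ofHom (LinearMap.lsmul A A a))

/-- The morphism `A ⟶ M` sending `1` to `x`. -/
abbrev elt {M : FP A} (x : M.obj) : one A ⟶ M :=
  homOf (LinearMap.toSpanSingleton A M.obj x)

lemma elt_comp {M N : FP A} (x : M.obj) (g : M ⟶ N) : elt x ≫ g = elt (g.hom.hom x) := by
  apply ObjectProperty.hom_ext
  ext
  simp

lemma elt_add {M : FP A} (x y : M.obj) : elt (x + y) = elt x + elt y := by
  rw [← homOf_add]
  congr 1
  ext
  simp

lemma elt_zero {M : FP A} : elt (0 : M.obj) = 0 := by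
  rw [← homOf_zero]
  congr 1
  ext
  simp

lemma elt_smul {M : FP A} (a : A) (x : M.obj) : elt (a • x) = smulHom a ≫ elt x := by
  apply ObjectProperty.hom_ext
  ext
  simp

lemma elt_one : elt (M := one A) (1 : A) = 𝟙 (one A) := by
  apply ObjectProperty.hom_ext
  ext
  simp

lemma elt_sum {M : FP A} {ι : Type*} (s : Finset ι) (x : ι → M.obj) :
    elt (∑ i ∈ s, x i) = ∑ i ∈ s, elt (x i) := by
  classical
  induction s using Finset.induction_on with
  | empty => simp [elt_zero]
  | insert a s ha ih => rw [Finset.sum_insert ha, Finset.sum_insert ha, elt_add, ih]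

/-- The explicit binary bicone on `M × N`. -/
noncomputable def prodBicone (M N : FP A) : BinaryBicone M N where
  pt := of (M.obj × N.obj)
  fst := homOf (LinearMap.fst A M.obj N.obj)
  snd := homOf (LinearMap.snd A M.obj N.obj)
  inl := homOf (LinearMap.inl A M.obj N.obj)
  inr := homOf (LinearMap.inr A M.obj N.obj)
  inl_fst := by apply ObjectProperty.hom_ext; ext; simp
  inl_snd := by apply ObjectProperty.hom_ext; ext; simp
  inr_fst := by apply ObjectProperty.hom_ext; ext; simp
  inr_snd := by apply ObjectProperty.hom_ext; ext; simp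

instance : HasBinaryBiproducts (FP A) where
  has_binary_biproduct M N := HasBinaryBiproduct.mk
    { bicone := prodBicone M N
      isBilimit := isBinaryBilimitOfTotal _ (by
        change homOf _ ≫ homOf _ + homOf _ ≫ homOf _ = _
        rw [homOf_comp, homOf_comp, ← homOf_add, ← homOf_id]
        congr 1
        refine LinearMap.ext fun (x : M.obj × N.obj) => ?_
        change (x.1, (0 : N.obj)) + ((0 : M.obj), x.2) = x
        ext <;> simp) }

instance : HasZeroObject (FP A) :=
  ⟨of PUnit.{u+1}, by
    rw [IsZero.iff_id_eq_zero]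
    apply ObjectProperty.hom_ext
    ext⟩

section Functor

variable {B : Type u'} [Category.{v'} B] [Preadditive B] [HasFiniteBiproducts B]
  (F : FP A ⥤ B) [PreservesFiniteColimits F]

include F in
lemma additive_of_rightExact : F.Additive := by
  have : HasZeroObject B := hasZeroObject_of_hasFiniteBiproducts B
  have : F.PreservesZeroMorphisms := inferInstance
  have : PreservesBinaryBiproducts F := preservesBinaryBiproducts_of_preservesBinaryCoproducts F
  exact Functor.additive_of_preservesBinaryBiproducts F

lemma epi_of_surjective {M N : FP A} (f : M ⟶ N) (hf : Function.Surjective f.hom.hom) : Epi f := by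
  have : Epi ((ObjectProperty.ι _).map f) := by
    rw [ObjectProperty.ι_map]
    exact (ModuleCat.epi_iff_surjective _).2 hf
  exact Functor.epi_of_epi_map (ObjectProperty.ι _) this

include F in
lemma epi_map_of_surjective {M N : FP A} (f : M ⟶ N) (hf : Function.Surjective f.hom.hom) :
    Epi (F.map f) := by
  have := epi_of_surjective f hf
  infer_instance

end Functor

/-- The free object `A^n`. -/
abbrev free (n : ℕ) : FP A := of (Fin n → A)

lemma free_id_eq_sum (n : ℕ) :
    𝟙 (free (A := A) n) =
      ∑ i : Fin n, homOf (M := free n) (N := one A) (LinearMap.proj i) ≫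
        elt (M := free n) (Pi.single i (1 : A)) := by
  rw [← homOf_id]
  simp_rw [homOf_comp]
  rw [← homOf_sum]
  congr 1
  refine LinearMap.ext fun (x : Fin n → A) => ?_
  simp only [LinearMap.id_coe, id_eq, LinearMap.coe_sum, Finset.sum_apply, LinearMap.coe_comp,
    Function.comp_apply, LinearMap.coe_proj, Function.eval, LinearMap.toSpanSingleton_apply]
  funext j
  simp [Finset.sum_apply, Pi.single_apply]

/-- The kernel-cokernel property in `FP A`: a right exact sequence is a cokernel cofork. -/
noncomputable def isColimitOfExact {P Q M : FP A} (q : P ⟶ Q) (p : Q ⟶ M)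
    (hp : Function.Surjective p.hom.hom) (hpq : Function.Exact q.hom.hom p.hom.hom) :
    IsColimit (CokernelCofork.ofπ (f := q) p (by
      apply ObjectProperty.hom_ext; ext x; exact hpq.apply_apply_eq_zero x)) := by
  have key : ∀ {Z : FP A} (k : Q ⟶ Z), q ≫ k = 0 →
      LinearMap.ker p.hom.hom ≤ LinearMap.ker k.hom.hom := by
    intro Z k hk x hx
    rw [LinearMap.mem_ker] at hx ⊢
    obtain ⟨y, rfl⟩ := (hpq x).1 hx
    have := congrArg (fun t => t.hom.hom y) hk
    simpa using this
  refine CokernelCofork.IsColimit.ofπ _ _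
    (fun {Z} k hk => homOf (((LinearMap.ker p.hom.hom).liftQ k.hom.hom (key k hk)) ∘ₗ
      (LinearMap.quotKerEquivOfSurjective p.hom.hom hp).symm.toLinearMap)) ?_ ?_
  · intro Z k hk
    apply ObjectProperty.hom_ext
    ext x
    have : (LinearMap.quotKerEquivOfSurjective p.hom.hom hp).symm (p.hom.hom x) =
        Submodule.Quotient.mk x := by
      rw [LinearEquiv.symm_apply_eq]; rfl
    simp [this]
  · intro Z k hk m hm
    apply ObjectProperty.hom_ext
    ext x
    obtain ⟨y, rfl⟩ := hp x
    have : (LinearMap.quotKerEquivOfSurjective p.hom.hom hp).symm (p.hom.hom y) =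
        Submodule.Quotient.mk y := by
      rw [LinearEquiv.symm_apply_eq]; rfl
    subst hm
    simp [this]

instance finitePresentation_quotient_range {M N : FP A} (f : M ⟶ N) :
    Module.FinitePresentation A (N.obj ⧸ LinearMap.range f.hom.hom) := by
  refine Module.finitePresentation_of_surjective (LinearMap.range f.hom.hom).mkQ
    (Submodule.mkQ_surjective _) ?_
  rw [Submodule.ker_mkQ, LinearMap.range_eq_map]
  exact (Module.Finite.fg_top (R := A) (M := M.obj)).map _

/-- The explicit cokernel object. -/
abbrev coker {M N : FP A} (f : M ⟶ N) : FP A := of (N.obj ⧸ LinearMap.range f.hom.hom)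

/-- The explicit cokernel projection. -/
abbrev cokerπ {M N : FP A} (f : M ⟶ N) : N ⟶ coker f :=
  homOf (LinearMap.range f.hom.hom).mkQ

lemma cokerπ_surjective {M N : FP A} (f : M ⟶ N) :
    Function.Surjective (cokerπ f).hom.hom := Submodule.mkQ_surjective _

lemma cokerπ_exact {M N : FP A} (f : M ⟶ N) :
    Function.Exact f.hom.hom (cokerπ f).hom.hom := by
  rw [LinearMap.exact_iff]
  simp

instance : HasCokernels (FP A) where
  has_colimit f := HasColimit.mk ⟨_, isColimitOfExact f (cokerπ f) (cokerπ_surjective f)
    (cokerπ_exact f)⟩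

instance : HasCoequalizers (FP A) := Preadditive.hasCoequalizers_of_hasCokernels

instance : HasFiniteCoproducts (FP A) := hasFiniteCoproducts_of_has_binary_and_initial

section Functor2

variable {B : Type u'} [Category.{v'} B] [Preadditive B] [HasFiniteBiproducts B]
  (F : FP A ⥤ B) [PreservesFiniteColimits F]

include F in
/-- The morphisms `F(elt x)`, `x ∈ M`, are jointly epimorphic on `F(M)`. -/
lemma hom_ext_elt {M : FP A} {Z : B} (f g : F.obj M ⟶ Z)
    (h : ∀ x : M.obj, F.map (elt x) ≫ f = F.map (elt x) ≫ g) : f = g := by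
  obtain ⟨n, m, p, q, hp, -⟩ := Module.FinitePresentation.exists_fin' A M.obj
  have hadd := additive_of_rightExact F
  have := epi_map_of_surjective F (homOf (M := free n) (N := M) p) hp
  rw [← cancel_epi (F.map (homOf (M := free n) (N := M) p))]
  have e : homOf (M := free n) (N := M) p =
      ∑ i : Fin n, homOf (M := free n) (N := one A) (LinearMap.proj i) ≫
        elt (p (Pi.single i (1 : A))) := by
    conv_lhs => rw [← Category.id_comp (homOf (M := free n) (N := M) p), free_id_eq_sum,
      Preadditive.sum_comp]
    refine Finset.sum_congr rfl fun i _ => ?_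
    rw [Category.assoc, elt_comp]
  rw [e, Functor.map_sum, Preadditive.sum_comp, Preadditive.sum_comp]
  refine Finset.sum_congr rfl fun i _ => ?_
  rw [Functor.map_comp, Category.assoc, Category.assoc, h]

include F in
/-- Cokernel property of `F` applied to a right exact sequence. -/
lemma exists_desc {P Q M : FP A} (q : P ⟶ Q) (p : Q ⟶ M)
    (hp : Function.Surjective p.hom.hom) (hpq : Function.Exact q.hom.hom p.hom.hom)
    {Z : B} (h : F.obj Q ⟶ Z) (hh : F.map q ≫ h = 0) :
    ∃ t : F.obj M ⟶ Z, F.map p ≫ t = h := by
  have hc := isColimitOfExact q p hp hpq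
  have hc' := CokernelCofork.mapIsColimit _ hc F
  exact ⟨hc'.desc (CokernelCofork.ofπ h hh), hc'.fac _ WalkingParallelPair.one⟩

variable (F' : FP A ⥤ B) [PreservesFiniteColimits F']

include F in
/-- A natural transformation between right exact functors on `FP A` is determined by its
component at `A`. -/
lemma natTrans_ext (t t' : F ⟶ F') (h : t.app (one A) = t'.app (one A)) : t = t' := by
  ext M
  apply hom_ext_elt F
  intro x
  rw [t.naturality, t'.naturality, h]

/-- The free-module component of the natural transformation extending `φ`. -/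
noncomputable def phiFree (φ : F.obj (one A) ⟶ F'.obj (one A)) (n : ℕ) :
    F.obj (free n) ⟶ F'.obj (free n) :=
  ∑ i : Fin n, F.map (homOf (M := free n) (N := one A) (LinearMap.proj i)) ≫ φ ≫
    F'.map (elt (M := free n) (Pi.single i (1 : A)))

lemma elt_comp_proj {n : ℕ} (y : Fin n → A) (i : Fin n) :
    elt (M := free n) y ≫ homOf (M := free n) (N := one A) (LinearMap.proj i) =
      smulHom (y i) := by
  apply ObjectProperty.hom_ext
  ext
  simp

lemma sum_smulHom_comp_elt_single {n : ℕ} (y : Fin n → A) :
    ∑ i : Fin n, smulHom (y i) ≫ elt (M := free n) (Pi.single i (1 : A)) =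
      elt (M := free n) y := by
  simp_rw [← elt_smul]
  rw [← elt_sum]
  congr 1
  funext j
  simp [Finset.sum_apply, Pi.single_apply]

include F F' in
lemma elt_phiFree (φ : F.obj (one A) ⟶ F'.obj (one A))
    (hφ : ∀ a : A, F.map (smulHom a) ≫ φ = φ ≫ F'.map (smulHom a)) {n : ℕ} (y : Fin n → A) :
    F.map (elt (M := free n) y) ≫ phiFree F F' φ n = φ ≫ F'.map (elt (M := free n) y) := by
  have hadd' := additive_of_rightExact F'
  rw [phiFree, Preadditive.comp_sum]
  simp_rw [← Category.assoc (F.map _) (F.map _), ← F.map_comp, elt_comp_proj,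
    ← Category.assoc (F.map _) φ, hφ, Category.assoc, ← F'.map_comp]
  rw [← Preadditive.comp_sum, ← Functor.map_sum, sum_smulHom_comp_elt_single]

include F F' in
/-- Components of the natural transformation extending `φ`. -/
lemma exists_app (φ : F.obj (one A) ⟶ F'.obj (one A))
    (hφ : ∀ a : A, F.map (smulHom a) ≫ φ = φ ≫ F'.map (smulHom a)) (M : FP A) :
    ∃ t : F.obj M ⟶ F'.obj M, ∀ x : M.obj, F.map (elt x) ≫ t = φ ≫ F'.map (elt x) := by
  obtain ⟨n, m, p, q, hp, hpq⟩ := Module.FinitePresentation.exists_fin' A M.obj
  have hadd' := additive_of_rightExact F'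
  let p' : free n ⟶ M := homOf p
  let q' : free (A := A) m ⟶ free n := homOf q
  have hq : F.map q' ≫ (phiFree F F' φ n ≫ F'.map p') = 0 := by
    apply hom_ext_elt F
    intro z
    rw [← Category.assoc, ← F.map_comp, elt_comp, ← Category.assoc, elt_phiFree F F' φ hφ,
      Category.assoc, ← F'.map_comp, elt_comp, comp_zero]
    have : p'.hom.hom (q'.hom.hom z) = 0 := hpq.apply_apply_eq_zero z
    rw [this, elt_zero, F'.map_zero, comp_zero]
  obtain ⟨t, ht⟩ := exists_desc F q' p' hp hpq _ hq
  refine ⟨t, fun x => ?_⟩
  obtain ⟨y, rfl⟩ := hp x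
  have : elt (p y) = elt (M := free n) y ≫ p' := (elt_comp (M := free n) y p').symm
  rw [this, F.map_comp, Category.assoc, ht, ← Category.assoc, elt_phiFree F F' φ hφ,
    Category.assoc, ← F'.map_comp]

include F F' in
/-- A morphism `F(A) ⟶ F'(A)` commuting with the `A`-actions extends to a natural
transformation. -/
lemma exists_natTrans (φ : F.obj (one A) ⟶ F'.obj (one A))
    (hφ : ∀ a : A, F.map (smulHom a) ≫ φ = φ ≫ F'.map (smulHom a)) :
    ∃ t : F ⟶ F', t.app (one A) = φ := by
  choose t ht using exists_app F F' φ hφ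
  refine ⟨{ app := t, naturality := ?_ }, ?_⟩
  · intro M N g
    apply hom_ext_elt F
    intro x
    rw [← Category.assoc, ← F.map_comp, elt_comp, ht, ← Category.assoc, ht, Category.assoc,
      ← F'.map_comp, elt_comp]
  · have := ht (one A) (1 : A)
    rw [elt_one, F.map_id, F'.map_id, Category.id_comp, Category.comp_id] at this
    exact this

end Functor2

end FP

end Groth.Agent.Lib.Helper34.FPMod
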