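import Groth.Agent.Lib.Helper34.FPMod

/-!
# `K ⊗_A -` on finitely presented modules, with values in an additive category with cokernels

Given `K : B` and `κ : A →+* End K`, we construct a right exact functor `functor κ : FP A ⥤ B`
together with `functorOneIso κ : (functor κ).obj A ≅ K` compatible with the `A`-actions.
The construction is by corepresentability: `(functor κ).obj M` corepresents
`Z ↦ Hom_A(M, Hom_B(K, Z))`.
-/

set_option autoImplicit false
universe u v' u'
open CategoryTheory CategoryTheory.Limits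

namespace Groth.Agent.Lib.Helper34.FPMod

open FP

variable {A : Type u} [CommRing A] {B : Type u'} [Category.{v'} B] [Preadditive B] {K : B}

/-- `K ⟶ Z` as an `A`-module through `κ`. -/
def HomK (_ : A →+* End K) (Z : B) : Type v' := K ⟶ Z

namespace HomK

variable (κ : A →+* End K)

instance (Z : B) : AddCommGroup (HomK κ Z) := inferInstanceAs (AddCommGroup (K ⟶ Z))

/-- The underlying morphism. -/
def hom {Z : B} : HomK κ Z →+ (K ⟶ Z) := AddMonoidHom.id _

/-- Constructor. -/
def mk {Z : B} (h : K ⟶ Z) : HomK κ Z := h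

@[simp] lemma hom_mk {Z : B} (h : K ⟶ Z) : hom κ (mk κ h) = h := rfl

@[ext] lemma ext {Z : B} {h h' : HomK κ Z} (e : hom κ h = hom κ h') : h = h' := e

instance (Z : B) : Module A (HomK κ Z) where
  smul a h := mk κ ((κ a : K ⟶ K) ≫ hom κ h)
  one_smul h := by
    change (κ 1 : K ⟶ K) ≫ hom κ h = h
    rw [map_one]; exact Category.id_comp _
  mul_smul a b h := by
    change (κ (a * b) : K ⟶ K) ≫ hom κ h = (κ a : K ⟶ K) ≫ (κ b : K ⟶ K) ≫ hom κ h
    rw [mul_comm, map_mul, End.mul_def, Category.assoc]
  smul_zero a := by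
    change (κ a : K ⟶ K) ≫ (0 : K ⟶ Z) = 0
    exact comp_zero
  smul_add a h h' := by
    change (κ a : K ⟶ K) ≫ (hom κ h + hom κ h') = (κ a : K ⟶ K) ≫ hom κ h + (κ a : K ⟶ K) ≫ hom κ h'
    exact Preadditive.comp_add ..
  add_smul a b h := by
    change (κ (a + b) : K ⟶ K) ≫ hom κ h = (κ a : K ⟶ K) ≫ hom κ h + (κ b : K ⟶ K) ≫ hom κ h
    rw [map_add]; exact Preadditive.add_comp ..
  zero_smul h := by
    change (κ 0 : K ⟶ K) ≫ hom κ h = 0
    rw [map_zero]; exact zero_comp

@[simp] lemma hom_smul {Z : B} (a : A) (h : HomK κ Z) :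
    hom κ (a • h) = (κ a : K ⟶ K) ≫ hom κ h := rfl

/-- Post-composition as a linear map. -/
def post {X Z : B} (t : X ⟶ Z) : HomK κ X →ₗ[A] HomK κ Z where
  toFun h := mk κ (hom κ h ≫ t)
  map_add' h h' := by
    change (hom κ h + hom κ h') ≫ t = hom κ h ≫ t + hom κ h' ≫ t
    exact Preadditive.add_comp ..
  map_smul' a h := by
    change ((κ a : K ⟶ K) ≫ hom κ h) ≫ t = (κ a : K ⟶ K) ≫ hom κ h ≫ t
    exact Category.assoc ..

@[simp] lemma hom_post {X Z : B} (t : X ⟶ Z) (h : HomK κ X) :
    hom κ (post κ t h) = hom κ h ≫ t := rfl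

end HomK

open HomK

variable (κ : A →+* End K)

/-- Corepresentability data for `Z ↦ Hom_A(M, Hom(K, Z))`. -/
structure Rep (M : FP A) where
  /-- the corepresenting object -/
  X : B
  /-- the universal element -/
  u : M.obj →ₗ[A] HomK κ X
  /-- the induced morphism -/
  desc : ∀ {Z : B}, (M.obj →ₗ[A] HomK κ Z) → (X ⟶ Z)
  fac : ∀ {Z : B} (ψ : M.obj →ₗ[A] HomK κ Z) (x : M.obj), hom κ (u x) ≫ desc ψ = hom κ (ψ x)
  uniq : ∀ {Z : B} (t t' : X ⟶ Z), (∀ x : M.obj, hom κ (u x) ≫ t = hom κ (u x) ≫ t') → t = t'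

/-- Corepresentability for `M = A`. -/
def repOne : Rep κ (one A) where
  X := K
  u := LinearMap.toSpanSingleton A (HomK κ K) (mk κ (𝟙 K))
  desc ψ := hom κ (ψ (1 : A))
  fac ψ x := by
    have : ψ x = x • ψ (1 : A) := by rw [← map_smul, smul_eq_mul, mul_one]
    rw [this]
    simp
  uniq t t' h := by
    have := h (1 : A)
    simpa using this

variable [HasFiniteBiproducts B]

/-- Corepresentability for `M = A^n`. -/
noncomputable def repFree (n : ℕ) : Rep κ (free (A := A) n) where
  X := ⨁ (fun _ : Fin n => K)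
  u := ∑ i : Fin n, (LinearMap.toSpanSingleton A (HomK κ (⨁ (fun _ : Fin n => K)))
      (mk κ (biproduct.ι (fun _ : Fin n => K) i))) ∘ₗ (LinearMap.proj i)
  desc ψ := biproduct.desc (fun i => hom κ (ψ (Pi.single i (1 : A))))
  fac ψ x := by
    have hx : ψ x = ∑ i : Fin n, (x i) • ψ (Pi.single i (1 : A)) := by
      simp_rw [← map_smul, ← map_sum]
      congr 1
      funext j
      simp [Finset.sum_apply, Pi.single_apply]
    rw [hx]
    simp only [LinearMap.coe_sum, Finset.sum_apply, LinearMap.coe_comp, Function.comp_apply,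
      LinearMap.coe_proj, Function.eval, LinearMap.toSpanSingleton_apply, map_sum, hom_smul,
      hom_mk, Preadditive.sum_comp, Category.assoc, biproduct.ι_desc]
  uniq t t' h := by
    apply biproduct.hom_ext'
    intro i
    have := h (Pi.single i (1 : A))
    simp only [LinearMap.coe_sum, Finset.sum_apply, LinearMap.coe_comp, Function.comp_apply,
      LinearMap.coe_proj, Function.eval, LinearMap.toSpanSingleton_apply, map_sum, hom_smul,
      hom_mk, Preadditive.sum_comp, Category.assoc] at this
    rw [Finset.sum_eq_single i, Finset.sum_eq_single i] at this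
    · simpa using this
    · intro j _ hj
      simp [Pi.single_apply, hj]
    · simp
    · intro j _ hj
      simp [Pi.single_apply, hj]
    · simp

variable [HasCokernels B]

/-- Corepresentability passes to cokernels. -/
noncomputable def repCoker {P Q M : FP A} (rP : Rep κ P) (rQ : Rep κ Q) (q : P ⟶ Q) (p : Q ⟶ M)
    (hp : Function.Surjective p.hom.hom) (hpq : Function.Exact q.hom.hom p.hom.hom) :
    Rep κ M := by
  let tq : rP.X ⟶ rQ.X := rP.desc (rQ.u ∘ₗ q.hom.hom)
  have htq : ∀ z : P.obj, hom κ (rP.u z) ≫ tq = hom κ (rQ.u (q.hom.hom z)) := fun z =>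
    rP.fac (rQ.u ∘ₗ q.hom.hom) z
  have hle : LinearMap.ker p.hom.hom ≤ LinearMap.ker (post κ (cokernel.π tq) ∘ₗ rQ.u) := by
    intro y hy
    rw [LinearMap.mem_ker] at hy ⊢
    obtain ⟨z, rfl⟩ := (hpq y).1 hy
    apply HomK.ext
    rw [LinearMap.comp_apply, hom_post, ← htq, Category.assoc, cokernel.condition, comp_zero]
    rfl
  let u : M.obj →ₗ[A] HomK κ (cokernel tq) :=
    ((LinearMap.ker p.hom.hom).liftQ (post κ (cokernel.π tq) ∘ₗ rQ.u) hle) ∘ₗ
      (LinearMap.quotKerEquivOfSurjective p.hom.hom hp).symm.toLinearMap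
  have hu : ∀ y : Q.obj, hom κ (u (p.hom.hom y)) = hom κ (rQ.u y) ≫ cokernel.π tq := by
    intro y
    have : (LinearMap.quotKerEquivOfSurjective p.hom.hom hp).symm (p.hom.hom y) =
        Submodule.Quotient.mk y := by
      rw [LinearEquiv.symm_apply_eq]; rfl
    simp [u, this]
  have hzero : ∀ {Z : B} (ψ : M.obj →ₗ[A] HomK κ Z),
      tq ≫ rQ.desc (ψ ∘ₗ p.hom.hom) = 0 := by
    intro Z ψ
    apply rP.uniq
    intro z
    rw [← Category.assoc, htq, rQ.fac, comp_zero, LinearMap.comp_apply,
      hpq.apply_apply_eq_zero z, map_zero, map_zero]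
  exact
    { X := cokernel tq
      u := u
      desc := fun ψ => cokernel.desc tq (rQ.desc (ψ ∘ₗ p.hom.hom)) (hzero ψ)
      fac := by
        intro Z ψ x
        obtain ⟨y, rfl⟩ := hp x
        rw [hu, Category.assoc, cokernel.π_desc, rQ.fac]
        rfl
      uniq := by
        intro Z t t' h
        rw [← cancel_epi (cokernel.π tq)]
        apply rQ.uniq
        intro y
        rw [← Category.assoc, ← Category.assoc, ← hu, h] }

lemma nonempty_rep (M : FP A) : Nonempty (Rep κ M) := by
  obtain ⟨n, m, p, q, hp, hpq⟩ := Module.FinitePresentation.exists_fin' A M.obj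
  exact ⟨repCoker κ (repFree κ m) (repFree κ n) (homOf (M := free m) (N := free n) q)
    (homOf (M := free n) (N := M) p) hp hpq⟩

/-- A choice of corepresenting data. -/
noncomputable def rep (M : FP A) : Rep κ M := Classical.choice (nonempty_rep κ M)

/-- The functor `K ⊗_A -` on f.p. modules. -/
noncomputable def functor : FP A ⥤ B where
  obj M := (rep κ M).X
  map {M N} g := (rep κ M).desc ((rep κ N).u ∘ₗ g.hom.hom)
  map_id M := (rep κ M).uniq _ _ (fun x => by
    rw [(rep κ M).fac, Category.comp_id]; rfl)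
  map_comp {M N P} g h := (rep κ M).uniq _ _ (fun x => by
    rw [(rep κ M).fac, ← Category.assoc, (rep κ M).fac]
    simp only [LinearMap.comp_apply]
    rw [(rep κ N).fac]
    rfl)

/-- The universal element of `(functor κ).obj M`. -/
noncomputable def univ (M : FP A) : M.obj →ₗ[A] HomK κ ((functor κ).obj M) := (rep κ M).u

/-- The morphism out of `(functor κ).obj M` induced by a linear map. -/
noncomputable def fdesc {M : FP A} {Z : B} (ψ : M.obj →ₗ[A] HomK κ Z) :
    (functor κ).obj M ⟶ Z := (rep κ M).desc ψ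

lemma univ_fdesc {M : FP A} {Z : B} (ψ : M.obj →ₗ[A] HomK κ Z) (x : M.obj) :
    hom κ (univ κ M x) ≫ fdesc κ ψ = hom κ (ψ x) := (rep κ M).fac ψ x

lemma fext {M : FP A} {Z : B} (t t' : (functor κ).obj M ⟶ Z)
    (h : ∀ x : M.obj, hom κ (univ κ M x) ≫ t = hom κ (univ κ M x) ≫ t') : t = t' :=
  (rep κ M).uniq t t' h

lemma univ_map {M N : FP A} (g : M ⟶ N) (x : M.obj) :
    hom κ (univ κ M x) ≫ (functor κ).map g = hom κ (univ κ N (g.hom.hom x)) :=
  (rep κ M).fac _ x

instance : (functor κ).PreservesZeroMorphisms where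
  map_zero M N := fext κ _ _ (fun x => by
    rw [univ_map, comp_zero]
    change hom κ (univ κ N 0) = 0
    rw [map_zero, map_zero])

/-- The cokernel cofork obtained by applying `functor κ` to an explicit cokernel is a colimit. -/
noncomputable def isColimitMapCoker {M N : FP A} (f : M ⟶ N) :
    IsColimit (CokernelCofork.ofπ (f := (functor κ).map f) ((functor κ).map (cokerπ f))
      (by rw [← Functor.map_comp,
            show f ≫ cokerπ f = 0 from by
              apply ObjectProperty.hom_ext; ext x; exact (cokerπ_exact f).apply_apply_eq_zero x,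
            Functor.map_zero])) := by
  have hle : ∀ {Z : B} (h : (functor κ).obj N ⟶ Z), (functor κ).map f ≫ h = 0 →
      LinearMap.range f.hom.hom ≤ LinearMap.ker (post κ h ∘ₗ univ κ N) := by
    intro Z h hh y hy
    obtain ⟨x, rfl⟩ := hy
    rw [LinearMap.mem_ker]
    apply HomK.ext
    rw [LinearMap.comp_apply, hom_post, ← univ_map, Category.assoc, hh, comp_zero]
    rfl
  refine CokernelCofork.IsColimit.ofπ _ _
    (fun {Z} h hh => fdesc κ (M := coker f)
      ((LinearMap.range f.hom.hom).liftQ (post κ h ∘ₗ univ κ N) (hle h hh))) ?_ ?_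
  · intro Z h hh
    apply fext κ
    intro y
    rw [← Category.assoc, univ_map, univ_fdesc]
    rfl
  · intro Z h hh m hm
    apply fext κ
    intro z
    obtain ⟨y, rfl⟩ := cokerπ_surjective f z
    rw [univ_fdesc, ← univ_map, Category.assoc, hm]
    rfl

instance preservesCokernel {M N : FP A} (f : M ⟶ N) :
    PreservesColimit (parallelPair f 0) (functor κ) := by
  have hc := isColimitOfExact f (cokerπ f) (cokerπ_surjective f) (cokerπ_exact f)
  exact preservesColimit_of_preserves_colimit_cocone hc
    ((CokernelCofork.isColimitMapCoconeEquiv _ (functor κ)).symm (isColimitMapCoker κ f))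

instance : PreservesFiniteColimits (functor κ) := by
  have : HasZeroObject B := hasZeroObject_of_hasFiniteBiproducts B
  exact Functor.preservesFiniteColimits_of_preservesCokernels (functor κ)

lemma univ_eq_smul (x : A) : univ κ (one A) x = x • univ κ (one A) (1 : A) := by
  rw [← map_smul, smul_eq_mul, mul_one]

/-- The isomorphism `functor κ (A) ≅ K`. -/
noncomputable def functorOneIso : (functor κ).obj (one A) ≅ K where
  hom := fdesc κ (M := one A) (repOne κ).u
  inv := hom κ (univ κ (one A) (1 : A))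
  hom_inv_id := by
    apply fext κ
    intro x
    rw [← Category.assoc, univ_fdesc, Category.comp_id, univ_eq_smul κ x]
    simp [repOne]
  inv_hom_id := by
    rw [univ_fdesc]
    simp [repOne]

lemma functorOneIso_compat (a : A) :
    (functor κ).map (smulHom a) ≫ (functorOneIso κ).hom = (functorOneIso κ).hom ≫ κ a := by
  apply fext κ
  intro x
  rw [← Category.assoc, univ_map, functorOneIso, univ_fdesc, ← Category.assoc, univ_fdesc]
  simp only [repOne, LinearMap.toSpanSingleton_apply, hom_smul, hom_mk, Category.comp_id]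
  change (κ (a * x) : K ⟶ K) = (κ x : K ⟶ K) ≫ (κ a : K ⟶ K)
  rw [map_mul, End.mul_def]

end Groth.Agent.Lib.Helper34.FPMod
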