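import Groth.Agent.Lib.Helper34.HDZero
import Groth.Prelude.Def_FreeSh
import Groth.Prelude.Def_CohTop
import Mathlib.Topology.Sheaves.SheafCondition.UniqueGluing

/-!
# Vanishing of cohomology sheaves from vanishing of hypercohomology on a basis
-/

set_option autoImplicit false
universe w u
open CategoryTheory CategoryTheory.Limits Opposite TopologicalSpace

namespace Groth.Agent.Lib.Helper34.HDBasis

open DerivedCategory Groth.Agent.Lib.Helper68.HZeroLocal

variable {Y : TopCat.{u}}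

/-- the free abelian sheaf on an open -/
noncomputable abbrev Zs (V : Opens Y) : CohTop.Ab Y :=
  CohCx.freeSheaf (Opens.grothendieckTopology Y) V

/-- a morphism of sheaves killing all maps from `ℤ_V`, `V` in a basis, is zero -/
theorem hom_eq_zero_of_basis (B : Set (Opens Y)) (hB : Opens.IsBasis B) {A G : CohTop.Ab Y}
    (π : A ⟶ G) (h : ∀ V ∈ B, ∀ u : Zs V ⟶ A, u ≫ π = 0) : π = 0 := by
  apply Sheaf.hom_ext
  apply NatTrans.ext
  funext W
  induction W using Opposite.rec with | _ W => ?_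
  apply AddCommGrpCat.hom_ext
  apply AddMonoidHom.ext
  intro s
  change (π.hom.app (op W)).hom s = 0
  obtain ⟨Us, hsub, hUs⟩ := Opens.isBasis_iff_cover.mp hB W
  let U : Us → Opens Y := fun V => V.1
  have hle : ∀ V : Us, U V ≤ W := fun V => by
    rw [hUs]; exact le_sSup V.2
  refine TopCat.Sheaf.eq_of_locally_eq' (F := G) U W (fun V => homOfLE (hle V)) ?_ _ _ ?_
  · rw [hUs, sSup_eq_iSup']
  · intro V
    have hV : (V : Opens Y) ∈ B := hsub V.2
    have h1 := h V hV (CohFree.ofSect _ (V : Opens Y) A ((A.obj.map (homOfLE (hle V)).op).hom s))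
    have h2 := congrArg (CohFree.evalGen _ (V : Opens Y) G) h1
    rw [map_zero] at h2
    have h3 : CohFree.evalGen _ (V : Opens Y) G
        (CohFree.ofSect _ (V : Opens Y) A ((A.obj.map (homOfLE (hle V)).op).hom s) ≫ π) =
        (π.hom.app (op (V : Opens Y))).hom ((A.obj.map (homOfLE (hle V)).op).hom s) := by
      change (π.hom.app _).hom (CohFree.evalGen _ (V : Opens Y) A (CohFree.ofSect _ _ A _)) = _
      rw [CohFree.evalGen_ofSect]
    rw [h3] at h2
    have h4 := ConcreteCategory.congr_hom (π.hom.naturality (homOfLE (hle V)).op) s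
    rw [map_zero]
    exact h4.symm.trans h2

variable [HasDerivedCategory.{w} (CohTop.Ab Y)]

/-- if all maps `ℤ_V[0] ⟶ M` vanish for `V` in a basis, then `H⁰(M) = 0` -/
theorem isZero_H_of_basis (B : Set (Opens Y)) (hB : Opens.IsBasis B)
    (M : DerivedCategory (CohTop.Ab Y))
    (h : ∀ V ∈ B, ∀ ξ : S.obj (Zs V) ⟶ M, ξ = 0) : IsZero (H.obj M) := by
  obtain ⟨A', π, hπ, ξ, hξ⟩ := exists_refinement_surj M (𝟙 (H.obj M))
  rw [Category.comp_id] at hξ
  have hπ0 : π = 0 := by
    apply hom_eq_zero_of_basis B hB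
    intro V hV u
    have h1 := h V hV (S.map u ≫ ξ)
    have h2 : Φ (S.map u ≫ ξ) = u ≫ π := by rw [Φ_precomp, hξ]
    rw [← h2, h1]
    exact Groth.Agent.Lib.Helper34.HDZero.Φ_zero
  rw [IsZero.iff_id_eq_zero, ← cancel_epi π, hπ0, zero_comp, zero_comp]

/-- if all maps `ℤ_V[0] ⟶ L[i]` vanish for `V` in a basis and `i < 0`, then `L ∈ D^{≥0}` -/
theorem isGE_of_basis (B : Set (Opens Y)) (hB : Opens.IsBasis B)
    (L : DerivedCategory (CohTop.Ab Y))
    (h : ∀ V ∈ B, ∀ i : ℤ, i < 0 →
      ∀ ξ : S.obj (Zs V) ⟶ (shiftFunctor (DerivedCategory (CohTop.Ab Y)) i).obj L, ξ = 0) :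
    L.IsGE 0 := by
  rw [DerivedCategory.isGE_iff]
  intro i hi
  have h1 := isZero_H_of_basis B hB ((shiftFunctor (DerivedCategory (CohTop.Ab Y)) i).obj L)
    (fun V hV ξ => h V hV i hi ξ)
  exact h1.of_iso (((DerivedCategory.homologyFunctor (CohTop.Ab Y) 0).shiftIso i 0 i
    (add_zero i)).app L).symm

end Groth.Agent.Lib.Helper34.HDBasis
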