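import Groth.Agent.Lib.Helper34.HDPush
import Groth.Prelude.Def_CohCx

/-!
# Negative vanishing of hypercohomology over preimages and the sheaf `V ↦ H⁰(f⁻¹V, K)`
-/

set_option autoImplicit false
universe w' u
open CategoryTheory CategoryTheory.Limits Opposite TopologicalSpace

namespace Groth.Agent.Lib.Helper34.HDMain

open DerivedCategory Groth.Agent.Lib.Helper68.HZeroLocal Groth.Agent.Lib.Helper34.HDBasis
  Groth.Agent.Lib.Helper34.HDPull Groth.Agent.Lib.Helper34.HDPush Groth.Agent.Lib.Helper34.HDZero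

variable {X Y : TopCat.{u}} (f : X ⟶ Y)
variable [HasDerivedCategory.{u} (CohTop.Ab X)] [HasDerivedCategory.{w'} (CohTop.Ab Y)]

/-- `Rf_*` commutes with shifts -/
noncomputable instance : (RG f).CommShift ℤ := (dadj f).rightAdjointCommShift ℤ

section

variable (B : Set (Opens Y)) (hB : Opens.IsBasis B) (K : DerivedCategory (CohTop.Ab X))
  (h : ∀ V ∈ B, ∀ i : ℤ, i < 0 →
    ∀ x : S.obj (Zs (fV f V)) ⟶ (shiftFunctor (DerivedCategory (CohTop.Ab X)) i).obj K, x = 0)

include hB h in
theorem isGE_RG : ((RG f).obj K).IsGE 0 := by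
  apply isGE_of_basis B hB
  intro V hV i hi ξ
  let ξ' : S.obj (Zs V) ⟶ (RG f).obj ((shiftFunctor (DerivedCategory (CohTop.Ab X)) i).obj K) :=
    ξ ≫ ((RG f).commShiftIso i).inv.app K
  have h1 : (Θ f V _).symm ξ' = 0 := h V hV i hi _
  have h2 : ξ' = 0 := by
    rw [← (Θ f V _).apply_symm_apply ξ', h1, map_zero]
  have h3 : ξ = ξ' ≫ ((RG f).commShiftIso i).hom.app K := by
    simp [ξ']
  rw [h3, h2, zero_comp]

include hB h in
theorem vanishing (V : Opens Y) (i : ℤ) (hi : i < 0)
    (x : S.obj (Zs (fV f V)) ⟶ (shiftFunctor (DerivedCategory (CohTop.Ab X)) i).obj K) : x = 0 := by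
  have hGE := isGE_RG f B hB K h
  have h1 : Θ f V _ x ≫ ((RG f).commShiftIso i).hom.app K = 0 :=
    eq_zero_of_isGE ((RG f).obj K) (Zs V) i hi _
  have h2 : Θ f V _ x = 0 := by
    rw [← cancel_mono (((RG f).commShiftIso i).hom.app K), h1, zero_comp]
  exact (Θ f V _).injective (h2.trans (map_zero _).symm)

/-- the comparison map on sections -/
noncomputable def τ (V : Opens Y) :
    (S.obj (Zs (fV f V)) ⟶ (shiftFunctor (DerivedCategory (CohTop.Ab X)) (0 : ℤ)).obj K) →+
      (H.obj ((RG f).obj K)).obj.obj (op V) where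
  toFun x := CohFree.evalGen _ V (H.obj ((RG f).obj K))
    (Φ (Θ f V K (x ≫ (shiftFunctorZero (DerivedCategory (CohTop.Ab X)) ℤ).hom.app K)))
  map_zero' := by
    rw [zero_comp, map_zero, Φ_zero, map_zero]
  map_add' x y := by
    rw [Preadditive.add_comp, map_add, Φ_add, map_add]

lemma τ_apply (V : Opens Y)
    (x : S.obj (Zs (fV f V)) ⟶ (shiftFunctor (DerivedCategory (CohTop.Ab X)) (0 : ℤ)).obj K) :
    τ f K V x = CohFree.evalGen _ V (H.obj ((RG f).obj K))
      (Φ (Θ f V K (x ≫ (shiftFunctorZero (DerivedCategory (CohTop.Ab X)) ℤ).hom.app K))) := rfl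

lemma τ_naturality {V' V : Opens Y} (g : V' ⟶ V)
    (x : S.obj (Zs (fV f V)) ⟶ (shiftFunctor (DerivedCategory (CohTop.Ab X)) (0 : ℤ)).obj K) :
    τ f K V' (S.map (CohCx.freeSheafMap _ ((Opens.map f).map g)) ≫ x) =
      ((H.obj ((RG f).obj K)).obj.map g.op).hom (τ f K V x) := by
  rw [τ_apply, τ_apply, Category.assoc, Θ_naturality, Φ_precomp, CohFree.evalGen_freeSheafMap_comp]

include hB h in
lemma τ_bijective (V : Opens Y) : Function.Bijective (τ f K V) := by
  have hGE := isGE_RG f B hB K h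
  have h1 : Function.Bijective (fun x : S.obj (Zs (fV f V)) ⟶
      (shiftFunctor (DerivedCategory (CohTop.Ab X)) (0 : ℤ)).obj K =>
      x ≫ (shiftFunctorZero (DerivedCategory (CohTop.Ab X)) ℤ).hom.app K) := by
    constructor
    · intro x y hxy
      exact (cancel_mono _).1 hxy
    · intro y
      exact ⟨y ≫ (shiftFunctorZero (DerivedCategory (CohTop.Ab X)) ℤ).inv.app K, by simp⟩
  have h2 := (Θ f V K).bijective
  have h3 := Φ_bijective_of_isGE ((RG f).obj K) (Zs V)
  have h4 := (CohFree.homEquivSect _ V (H.obj ((RG f).obj K))).bijective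
  exact h4.comp (h3.comp (h2.comp h1))

include hB h in
theorem isSheaf : Presheaf.IsSheaf (Opens.grothendieckTopology Y)
    ((Opens.map f).op ⋙ CohCx.HDUPresheaf K 0) := by
  let e : (Opens.map f).op ⋙ CohCx.HDUPresheaf K 0 ≅ (H.obj ((RG f).obj K)).obj :=
    NatIso.ofComponents
      (fun V => (AddEquiv.ofBijective (τ f K V.unop) (τ_bijective f B hB K h V.unop)).toAddCommGrpIso)
      (by
        intro V V' g
        apply AddCommGrpCat.hom_ext
        apply AddMonoidHom.ext
        intro x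
        exact τ_naturality f K g.unop x)
  exact (Presheaf.isSheaf_of_iso_iff e).2 (H.obj ((RG f).obj K)).property

end

end Groth.Agent.Lib.Helper34.HDMain
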