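import Groth.Agent.Lib.Helper34.HDBasis
import Mathlib.Topology.Sheaves.Functors

/-!
# Pullback of the free abelian sheaf on an open is the free abelian sheaf on the preimage
-/

set_option autoImplicit false
universe w u
open CategoryTheory CategoryTheory.Limits Opposite TopologicalSpace

namespace Groth.Agent.Lib.Helper34.HDPull

open Groth.Agent.Lib.Helper34.HDBasis

variable {X Y : TopCat.{u}} (f : X ⟶ Y)

/-- `f⁻¹ ⊣ f_*` -/
noncomputable abbrev adj : CohTop.pull f ⊣ CohTop.push f :=
  TopCat.Sheaf.pullbackPushforwardAdjunction AddCommGrpCat.{u} f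

/-- preimage of an open -/
abbrev fV (V : Opens Y) : Opens X := (Opens.map f).obj V

/-- `ofSect` is natural in the sheaf -/
lemma ofSect_comp {C : Type u} [SmallCategory C] (J : GrothendieckTopology C) (U : C)
    {F G : Sheaf J AddCommGrpCat.{u}} (s : F.obj.obj (op U)) (ψ : F ⟶ G) :
    CohFree.ofSect J U F s ≫ ψ = CohFree.ofSect J U G ((ψ.hom.app (op U)).hom s) := by
  apply (CohFree.homEquivSect J U G).injective
  rw [CohFree.homEquivSect_apply, CohFree.homEquivSect_apply, CohFree.evalGen_ofSect]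
  change (ψ.hom.app (op U)).hom (CohFree.evalGen J U F (CohFree.ofSect J U F s)) = _
  rw [CohFree.evalGen_ofSect]

/-- the map `ℤ_V ⟶ f_* ℤ_{f⁻¹V}` -/
noncomputable def toPush (V : Opens Y) : Zs V ⟶ (CohTop.push f).obj (Zs (fV f V)) :=
  CohFree.ofSect _ V ((CohTop.push f).obj (Zs (fV f V))) (CohFree.gen _ (fV f V))

/-- the comparison `f⁻¹ ℤ_V ⟶ ℤ_{f⁻¹V}` -/
noncomputable def e' (V : Opens Y) : (CohTop.pull f).obj (Zs V) ⟶ Zs (fV f V) :=
  ((adj f).homEquiv _ _).symm (toPush f V)

lemma homEquiv_e'_comp (V : Opens Y) {G : CohTop.Ab X} (φ : Zs (fV f V) ⟶ G) :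
    (adj f).homEquiv _ _ (e' f V ≫ φ) =
      CohFree.ofSect _ V ((CohTop.push f).obj G) (CohFree.evalGen _ (fV f V) G φ) := by
  rw [Adjunction.homEquiv_naturality_right, e', Equiv.apply_symm_apply, toPush, ofSect_comp]
  rfl

lemma e'_comp_bijective (V : Opens Y) (G : CohTop.Ab X) :
    Function.Bijective (fun φ : Zs (fV f V) ⟶ G => e' f V ≫ φ) := by
  have h : (fun φ : Zs (fV f V) ⟶ G => e' f V ≫ φ) =
      ((adj f).homEquiv _ _).symm ∘ (CohFree.homEquivSect _ V ((CohTop.push f).obj G)).symm ∘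
        (CohFree.homEquivSect _ (fV f V) G) := by
    funext φ
    apply ((adj f).homEquiv _ _).injective
    rw [homEquiv_e'_comp]
    simp only [Function.comp_apply, Equiv.apply_symm_apply]
    rfl
  rw [h]
  exact ((adj f).homEquiv _ _).symm.bijective.comp
    ((CohFree.homEquivSect _ V ((CohTop.push f).obj G)).symm.bijective.comp
      (CohFree.homEquivSect _ (fV f V) G).bijective)

instance isIso_e' (V : Opens Y) : IsIso (e' f V) :=
  isIso_of_coyoneda_map_bijective _ (e'_comp_bijective f V)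

/-- naturality of `e'` in the open -/
lemma e'_naturality {V' V : Opens Y} (g : V' ⟶ V) :
    (CohTop.pull f).map (CohCx.freeSheafMap _ g) ≫ e' f V =
      e' f V' ≫ CohCx.freeSheafMap _ ((Opens.map f).map g) := by
  apply ((adj f).homEquiv _ _).injective
  rw [Adjunction.homEquiv_naturality_left, homEquiv_e'_comp, e', Equiv.apply_symm_apply, toPush]
  apply (CohFree.homEquivSect _ V' _).injective
  rw [CohFree.homEquivSect_apply, CohFree.homEquivSect_apply, CohFree.evalGen_ofSect,
    CohFree.evalGen_freeSheafMap_comp, CohFree.evalGen_ofSect]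
  change _ = ((CohCx.freeSheafMap _ ((Opens.map f).map g)).hom.app (op (fV f V'))).hom
    (CohFree.gen _ (fV f V'))
  rw [CohFree.freeSheafMap_gen]
  rfl

end Groth.Agent.Lib.Helper34.HDPull
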