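import Groth.Agent.Lib.Helper34.HDPull
import Groth.Agent.Lib.Helper99.KInjDerAdjK
import Mathlib.Topology.Sheaves.Abelian
import Mathlib.CategoryTheory.Shift.Adjunction
import Mathlib.Algebra.Homology.DerivedCategory.ExactFunctor

/-!
# Hypercohomology over preimages, via the derived direct image
-/

set_option autoImplicit false
universe w w' u
open CategoryTheory CategoryTheory.Limits Opposite TopologicalSpace

namespace Groth.Agent.Lib.Helper34.HDPush

open DerivedCategory Groth.Agent.Lib.Helper68.HZeroLocal Groth.Agent.Lib.Helper34.HDBasis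
  Groth.Agent.Lib.Helper34.HDPull

variable {X Y : TopCat.{u}} (f : X ⟶ Y)

instance : (CohTop.pull f).Additive := (adj f).left_adjoint_additive

instance : PreservesFiniteColimits (CohTop.pull f) := by
  have : PreservesColimitsOfSize.{0, 0} (CohTop.pull f) := (adj f).leftAdjoint_preservesColimits
  exact PreservesColimitsOfSize.preservesFiniteColimits _

attribute [local instance] CategoryTheory.Limits.reflectsLimits_of_reflectsIsomorphisms in
instance : PreservesFiniteLimits (CohTop.pull f) := by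
  dsimp only [CohTop.pull, TopCat.Sheaf.pullback]
  apply Functor.sheafPullbackConstruction.preservesFiniteLimits

variable [HasDerivedCategory.{w} (CohTop.Ab X)] [HasDerivedCategory.{w'} (CohTop.Ab Y)]

/-- the functor to be derived -/
noncomputable abbrev Ψ : HomotopyCategory (CohTop.Ab X) (ComplexShape.up ℤ) ⥤
    DerivedCategory (CohTop.Ab Y) :=
  (CohTop.push f).mapHomotopyCategory (ComplexShape.up ℤ) ⋙ DerivedCategory.Qh

instance : (Ψ f).HasPointwiseRightDerivedFunctor
    (HomotopyCategory.quasiIso (CohTop.Ab X) (ComplexShape.up ℤ)) :=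
  (Groth.Agent.Lib.Helper99.KInj.kInjK_derives (Ψ f)).hasPointwiseRightDerivedFunctor

/-- the total derived direct image -/
noncomputable abbrev RG : DerivedCategory (CohTop.Ab X) ⥤ DerivedCategory (CohTop.Ab Y) :=
  (Ψ f).totalRightDerived DerivedCategory.Qh
    (HomotopyCategory.quasiIso (CohTop.Ab X) (ComplexShape.up ℤ))

/-- the derived pullback -/
noncomputable abbrev LF : DerivedCategory (CohTop.Ab Y) ⥤ DerivedCategory (CohTop.Ab X) :=
  (CohTop.pull f).mapDerivedCategory

/-- the derived adjunction -/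
noncomputable def dadj : LF f ⊣ RG f :=
  Groth.Agent.Lib.Helper99.KInj.derivedAdjK (CohTop.pull f) (CohTop.push f) (adj f) (RG f)
    ((Ψ f).totalRightDerivedUnit DerivedCategory.Qh
      (HomotopyCategory.quasiIso (CohTop.Ab X) (ComplexShape.up ℤ)))

/-- the comparison `Lf⁻¹(ℤ_V[0]) ≅ ℤ_{f⁻¹V}[0]` -/
noncomputable def cmp (V : Opens Y) : (LF f).obj (S.obj (Zs V)) ≅ S.obj (Zs (fV f V)) :=
  ((CohTop.pull f).mapDerivedCategorySingleFunctor 0).app (Zs V) ≪≫ S.mapIso (asIso (e' f V))

lemma cmp_naturality {V' V : Opens Y} (g : V' ⟶ V) :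
    (LF f).map (S.map (CohCx.freeSheafMap _ g)) ≫ (cmp f V).hom =
      (cmp f V').hom ≫ S.map (CohCx.freeSheafMap _ ((Opens.map f).map g)) := by
  have h1 := ((CohTop.pull f).mapDerivedCategorySingleFunctor 0).hom.naturality
    (CohCx.freeSheafMap (Opens.grothendieckTopology Y) g)
  dsimp at h1
  dsimp [cmp]
  rw [← Category.assoc, h1, Category.assoc, Category.assoc, ← Functor.map_comp, ← Functor.map_comp,
    e'_naturality]

instance : (LF f).Additive := inferInstance

/-- `Hom(ℤ_{f⁻¹V}[0], M) ≃ Hom(ℤ_V[0], Rf_* M)` -/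
noncomputable def Θ (V : Opens Y) (M : DerivedCategory (CohTop.Ab X)) :
    (S.obj (Zs (fV f V)) ⟶ M) ≃+ (S.obj (Zs V) ⟶ (RG f).obj M) :=
  ({ toFun := fun x => (cmp f V).hom ≫ x
     invFun := fun y => (cmp f V).inv ≫ y
     left_inv := fun x => by simp
     right_inv := fun y => by simp
     map_add' := fun x y => Preadditive.comp_add _ _ _ _ _ _ } :
    (S.obj (Zs (fV f V)) ⟶ M) ≃+ ((LF f).obj (S.obj (Zs V)) ⟶ M)).trans
    ((dadj f).homAddEquiv _ _)

lemma Θ_apply (V : Opens Y) (M : DerivedCategory (CohTop.Ab X)) (x : S.obj (Zs (fV f V)) ⟶ M) :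
    Θ f V M x = (dadj f).homEquiv _ _ ((cmp f V).hom ≫ x) := rfl

lemma Θ_naturality {V' V : Opens Y} (g : V' ⟶ V) (M : DerivedCategory (CohTop.Ab X))
    (x : S.obj (Zs (fV f V)) ⟶ M) :
    Θ f V' M (S.map (CohCx.freeSheafMap _ ((Opens.map f).map g)) ≫ x) =
      S.map (CohCx.freeSheafMap _ g) ≫ Θ f V M x := by
  rw [Θ_apply, Θ_apply, ← Category.assoc, ← cmp_naturality, Category.assoc,
    Adjunction.homEquiv_naturality_left]

end Groth.Agent.Lib.Helper34.HDPush
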