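import Groth.Agent.Lib.Helper34.HDMain
import Groth.Agent.Lib.Helper68.HZeroSheaf

/-!
# The cohomology sheaves of `Rf_* K` are the sheafifications of `V ↦ H^p(f⁻¹V, K)`
-/

set_option autoImplicit false
universe u
open CategoryTheory CategoryTheory.Limits Opposite TopologicalSpace

namespace Groth.Agent.Lib.Helper34.HDSheafify

open DerivedCategory Groth.Agent.Lib.Helper68.HZeroLocal Groth.Agent.Lib.Helper34.HDBasis
  Groth.Agent.Lib.Helper34.HDPull Groth.Agent.Lib.Helper34.HDPush Groth.Agent.Lib.Helper34.HDZero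
  Groth.Agent.Lib.Helper34.HDMain

variable {X Y : TopCat.{u}} (f : X ⟶ Y)
variable [HasDerivedCategory.{u} (CohTop.Ab X)] [HasDerivedCategory.{u} (CohTop.Ab Y)]

/-- the presheaf `V ↦ Hom(ℤ_{f⁻¹V}[0], M)` is `V ↦ Hom(ℤ_V[0], Rf_* M)` -/
noncomputable def presheafIso (K : DerivedCategory (CohTop.Ab X)) (p : ℤ) :
    (Opens.map f).op ⋙ CohCx.HDUPresheaf K p ≅
      Groth.Agent.Lib.Helper68.HZeroSheaf.P'
        ((RG f).obj ((shiftFunctor (DerivedCategory (CohTop.Ab X)) p).obj K)) :=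
  NatIso.ofComponents
    (fun V => (Θ f V.unop ((shiftFunctor (DerivedCategory (CohTop.Ab X)) p).obj K)).toAddCommGrpIso)
    (by
      intro V V' g
      apply AddCommGrpCat.hom_ext
      apply AddMonoidHom.ext
      intro x
      exact Θ_naturality f g.unop _ x)

theorem nonempty_sheafify_iso (K : DerivedCategory (CohTop.Ab X)) (p : ℤ) :
    Nonempty ((presheafToSheaf (Opens.grothendieckTopology Y) AddCommGrpCat.{u}).obj
        ((Opens.map f).op ⋙ CohCx.HDUPresheaf K p) ≅
      (DerivedCategory.homologyFunctor (CohTop.Ab Y) p).obj ((RG f).obj K)) := by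
  let L := (RG f).obj ((shiftFunctor (DerivedCategory (CohTop.Ab X)) p).obj K)
  let e1 := (presheafToSheaf (Opens.grothendieckTopology Y) AddCommGrpCat.{u}).mapIso
    (presheafIso f K p)
  let e2 := Groth.Agent.Lib.Helper68.HZeroSheaf.sheafifyIso L
  let e3 : H.obj L ≅ H.obj ((shiftFunctor (DerivedCategory (CohTop.Ab Y)) p).obj ((RG f).obj K)) :=
    H.mapIso (((RG f).commShiftIso p).app K)
  let e4 := ((DerivedCategory.homologyFunctor (CohTop.Ab Y) 0).shiftIso p 0 p (add_zero p)).app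
    ((RG f).obj K)
  exact ⟨e1 ≪≫ e2 ≪≫ e3 ≪≫ e4⟩

end Groth.Agent.Lib.Helper34.HDSheafify
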