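import Groth.Agent.Lib.Helper68.HZeroLocal2
import Mathlib.Algebra.Homology.DerivedCategory.TStructure
import Mathlib.Algebra.Homology.DerivedCategory.HomologySequence
import Mathlib.CategoryTheory.Triangulated.TStructure.TruncLEGT

/-!
# Maps from a single object to an object of `D^{≥ 0}`

For `L ∈ D^{≥0}(𝒜)` and `A : 𝒜`, the map `Φ : Hom_D(A[0], L) → Hom(A, H⁰ L)` is bijective, and
`Hom_D(A[0], L[i]) = 0` for `i < 0`.
-/

set_option autoImplicit false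
universe w v u
open CategoryTheory CategoryTheory.Limits

namespace Groth.Agent.Lib.Helper34.HDZero

open DerivedCategory Groth.Agent.Lib.Helper68.HZeroLocal

variable {𝒜 : Type u} [Category.{v} 𝒜] [Abelian 𝒜] [HasDerivedCategory.{w} 𝒜]

/-- the canonical t-structure -/
noncomputable abbrev tD : Triangulated.TStructure (DerivedCategory 𝒜) := DerivedCategory.TStructure.t

lemma isIso_H_map_truncLEι (L : DerivedCategory 𝒜) :
    IsIso ((H (𝒜 := 𝒜)).map ((tD.truncLEι 0).app L)) := by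
  have hT := tD.triangleLEGT_distinguished 0 L
  have hGE : ((tD.truncGT 0).obj L).IsGE 1 := tD.isGE_truncGT_obj L 0 1
  have h1 : Mono ((homologyFunctor 𝒜 0).map ((tD.truncLEι 0).app L)) :=
    ((homologyFunctor 𝒜 0).homologySequence_mono_shift_map_mor₁_iff _ hT (-1) 0 (by lia)).2
      ((isZero_of_isGE ((tD.truncGT 0).obj L) 1 (-1) (by lia)).eq_of_src _ _)
  have h2 : Epi ((homologyFunctor 𝒜 0).map ((tD.truncLEι 0).app L)) :=
    ((homologyFunctor 𝒜 0).homologySequence_epi_shift_map_mor₁_iff _ hT 0).2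
      ((isZero_of_isGE ((tD.truncGT 0).obj L) 1 0 (by lia)).eq_of_tgt _ _)
  exact isIso_of_mono_of_epi _

lemma Φ_zero {A : 𝒜} {K : DerivedCategory 𝒜} : Φ (0 : S.obj A ⟶ K) = 0 := by
  simp [Φ]

lemma Φ_sub {A : 𝒜} {K : DerivedCategory 𝒜} (ξ ξ' : S.obj A ⟶ K) :
    Φ (ξ - ξ') = Φ ξ - Φ ξ' := by
  simp [Φ]

/-- `Φ` of an isomorphism from a single is an isomorphism -/
lemma isIso_Φ_of_isIso {B : 𝒜} {T : DerivedCategory 𝒜} (e : S.obj B ⟶ T) [IsIso e] :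
    IsIso (Φ e) := by
  unfold Φ
  infer_instance

/-- **Key lemma**: for `L ∈ D^{≥0}`, `Hom_D(A[0], L) ≃ Hom(A, H⁰ L)`. -/
theorem Φ_bijective_of_isGE (L : DerivedCategory 𝒜) [L.IsGE 0] (A : 𝒜) :
    Function.Bijective (Φ : (S.obj A ⟶ L) → (A ⟶ H.obj L)) := by
  let T := (tD.truncLE 0).obj L
  let ι : T ⟶ L := (tD.truncLEι 0).app L
  have hι : IsIso (H.map ι) := isIso_H_map_truncLEι L
  have hT0 : T.IsLE 0 := inferInstanceAs (tD.IsLE ((tD.truncLE 0).obj L) 0)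
  have hT1 : T.IsGE 0 := inferInstanceAs (tD.IsGE ((tD.truncLE 0).obj L) 0)
  obtain ⟨B, ⟨e⟩⟩ := DerivedCategory.exists_iso_singleFunctor_obj_of_isGE_of_isLE T 0
  have hA : (S.obj A).IsLE 0 := inferInstanceAs (((singleFunctor 𝒜 0).obj A).IsLE 0)
  have hΦe : IsIso (Φ e.inv) := isIso_Φ_of_isIso e.inv
  constructor
  · intro ξ₁ ξ₂ h
    rw [← sub_eq_zero]
    have h0 : Φ (ξ₁ - ξ₂) = 0 := by rw [Φ_sub, h, sub_self]
    generalize ξ₁ - ξ₂ = ξ at h0 ⊢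
    let ξ' : S.obj A ⟶ T := tD.liftTruncLE ξ 0
    have hξ : ξ' ≫ ι = ξ := tD.liftTruncLE_ι ξ 0
    have h1 : Φ ξ' = 0 := by
      rw [← hξ, Φ_comp] at h0
      rw [← cancel_mono (H.map ι), h0, zero_comp]
    obtain ⟨g, hg⟩ := (singleFunctor 𝒜 0).map_surjective (ξ' ≫ e.hom)
    have h2 : ξ' = S.map g ≫ e.inv := by
      change ξ' = (singleFunctor 𝒜 0).map g ≫ e.inv
      rw [hg, Category.assoc, e.hom_inv_id, Category.comp_id]
    rw [h2, Φ_precomp] at h1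
    have hg0 : g = 0 := by
      rw [← cancel_mono (Φ e.inv), h1, zero_comp]
    rw [← hξ, h2, hg0, Functor.map_zero, zero_comp, zero_comp]
  · intro σ
    refine ⟨S.map (σ ≫ inv (H.map ι) ≫ inv (Φ e.inv)) ≫ e.inv ≫ ι, ?_⟩
    rw [← Category.assoc, Φ_comp, Φ_precomp]
    simp

/-- for `L ∈ D^{≥0}` and `i < 0`, `Hom_D(A[0], L[i]) = 0`. -/
theorem eq_zero_of_isGE (L : DerivedCategory 𝒜) [L.IsGE 0] (A : 𝒜) (i : ℤ) (hi : i < 0)
    (ξ : S.obj A ⟶ (shiftFunctor (DerivedCategory 𝒜) i).obj L) : ξ = 0 := by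
  have hA : tD.IsLE (S.obj A) 0 := inferInstanceAs (((singleFunctor 𝒜 0).obj A).IsLE 0)
  have hL : tD.IsGE ((shiftFunctor (DerivedCategory 𝒜) i).obj L) (-i) :=
    tD.isGE_shift L 0 i (-i) (by lia)
  exact tD.zero_of_isLE_of_isGE ξ 0 (-i) (by lia) hA hL

end Groth.Agent.Lib.Helper34.HDZero
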