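import Groth.Prelude.Def_ModSite2
import Groth.Agent.Lib.Helper19.CechMono
import Groth.Agent.Lib.Helper19.CechMod

/-!
# `ℤ/ℤ_K` is acyclic for totally acyclic sheaves, for every sheaf of sets `K` (helper34)
-/

set_option autoImplicit false
universe u
open CategoryTheory CategoryTheory.Limits Opposite

namespace Groth.Agent.Lib.Helper34.HZAcyc

open Groth.Agent.Lib.Helper19 Groth.Agent.Lib.Helper19.CechHom Groth.Agent.Lib.Helper19.CechTop
  Groth.Agent.Lib.Helper19.CechMono

variable {C : Type u} [SmallCategory C] {J : GrothendieckTopology C}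

instance epi_G_map {Y X : Sheaf J (Type u)} (f : Y ⟶ X) [Epi f] : Epi ((G J).map f) := by
  haveI : (G J).IsLeftAdjoint := (adjG J).isLeftAdjoint
  infer_instance

/-- `Ext^{q+1}(ℤ/ℤ_K, F) = 0` for `F` totally acyclic and `K` any sheaf of sets. -/
theorem acyc_quotZ (F : Sheaf J AddCommGrpCat.{u}) (hF : CohCx.IsTotallyAcyclic F)
    (K : Sheaf J (Type u)) : AcyclicRes.Acyc.{u} F (ToposFin.quotZ K) := by
  let f : K ⟶ ⊤_ (Sheaf J (Type u)) := terminal.from K
  have hf : (ToposFin.freeAb J).map f =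
      (G J).map (Sheaf.toImage f) ≫ (G J).map (Sheaf.imageι f) := by
    rw [← Functor.map_comp, Sheaf.toImage_ι]
  have h1 := acyc_cokernel_G_map F hF (Sheaf.imageι f)
  exact AcyclicRes.acyc_of_iso
    ((cokernelEpiComp ((G J).map (Sheaf.toImage f)) ((G J).map (Sheaf.imageι f))).symm ≪≫
      (cokernelIsoOfEq hf).symm) h1

end Groth.Agent.Lib.Helper34.HZAcyc
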