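import Groth.Agent.Lib.Helper34.NullTorsion
import Groth.Agent.Lib.Helper94.JShriekFree
import Groth.Agent.Lib.Helper94.ModSiteBasic

/-!
# `quotOn` preserves monomorphisms; `sectOn` preserves injectives (helper34)
-/

set_option autoImplicit false
universe u
open CategoryTheory CategoryTheory.Limits Opposite

namespace Groth.Agent.Lib.Helper34.NullLocal

open ModSite Groth.Agent.Lib.Helper94.JShriek Groth.Agent.Lib.Helper94.ModTensorW
  Groth.Agent.Lib.Helper94.ModTensor Groth.Agent.Lib.Helper34.NullTorsion

variable {C : Type u} [SmallCategory C] {J : GrothendieckTopology C} {O : Sheaf J CommRingCat.{u}}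

/-- restriction of sections -/
noncomputable abbrev res (F : Mod O) {V W : C} (g : W ⟶ V) (s : sect F V) : sect F W :=
  F.val.map g.op s

/-- action of a morphism on sections -/
noncomputable abbrev app {F G : Mod O} (φ : F ⟶ G) (V : C) (s : sect F V) : sect G V :=
  φ.val.app (op V) s

lemma app_res {F G : Mod O} (φ : F ⟶ G) {V W : C} (g : W ⟶ V) (s : sect F V) :
    app φ W (res F g s) = res G g (app φ V s) :=
  PresheafOfModules.naturality_apply φ.val g.op s

lemma res_comp (F : Mod O) {V W W' : C} (h : W' ⟶ W) (g : W ⟶ V) (s : sect F V) :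
    res F (h ≫ g) s = res F h (res F g s) :=
  PresheafOfModules.map_comp_apply F.val g.op h.op s

lemma app_comp {F G H : Mod O} (φ : F ⟶ G) (ψ : G ⟶ H) (V : C) (s : sect F V) :
    app (φ ≫ ψ) V s = app ψ V (app φ V s) := rfl

lemma app_zero {F G : Mod O} (φ : F ⟶ G) (V : C) : app φ V 0 = 0 :=
  map_zero _

lemma res_zero (F : Mod O) {V W : C} (g : W ⟶ V) : res F g (0 : sect F V) = 0 :=
  map_zero _

lemma app_zero_hom {F G : Mod O} (V : C) (s : sect F V) : app (0 : F ⟶ G) V s = 0 := rfl

/-- a mono is injective on sections -/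
lemma app_injective_of_mono {F G : Mod O} (φ : F ⟶ G) [Mono φ] (V : C) :
    Function.Injective (app φ V) := by
  intro s s' h
  let e := freeOnHomAddEquiv O V F
  have h1 : e.symm s ≫ φ = e.symm s' ≫ φ := by
    apply (freeOnHomAddEquiv O V G).injective
    rw [freeOnHomAddEquiv_comp, freeOnHomAddEquiv_comp]
    change app φ V (e (e.symm s)) = app φ V (e (e.symm s'))
    rw [AddEquiv.apply_symm_apply, AddEquiv.apply_symm_apply]
    exact h
  have h2 := (cancel_mono φ).1 h1
  simpa using congrArg e h2

/-- a morphism is zero if it is zero on sections -/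
lemma hom_eq_zero_of_app {F G : Mod O} (φ : F ⟶ G) (h : ∀ V (s : sect F V), app φ V s = 0) :
    φ = 0 := by
  apply (SheafOfModules.toSheaf _).map_injective
  ext V s
  exact h V.unop s

/-- zero sieve of a section -/
def zeroSieve (F : Mod O) {V : C} (s : sect F V) : Sieve V where
  arrows W g := res F g s = 0
  downward_closed := by
    intro W W' g hg h
    change res F (h ≫ g) s = 0
    rw [res_comp, hg, res_zero]

lemma eq_zero_of_zeroSieve_mem (F : Mod O) {V : C} (s : sect F V) (h : zeroSieve F s ∈ J V) :
    s = 0 :=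
  sect_ext_of_mem O F _ h s 0 (fun W g hg => hg.trans (res_zero F g).symm)

/-- the sieve where a section is locally in the image -/
def imSieve {A B : Mod O} (p : A ⟶ B) {V : C} (b : sect B V) : Sieve V where
  arrows W g := ∃ a : sect A W, app p W a = res B g b
  downward_closed := by
    rintro W W' g ⟨a, ha⟩ h
    exact ⟨res A h a, by rw [app_res, ha, res_comp]⟩

/-- an epimorphism is locally surjective on sections -/
theorem imSieve_mem_of_epi {A B : Mod O} (p : A ⟶ B) [Epi p] {V : C} (b : sect B V) :
    imSieve p b ∈ J V := by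
  haveI := Groth.Agent.Lib.Helper94.ModSiteBasic.toSheaf_preservesFiniteColimits (ringSh O)
  have h1 : Epi ((SheafOfModules.toSheaf (ringSh O)).map p) := inferInstance
  have h2 : Sheaf.IsLocallySurjective ((SheafOfModules.toSheaf (ringSh O)).map p) :=
    (Sheaf.isLocallySurjective_iff_epi' (A := AddCommGrpCat.{u}) _).2 h1
  have h3 := Presheaf.imageSieve_mem J ((SheafOfModules.toSheaf (ringSh O)).map p).hom
    (U := op V) b
  refine J.superset_covering ?_ h3
  rintro W g ⟨a, ha⟩
  exact ⟨a, ha⟩

/-- sections killed by the cokernel projection are locally in the image -/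
theorem imSieve_mem_of_cokernel_π_eq_zero {A B : Mod O} (ε : A ⟶ B) {V : C} (b : sect B V)
    (hb : app (cokernel.π ε) V b = 0) : imSieve ε b ∈ J V := by
  let eB := freeOnHomAddEquiv O V B
  let bt : freeOn O V ⟶ B := eB.symm b
  have h0 : bt ≫ cokernel.π ε = 0 := by
    apply (freeOnHomAddEquiv O V (cokernel ε)).injective
    rw [freeOnHomAddEquiv_comp, map_zero]
    change app (cokernel.π ε) V (eB (eB.symm b)) = 0
    rw [AddEquiv.apply_symm_apply]
    exact hb
  let kt : freeOn O V ⟶ Abelian.image ε := kernel.lift (cokernel.π ε) bt h0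
  let k : sect (Abelian.image ε) V := freeOnHomAddEquiv O V _ kt
  have hk : app (Abelian.image.ι ε) V k = b := by
    have h1 : kt ≫ Abelian.image.ι ε = bt := kernel.lift_ι _ _ _
    have h2 := freeOnHomAddEquiv_comp O V kt (Abelian.image.ι ε)
    rw [h1] at h2
    change eB (eB.symm b) = _ at h2
    rw [AddEquiv.apply_symm_apply] at h2
    exact h2.symm
  refine J.superset_covering ?_ (imSieve_mem_of_epi (Abelian.factorThruImage ε) k)
  rintro W g ⟨a, ha⟩
  refine ⟨a, ?_⟩
  have h3 : ε = Abelian.factorThruImage ε ≫ Abelian.image.ι ε := (Abelian.image.fac ε).symm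
  calc app ε W a = app (Abelian.image.ι ε) W (app (Abelian.factorThruImage ε) W a) := by
        conv_lhs => rw [h3]
        rfl
      _ = app (Abelian.image.ι ε) W (res _ g k) := by rw [ha]
      _ = res B g (app (Abelian.image.ι ε) V k) := app_res _ _ _
      _ = res B g b := by rw [hk]

/-- the sieve of arrows `W ⟶ V` such that `W` maps to `U` or the section vanishes on `W` -/
def nullSieve (U : C) (F : Mod O) {V : C} (s : sect F V) : Sieve V where
  arrows W g := Nonempty (W ⟶ U) ∨ res F g s = 0
  downward_closed := by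
    rintro W W' g (⟨⟨a⟩⟩ | hg) h
    · exact Or.inl ⟨h ≫ a⟩
    · exact Or.inr (by rw [res_comp, hg, res_zero])

lemma subsingleton_objPre_of_isEmpty {R : Cᵒᵖ ⥤ RingCat.{u}} {U : C}
    (G : PresheafOfModules.{u} (RU R U)) (W : C) (h : IsEmpty (W ⟶ U)) :
    Subsingleton ((objPre G).obj (op W)) := by
  change Subsingleton (DirectSum (W ⟶ U) fun φ => Comp G φ)
  exact ⟨fun a b => DFinsupp.ext fun i => (h.false i).elim⟩

/-- sections of the concrete `j_! G` locally vanish away from `U` -/
theorem nullSieve_mem_jS (U : C) (G : Mod (O.over U)) {V : C} (y : sect ((jS O U).obj G) V) :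
    nullSieve U ((jS O U).obj G) y ∈ J V := by
  let P : PMod O := (jP O U).obj ((fgt (O.over U)).obj G)
  have hW := wMod_unit (O := O) P
  rw [wMod_iff, J.W_iff_isLocallyBijective] at hW
  haveI := hW.2
  have h3 := Presheaf.imageSieve_mem J ((PresheafOfModules.toPresheaf _).map (unitMap O P))
    (U := op V) y
  refine J.superset_covering ?_ h3
  rintro W g ⟨z, hz⟩
  by_cases hne : Nonempty (W ⟶ U)
  · exact Or.inl hne
  · right
    have hsub : Subsingleton (P.obj (op W)) :=
      subsingleton_objPre_of_isEmpty (R := O.obj ⋙ forget₂ CommRingCat.{u} RingCat.{u}) (U := U)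
        _ W (not_nonempty_iff.1 hne)
    have hz0 : z = 0 := @Subsingleton.elim (P.obj (op W)) hsub z 0
    rw [hz0, map_zero] at hz
    exact hz.symm

/-- sections of `j_! G` locally vanish away from `U` -/
theorem nullSieve_mem_extZero (U : C) (G : Mod (O.over U)) {V : C}
    (x : sect ((extZero O U).obj G) V) : nullSieve U ((extZero O U).obj G) x ∈ J V := by
  let e := (extZeroIso O U).app G
  have h := nullSieve_mem_jS U G (app e.hom V x)
  refine J.superset_covering ?_ h
  rintro W g (hne | hz)
  · exact Or.inl hne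
  · right
    have h1 : app e.hom W (res _ g x) = 0 := by rw [app_res]; exact hz
    have h2 : app e.inv W (app e.hom W (res _ g x)) = res _ g x := by
      rw [← app_comp, e.hom_inv_id]; rfl
    rw [← h2, h1, app_zero]

variable (U : C)

/-- sections of a module null on `U` over objects mapping to `U` vanish -/
lemma eq_zero_of_isNullOn {B : Mod O} (hB : IsNullOn O U B) {W : C} (a : W ⟶ U) (x : sect B W) :
    x = 0 :=
  (ExtSupp.isNullOn_iff O U B).1 hB a x

/-- key lemma: a section of `M'` whose image in `M` dies in `M/M_U` dies in `M'/M'_U`, locally -/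
theorem zeroSieve_mem_of_mono [HasPushOver O U] {M' M : Mod O} (f : M' ⟶ M) [Mono f] {W : C}
    (s : sect M' W) (hs : app (qπ O U M) W (app f W s) = 0) :
    zeroSieve ((quotOn O U).obj M') (app (qπ O U M') W s) ∈ J W := by
  have hnull := ExtSupp.isNullOn_quotOn O U M'
  let ε : (extZero O U).obj ((restr O U).obj M) ⟶ M := (extZeroAdj O U).counit.app M
  have hB := imSieve_mem_of_cokernel_π_eq_zero ε (app f W s) hs
  refine J.transitive hB _ ?_
  rintro W' h ⟨x, hx⟩
  replace hx : app ε W' x = res M h (app f W s) := hx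
  refine J.superset_covering ?_ (nullSieve_mem_extZero U _ x)
  rintro W'' k (⟨⟨a⟩⟩ | hk)
  · exact eq_zero_of_isNullOn U hnull a _
  · change res _ (k ≫ h) (app (qπ O U M') W s) = 0
    have h1 : app f W'' (res M' (k ≫ h) s) = 0 := by
      rw [app_res, res_comp, ← hx, ← app_res, hk, app_zero]
    have h2 : res M' (k ≫ h) s = 0 :=
      app_injective_of_mono f W'' (h1.trans (app_zero f W'').symm)
    rw [← app_res, h2, app_zero]

/-- `M ↦ M/M_U` preserves monomorphisms -/
theorem mono_quotOn_map [HasPushOver O U] {M' M : Mod O} (f : M' ⟶ M) [Mono f] :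
    Mono ((quotOn O U).map f) := by
  apply Preadditive.mono_of_cancel_zero
  intro T g hg
  apply hom_eq_zero_of_app
  intro V t0
  have ht : app ((quotOn O U).map f) V (app g V t0) = 0 := by
    rw [← app_comp, hg]; rfl
  generalize app g V t0 = t at ht
  apply eq_zero_of_zeroSieve_mem
  refine J.transitive (imSieve_mem_of_epi (qπ O U M') t) _ ?_
  rintro W h ⟨s, hs⟩
  have h1 : app (qπ O U M) W (app f W s) = 0 := by
    rw [← app_comp, qπ_naturality, app_comp, hs, app_res, ht, res_zero]
  have h2 := zeroSieve_mem_of_mono U f s h1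
  refine J.superset_covering ?_ h2
  intro W' k hk
  change res _ (k ≫ h) t = 0
  rw [res_comp, ← hs]
  exact hk

instance [HasPushOver O U] : (quotOn O U).PreservesMonomorphisms where
  preserves f _ := mono_quotOn_map U f

/-- `Γ_Z` preserves injective objects -/
theorem injective_sectOn [HasPushOver O U] (I : Mod O) [Injective I] :
    Injective ((sectOn O U).obj I) := by
  constructor
  intro A B g f hf
  haveI := mono_quotOn_map U f
  let g2 : (quotOn O U).obj A ⟶ I := (NullTorsion.homEquiv A I).symm g
  let h2 : (quotOn O U).obj B ⟶ I := Injective.factorThru g2 ((quotOn O U).map f)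
  have hh : (quotOn O U).map f ≫ h2 = g2 := Injective.comp_factorThru _ _
  refine ⟨NullTorsion.homEquiv B I h2, ?_⟩
  rw [← NullTorsion.homEquiv_precomp, hh]
  exact (NullTorsion.homEquiv A I).apply_symm_apply g

end Groth.Agent.Lib.Helper34.NullLocal
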