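import Groth.Agent.Lib.Helper34.HZAcyc
import Groth.Agent.Lib.Helper34.NullLocal
import Groth.Agent.Lib.Helper19.CechModUnit

/-!
# `H^0_Z` as global sections of `Γ_Z` (helper34)
-/

set_option autoImplicit false
universe u
open CategoryTheory CategoryTheory.Limits Opposite

namespace Groth.Agent.Lib.Helper34.HZSect

open Groth.Agent.Lib.Helper19 Groth.Agent.Lib.Helper19.CechHom Groth.Agent.Lib.Helper19.CechTop

variable {C : Type u} [SmallCategory C] {J : GrothendieckTopology C}

section Ev

/-- sections of a sheaf of sets over `X` are maps from the sheafified representable -/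
noncomputable def sectEquiv (X : C) (S : Sheaf J (Type u)) :
    (ToposFin.eps J X ⟶ S) ≃ S.obj.obj (op X) :=
  ((sheafificationAdjunction J (Type u)).homEquiv (yoneda.obj X) S).trans yonedaEquiv

lemma sectEquiv_comp (X : C) {S S' : Sheaf J (Type u)} (f : ToposFin.eps J X ⟶ S) (τ : S ⟶ S') :
    sectEquiv X S' (f ≫ τ) = τ.hom.app (op X) (sectEquiv X S f) := by
  unfold sectEquiv
  simp only [Equiv.trans_apply]
  rw [Adjunction.homEquiv_naturality_right, yonedaEquiv_comp]
  rfl

/-- evaluation of morphisms out of `ℤ[h_U]` at the universal element -/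
noncomputable def evEquiv (U : C) (A : Sheaf J AddCommGrpCat.{u}) :
    ((G J).obj (ToposFin.eps J U) ⟶ A) ≃ ((CechTop.U J).obj A).obj.obj (op U) :=
  ((adjG J).homEquiv _ A).trans (sectEquiv U ((CechTop.U J).obj A))

lemma evEquiv_comp (U : C) {A A' : Sheaf J AddCommGrpCat.{u}}
    (ψ : (G J).obj (ToposFin.eps J U) ⟶ A) (p : A ⟶ A') :
    evEquiv U A' (ψ ≫ p) = ((CechTop.U J).map p).hom.app (op U) (evEquiv U A ψ) := by
  unfold evEquiv
  simp only [Equiv.trans_apply]
  rw [Adjunction.homEquiv_naturality_right, sectEquiv_comp]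

lemma evEquiv_zero (U : C) (A : Sheaf J AddCommGrpCat.{u}) :
    evEquiv U A 0 = (0 : A.obj.obj (op U)) := by
  have h := evEquiv_comp U (0 : (G J).obj (ToposFin.eps J U) ⟶ A) (0 : A ⟶ A)
  rw [comp_zero] at h
  rw [h]
  rfl

lemma evEquiv_map (U : C) {T : Sheaf J (Type u)} (f : ToposFin.eps J U ⟶ T)
    {A : Sheaf J AddCommGrpCat.{u}} (σ : (G J).obj T ⟶ A) :
    evEquiv U A ((G J).map f ≫ σ) =
      ((adjG J).homEquiv T A σ).hom.app (op U) (sectEquiv U T f) := by
  unfold evEquiv
  simp only [Equiv.trans_apply]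
  rw [Adjunction.homEquiv_naturality_left, sectEquiv_comp]

end Ev

section One

variable (J)

/-- the terminal sheaf of sets -/
noncomputable abbrev T₁ : Sheaf J (Type u) := ⊤_ (Sheaf J (Type u))

variable {J}

instance (X : Cᵒᵖ) : Subsingleton ((T₁ J).obj.obj X) :=
  (sectEquiv X.unop (T₁ J)).symm.injective.subsingleton

/-- the canonical element of the terminal sheaf -/
noncomputable def pt (X : Cᵒᵖ) : (T₁ J).obj.obj X :=
  (terminal.from (CechModUnit.K₀ J)).hom.app X PUnit.unit

variable (R : Sheaf J RingCat.{u})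

/-- the global section `1` of the structure sheaf, as a map of sheaves of sets -/
noncomputable def one :
    T₁ J ⟶ (CechTop.U J).obj ((SheafOfModules.toSheaf R).obj (SheafOfModules.unit R)) :=
  ⟨{ app := fun X => TypeCat.ofHom (fun _ => (1 : R.obj.obj X))
     naturality := fun X Y g => by
      ext t
      exact (map_one (R.obj.map g).hom).symm }⟩

/-- `1 : ℤ[pt] ⟶ O` -/
noncomputable def c' : (G J).obj (T₁ J) ⟶ (SheafOfModules.toSheaf R).obj (SheafOfModules.unit R) :=
  ((adjG J).homEquiv _ _).symm (one R)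

lemma homEquiv_c'_comp {M : SheafOfModules.{u} R} (φ : SheafOfModules.unit R ⟶ M) :
    (adjG J).homEquiv _ _ (c' R ≫ (SheafOfModules.toSheaf R).map φ) =
      one R ≫ (CechTop.U J).map ((SheafOfModules.toSheaf R).map φ) := by
  rw [Adjunction.homEquiv_naturality_right]
  unfold c'
  rw [Equiv.apply_symm_apply]

lemma homEquiv_c'_comp_app {M : SheafOfModules.{u} R} (φ : SheafOfModules.unit R ⟶ M)
    (X : Cᵒᵖ) (t : (T₁ J).obj.obj X) :
    ((adjG J).homEquiv _ _ (c' R ≫ (SheafOfModules.toSheaf R).map φ)).hom.app X t =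
      φ.val.app X (1 : R.obj.obj X) := by
  rw [homEquiv_c'_comp]
  rfl

theorem c'_bijective (M : SheafOfModules.{u} R) :
    Function.Bijective (fun φ : SheafOfModules.unit R ⟶ M =>
      c' R ≫ (SheafOfModules.toSheaf R).map φ) := by
  constructor
  · intro φ φ' h
    apply M.unitHomEquiv.injective
    ext X
    rw [SheafOfModules.unitHomEquiv_apply_coe, SheafOfModules.unitHomEquiv_apply_coe,
      ← homEquiv_c'_comp_app R φ X (pt X), ← homEquiv_c'_comp_app R φ' X (pt X)]
    exact congrArg (fun g => ((adjG J).homEquiv _ _ g).hom.app X (pt X)) h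
  · intro σ
    let τ := (adjG J).homEquiv _ _ σ
    let s : M.sections := PresheafOfModules.sectionsMk (fun X => τ.hom.app X (pt X)) (by
      intro X Y g
      have h1 := ConcreteCategory.congr_hom (τ.hom.naturality g) (pt X)
      have h2 : (T₁ J).obj.map g (pt X) = pt Y := Subsingleton.elim _ _
      change ((CechTop.U J).obj ((SheafOfModules.toSheaf R).obj M)).obj.map g
        (τ.hom.app X (pt X)) = τ.hom.app Y (pt Y)
      rw [← h2]
      exact h1.symm)
    refine ⟨M.unitHomEquiv.symm s, ?_⟩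
    apply ((adjG J).homEquiv _ _).injective
    ext X t
    change ((adjG J).homEquiv _ _ (c' R ≫ (SheafOfModules.toSheaf R).map
      (M.unitHomEquiv.symm s))).hom.app X t = τ.hom.app X t
    rw [homEquiv_c'_comp_app, ← SheafOfModules.unitHomEquiv_apply_coe, Equiv.apply_symm_apply,
      Subsingleton.elim t (pt X)]
    rfl

end One

section Mod

open ModSite Groth.Agent.Lib.Helper34.NullTorsion Groth.Agent.Lib.Helper34.NullLocal

variable {O : Sheaf J CommRingCat.{u}} (U : C)

/-- the map `ℤ[h_U] ⟶ ℤ[pt]` whose cokernel is `ℤ/ℤ_U` -/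
noncomputable abbrev gU : (G J).obj (ToposFin.eps J U) ⟶ (G J).obj (T₁ J) :=
  (G J).map (terminal.from (ToposFin.eps J U))

lemma quotZ_eq : ToposFin.quotZ (ToposFin.eps J U) = cokernel (gU (J := J) U) := rfl

lemma evEquiv_gU_c' {F : Mod O} (φ : ModSite.unit O ⟶ F) :
    evEquiv U _ (gU U ≫ c' (ringSh O) ≫ (SheafOfModules.toSheaf (ringSh O)).map φ) =
      φ.val.app (op U) (1 : (ringSh O).obj.obj (op U)) := by
  rw [evEquiv_map, homEquiv_c'_comp_app]

/-- a global section vanishing at `U` vanishes on `C/U`. -/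
lemma restr_map_eq_zero {F : Mod O} (φ : ModSite.unit O ⟶ F)
    (h : φ.val.app (op U) (1 : (ringSh O).obj.obj (op U)) = 0) : (restr O U).map φ = 0 := by
  apply hom_eq_zero_of_app
  intro Y s
  let r : (ringSh O).obj.obj (op Y.left) := s
  change φ.val.app (op Y.left) r = 0
  have h1 : φ.val.app (op Y.left) r =
      r • φ.val.app (op Y.left) (1 : (ringSh O).obj.obj (op Y.left)) := by
    have := (φ.val.app (op Y.left)).hom.map_smul r (1 : (ringSh O).obj.obj (op Y.left))
    refine Eq.trans ?_ this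
    congr 1
    exact (mul_one r).symm
  have h2 : φ.val.app (op Y.left) (1 : (ringSh O).obj.obj (op Y.left)) =
      F.val.map Y.hom.op (φ.val.app (op U) (1 : (ringSh O).obj.obj (op U))) := by
    have := PresheafOfModules.naturality_apply φ.val Y.hom.op (1 : (ringSh O).obj.obj (op U))
    rw [← this]
    congr 1
    exact (map_one ((ringSh O).obj.map Y.hom.op).hom).symm
  have h3 : φ.val.app (op Y.left) (1 : (ringSh O).obj.obj (op Y.left)) = 0 := by
    rw [h2, h]
    exact map_zero _
  rw [h1, h3]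
  exact smul_zero r

lemma counit_comp_eq_zero {F : Mod O} (φ : ModSite.unit O ⟶ F)
    (h : φ.val.app (op U) (1 : (ringSh O).obj.obj (op U)) = 0) :
    (extZeroAdj O U).counit.app (ModSite.unit O) ≫ φ = 0 := by
  have h1 := (extZeroAdj O U).counit.naturality φ
  have h2 : (restr O U ⋙ extZero O U).map φ = 0 := by
    change (extZero O U).map ((restr O U).map φ) = 0
    rw [restr_map_eq_zero U φ h, Functor.map_zero]
  rw [h2, zero_comp] at h1
  exact h1.symm

variable [HasPushOver O U]

lemma gU_c'_π_eq_zero :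
    gU U ≫ c' (ringSh O) ≫ (SheafOfModules.toSheaf (ringSh O)).map (qπ O U (ModSite.unit O)) =
      0 := by
  apply (evEquiv U _).injective
  rw [evEquiv_gU_c', evEquiv_zero]
  exact eq_zero_of_isNullOn U (ExtSupp.isNullOn_quotOn O U (ModSite.unit O)) (𝟙 U) _

/-- `ℤ/ℤ_U ⟶ O/O_U` -/
noncomputable def cbar : ToposFin.quotZ (ToposFin.eps J U) ⟶ toAb ((quotOn O U).obj (ModSite.unit O)) :=
  cokernel.desc (gU U) (c' (ringSh O) ≫ (SheafOfModules.toSheaf (ringSh O)).map
    (qπ O U (ModSite.unit O))) (gU_c'_π_eq_zero U)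

lemma π_cbar : cokernel.π (gU U) ≫ cbar (O := O) U =
    c' (ringSh O) ≫ (SheafOfModules.toSheaf (ringSh O)).map (qπ O U (ModSite.unit O)) :=
  cokernel.π_desc _ _ _

theorem cbar_bijective (F : Mod O) :
    Function.Bijective (fun ξ : (quotOn O U).obj (ModSite.unit O) ⟶ F =>
      cbar U ≫ (SheafOfModules.toSheaf (ringSh O)).map ξ) := by
  constructor
  · intro ξ ξ' h
    have h1 := congrArg (fun t => cokernel.π (gU U) ≫ t) h
    simp only [← Category.assoc, π_cbar] at h1
    simp only [Category.assoc, ← Functor.map_comp] at h1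
    have h2 := (c'_bijective (ringSh O) F).1 h1
    exact (cancel_epi (qπ O U (ModSite.unit O))).1 h2
  · intro σb
    obtain ⟨φ, hφ⟩ := (c'_bijective (ringSh O) F).2 (cokernel.π (gU U) ≫ σb)
    replace hφ : c' (ringSh O) ≫ (SheafOfModules.toSheaf (ringSh O)).map φ =
      cokernel.π (gU U) ≫ σb := hφ
    have h0 : φ.val.app (op U) (1 : (ringSh O).obj.obj (op U)) = 0 := by
      rw [← evEquiv_gU_c', hφ, cokernel.condition_assoc, zero_comp, evEquiv_zero]
      rfl
    let ξ : (quotOn O U).obj (ModSite.unit O) ⟶ F :=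
      cokernel.desc _ φ (counit_comp_eq_zero U φ h0)
    have hξ : qπ O U (ModSite.unit O) ≫ ξ = φ := cokernel.π_desc _ _ _
    refine ⟨ξ, ?_⟩
    apply (cancel_epi (cokernel.π (gU U))).1
    change cokernel.π (gU U) ≫ cbar U ≫ (SheafOfModules.toSheaf (ringSh O)).map ξ = _
    rw [← Category.assoc, π_cbar, Category.assoc, ← Functor.map_comp, hξ, hφ]

end Mod

end Groth.Agent.Lib.Helper34.HZSect
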