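import Groth.Agent.Lib.Helper34.SSGrothFinal

/-!
# The Grothendieck spectral sequence of a composition of functors, flexible form

`grothendieck_spectralSequence_flex`: same as `grothendieck_spectralSequence`, but the abutment
objects `H' n` and the `E₂` objects `E2 p q` are arbitrary objects equipped with (mere existence of)
isomorphisms to the derived functors.  Also `rightDerivedIsoOfIso`.
-/

set_option autoImplicit false

namespace Groth.Agent.Lib.Helper34.SS

open CategoryTheory Limits ComposableArrows
open scoped ZeroObject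

universe v u

/-- Naturally isomorphic additive functors have isomorphic right derived functors. -/
noncomputable def rightDerivedIsoOfIso {A B : Type u} [Category.{v} A] [Category.{v} B]
    [Abelian A] [Abelian B] [HasInjectiveResolutions A] {G G' : A ⥤ B} [G.Additive] [G'.Additive]
    (e : G ≅ G') (k : ℕ) : G.rightDerived k ≅ G'.rightDerived k where
  hom := NatTrans.rightDerived e.hom k
  inv := NatTrans.rightDerived e.inv k
  hom_inv_id := by rw [← NatTrans.rightDerived_comp, e.hom_inv_id, NatTrans.rightDerived_id]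
  inv_hom_id := by rw [← NatTrans.rightDerived_comp, e.inv_hom_id, NatTrans.rightDerived_id]

/-- **Grothendieck spectral sequence** of a composition of functors, with flexible abutment and
`E₂` objects. -/
theorem grothendieck_spectralSequence_flex {C C' C'' : Type u} [Category.{v} C] [Category.{v} C']
    [Category.{v} C''] [Abelian C] [Abelian C'] [Abelian C''] [HasInjectiveResolutions C]
    [HasInjectiveResolutions C'] (T : C ⥤ C') [T.Additive] (S : C' ⥤ C'') [S.Additive]
    [PreservesFiniteLimits S]
    (hT : ∀ Q : C, Injective Q → ∀ q : ℕ, 0 < q → IsZero ((S.rightDerived q).obj (T.obj Q)))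
    (A : C) (H' : ℤ → C'') (E2 : ℤ → ℤ → C'')
    (hH : ∀ n : ℕ, Nonempty (H' n ≅ ((T ⋙ S).rightDerived n).obj A))
    (hH0 : ∀ n : ℤ, n < 0 → IsZero (H' n))
    (hE : ∀ p q : ℕ, Nonempty (E2 p q ≅ (S.rightDerived p).obj ((T.rightDerived q).obj A)))
    (hE0 : ∀ p q : ℤ, ¬ (0 ≤ p ∧ 0 ≤ q) → IsZero (E2 p q)) :
    ∃ (E : E₂CohomologicalSpectralSequence C'') (a : SpSeq.Abutment E H'),
      (∀ n, a.IsFinite n) ∧ SpSeq.IsBounded E ∧
      ∀ p q : ℤ, Nonempty ((E.page 2 le_rfl).X (p, q) ≅ E2 p q) := by
  letI : HasDerivedCategory.{max u v} C' := HasDerivedCategory.standard _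
  letI : HasDerivedCategory.{max u v} C'' := HasDerivedCategory.standard _
  haveI := enoughInjectives_of_hasInjectiveResolutions C'
  let I := injectiveResolution A
  let L : CochainComplex C' ℤ := (T.mapHomologicalComplex (ComplexShape.up ℤ)).obj I.cochainComplex
  haveI : L.IsStrictlyGE 0 := by dsimp only [L]; infer_instance
  let KK : DerivedCategory.Plus C' := DerivedCategory.Plus.Q.obj ⟨L, 0, inferInstance⟩
  haveI : KK.IsGE 0 := by
    rw [← DerivedCategory.Plus.isGE_ι_obj_iff]
    exact inferInstanceAs ((DerivedCategory.Q.obj L).IsGE 0)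
  -- the homology of `KK`
  let hKK : ∀ q : ℤ, (DerivedCategory.Plus.homologyFunctor C' q).obj KK ≅ L.homology q :=
    fun q => (DerivedCategory.homologyFunctorFactors C' q).app L
  -- the abutment
  have hab : ∀ n : ℤ, Nonempty (H' n ≅ ((Φ S).shift n).obj KK) := by
    intro n
    by_cases hn : 0 ≤ n
    · obtain ⟨k, rfl⟩ := Int.eq_ofNat_of_zero_le hn
      obtain ⟨e1⟩ := nonempty_Φ_iso_of_acyc S L 0 (fun m q hq => hT _ inferInstance q hq) k
      obtain ⟨e0⟩ := hH k
      exact ⟨e0 ≪≫ (homologyCochainComplexIso (T ⋙ S) I k).symm ≪≫ e1.symm⟩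
    · exact ⟨(hH0 n (by lia)).iso (isZero_Φ_shift_of_isGE S KK 0 n (by lia))⟩
  refine exists_spectralSequence S KK _ (fun n => (hab n).some) _ (fun k q => ?_)
    (fun p q hp => ?_)
  · by_cases hq : 0 ≤ q
    · obtain ⟨j, rfl⟩ := Int.eq_ofNat_of_zero_le hq
      obtain ⟨e0⟩ := hE k j
      exact ⟨e0 ≪≫ (S.rightDerived k).mapIso
        ((homologyCochainComplexIso T I j).symm ≪≫ (hKK j).symm)⟩
    · exact ⟨(hE0 k q (fun h => hq h.2)).iso (isZero_rightDerived_obj_of_isZero S k
        (DerivedCategory.Plus.isZero_homology_of_isGE KK 0 q (by lia)))⟩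
  · exact hE0 p q (fun h => absurd h.1 (by lia))

end Groth.Agent.Lib.Helper34.SS
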