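import Groth.Agent.Lib.Helper34.ExtRD
import Groth.Agent.Lib.Helper34.SSGrothFlex
import Groth.Prelude.Def_LocCohZ

/-!
# Ingredients for the local cohomology spectral sequences on topological spaces

* `Ext^n(P, F) ≅ R^n Hom(P, -) (F)` (corepresentable form of `ExtRD`);
* `Hom(ℤ_X/ℤ_{f⁻¹V}, F) ≅ Hom(ℤ_Y/ℤ_V, f_* F)` naturally in `F`.
-/

set_option autoImplicit false
universe v u
open CategoryTheory CategoryTheory.Limits Opposite TopologicalSpace

namespace Groth.Agent.Lib.Helper34.LocCohSS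

/-- `Ext^n(P, F) ≅ (R^n Hom(P, -)) F`. -/
theorem nonempty_ext_iso_rightDerived_coyoneda {C : Type u} [Category.{v} C] [Abelian C]
    [HasExt.{v} C] [EnoughInjectives C] (P F : C) (n : ℕ) :
    Nonempty (AddCommGrpCat.of (Abelian.Ext.{v} P F n) ≅
      ((preadditiveCoyoneda.obj (op P)).rightDerived n).obj F) :=
  ExtRD.nonempty_ext_iso_rightDerived P (preadditiveCoyoneda.obj (op P))
    (fun _ => AddEquiv.refl _) (fun _ _ => rfl) n F

section

variable {X : TopCat.{u}}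

/-- Morphisms out of `ℤ_V/ℤ_W` are the sections over `V` vanishing on `W`. -/
noncomputable def homEquivSectZ (F : CohTop.Ab X) {W V : Opens X} (h : W ≤ V) :
    (LocCohZ.zq h ⟶ F) ≃+ LocCohZ.sectZ F h :=
  Abelian.Ext.addEquiv₀.symm.trans (LocCohZ.sect0Equiv F h)

lemma homEquivSectZ_apply_coe (F : CohTop.Ab X) {W V : Opens X} (h : W ≤ V)
    (φ : LocCohZ.zq h ⟶ F) :
    ((homEquivSectZ F h φ : LocCohZ.sectZ F h) : F.obj.obj (op V)) =
      CohFree.evalGen (Opens.grothendieckTopology X) V F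
        (cokernel.π (CohCx.freeSheafMap (Opens.grothendieckTopology X) (homOfLE h)) ≫ φ) := by
  change CohFree.evalGen (Opens.grothendieckTopology X) V F
    (cokernel.π _ ≫ Abelian.Ext.addEquiv₀ (Abelian.Ext.addEquiv₀.symm φ)) = _
  rw [AddEquiv.apply_symm_apply]

lemma homEquivSectZ_comp {F G : CohTop.Ab X} {W V : Opens X} (h : W ≤ V)
    (φ : LocCohZ.zq h ⟶ F) (g : F ⟶ G) :
    ((homEquivSectZ G h (φ ≫ g) : LocCohZ.sectZ G h) : G.obj.obj (op V)) =
      (g.hom.app (op V)).hom ((homEquivSectZ F h φ : LocCohZ.sectZ F h) : F.obj.obj (op V)) := by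
  rw [homEquivSectZ_apply_coe, homEquivSectZ_apply_coe, ← Category.assoc]
  rfl

end

section Push

variable {X Y : TopCat.{u}} (f : X ⟶ Y) (V : Opens Y)

/-- `Hom(ℤ_X/ℤ_{f⁻¹V}, F) ≃ Hom(ℤ_Y/ℤ_V, f_* F)`. -/
noncomputable def homPushEquiv (F : CohTop.Ab X) :
    (LocCohZ.zq (le_top : (Opens.map f).obj V ≤ ⊤) ⟶ F) ≃+
      (LocCohZ.zq (le_top : V ≤ ⊤) ⟶ (CohTop.push f).obj F) :=
  (homEquivSectZ F (le_top : (Opens.map f).obj V ≤ ⊤)).trans
    ((AddEquiv.refl _ : LocCohZ.sectZ F (le_top : (Opens.map f).obj V ≤ ⊤) ≃+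
        LocCohZ.sectZ ((CohTop.push f).obj F) (le_top : V ≤ ⊤)).trans
      (homEquivSectZ ((CohTop.push f).obj F) (le_top : V ≤ ⊤)).symm)

lemma homEquivSectZ_homPushEquiv (F : CohTop.Ab X)
    (φ : LocCohZ.zq (le_top : (Opens.map f).obj V ≤ ⊤) ⟶ F) :
    (homEquivSectZ ((CohTop.push f).obj F) (le_top : V ≤ ⊤) (homPushEquiv f V F φ)).1 =
      (show ((CohTop.push f).obj F).obj.obj (op ⊤) from
        (homEquivSectZ F (le_top : (Opens.map f).obj V ≤ ⊤) φ).1) := by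
  have h1 : homEquivSectZ ((CohTop.push f).obj F) (le_top : V ≤ ⊤) (homPushEquiv f V F φ) =
      (AddEquiv.refl _ : LocCohZ.sectZ F (le_top : (Opens.map f).obj V ≤ ⊤) ≃+
        LocCohZ.sectZ ((CohTop.push f).obj F) (le_top : V ≤ ⊤))
        (homEquivSectZ F (le_top : (Opens.map f).obj V ≤ ⊤) φ) :=
    AddEquiv.apply_symm_apply _ _
  rw [h1]
  rfl

lemma homPushEquiv_comp {F G : CohTop.Ab X}
    (φ : LocCohZ.zq (le_top : (Opens.map f).obj V ≤ ⊤) ⟶ F) (g : F ⟶ G) :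
    homPushEquiv f V G (φ ≫ g) = homPushEquiv f V F φ ≫ (CohTop.push f).map g := by
  apply (homEquivSectZ ((CohTop.push f).obj G) (le_top : V ≤ ⊤)).injective
  apply Subtype.ext
  refine (homEquivSectZ_homPushEquiv f V G (φ ≫ g)).trans ?_
  refine Eq.trans ?_ (homEquivSectZ_comp _ (homPushEquiv f V F φ) ((CohTop.push f).map g)).symm
  rw [homEquivSectZ_homPushEquiv]
  exact homEquivSectZ_comp _ φ g

/-- The natural isomorphism `Hom(ℤ_X/ℤ_{f⁻¹V}, -) ≅ Hom(ℤ_Y/ℤ_V, f_* -)`. -/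
noncomputable def coyonedaPushIso :
    preadditiveCoyoneda.obj (op (LocCohZ.zq (le_top : (Opens.map f).obj V ≤ ⊤))) ≅
      CohTop.push f ⋙ preadditiveCoyoneda.obj (op (LocCohZ.zq (le_top : V ≤ ⊤))) :=
  NatIso.ofComponents (fun F => (homPushEquiv f V F).toAddCommGrpIso) (by
    intro F G g
    ext φ
    exact homPushEquiv_comp f V φ g)

end Push

end Groth.Agent.Lib.Helper34.LocCohSS
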