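import Groth.Agent.Lib.Helper34.ExtRD
import Groth.Agent.Lib.Cohomology.helper5_SiteH

/-!
# `H^n(V, F)` on a small site as the right derived functors of the sections functor
-/

set_option autoImplicit false
universe u
open CategoryTheory CategoryTheory.Limits Opposite

namespace Groth.Agent.Lib.Helper34.SiteExtRD

variable {C : Type u} [SmallCategory C] (J : GrothendieckTopology C)

/-- The sections functor `F ↦ F(V)` on abelian sheaves. -/
noncomputable abbrev secF (V : C) : Sheaf J AddCommGrpCat.{u} ⥤ AddCommGrpCat.{u} :=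
  sheafToPresheaf J AddCommGrpCat.{u} ⋙ (evaluation Cᵒᵖ AddCommGrpCat.{u}).obj (op V)

instance (V : C) : (secF J V).Additive := inferInstance

instance (V : C) : PreservesFiniteLimits (secF J V) := inferInstance

/-- `H^n(V, F) ≅ (R^n Γ(V, -)) F`. -/
theorem nonempty_HU_iso_rightDerived (F : Sheaf J AddCommGrpCat.{u}) (n : ℕ) (V : C) :
    Nonempty (AddCommGrpCat.of (CohSite.HU F n V) ≅ ((secF J V).rightDerived n).obj F) :=
  ExtRD.nonempty_ext_iso_rightDerived (CohCx.freeSheaf J V) (secF J V)
    (fun F => CohFree.homEquivSect J V F)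
    (fun φ g => Groth.Agent.Lib.Cohomology.SiteH.homEquivSect_comp J V φ g) n F

end Groth.Agent.Lib.Helper34.SiteExtRD
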