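import Groth.Agent.Lib.Helper34.LocCohSS
import Groth.Agent.Lib.Helper34.SiteExtRD
import Groth.Agent.Lib.Cohomology.Helper3_SectSupp

/-!
# `Hom(ℤ_X/ℤ_U, F) ≅ Γ(X, Γ_Z F)` naturally in `F`
-/

set_option autoImplicit false
universe u
open CategoryTheory CategoryTheory.Limits Opposite TopologicalSpace

namespace Groth.Agent.Lib.Helper34.LocCohSS

open Groth.Agent.Lib.Cohomology.OpenAdj Groth.Agent.Lib.Cohomology.LocCohSh
  Groth.Agent.Lib.Cohomology.SectSupp

variable {X : TopCat.{u}} (U : Opens X)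

lemma jj_top : jj U ⊤ = U := by
  ext x
  rw [SetLike.mem_coe, SetLike.mem_coe, mem_jj]
  exact ⟨fun h => h.2, fun h => ⟨trivial, h⟩⟩

lemma map_eq_zero_iff_of_eq (F : CohTop.Ab X) {V : Opens X} (s : F.obj.obj (op V)) :
    ∀ (W' W : Opens X) (_ : W' = W) (h' : W' ≤ V) (h : W ≤ V),
      F.obj.map (homOfLE h').op s = 0 ↔ F.obj.map (homOfLE h).op s = 0 := by
  intro W' W hW h' h
  subst hW
  exact Iff.rfl

lemma unit_app_top_eq_zero_iff (F : CohTop.Ab X) (s : F.obj.obj (op ⊤)) :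
    ((adj U).unit.app F).hom.app (op ⊤) s = 0 ↔
      F.obj.map (homOfLE (le_top : U ≤ ⊤)).op s = 0 :=
  (unit_app_eq_zero_iff U F ⊤ s).trans
    (map_eq_zero_iff_of_eq F s _ _ (jj_top U) (jj_le U ⊤) le_top)

/-- global sections of `Γ_Z F` as a subgroup of `F(X)` -/
noncomputable def sectSuppToSectZ (F : CohTop.Ab X) :
    (CohCx.sectSupp U F).obj.obj (op ⊤) →+ LocCohZ.sectZ F (le_top : U ≤ ⊤) :=
  AddMonoidHom.codRestrict ((kernel.ι ((adj U).unit.app F)).hom.app (op ⊤)).hom _ (by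
    intro t
    rw [AddMonoidHom.mem_ker]
    apply (unit_app_top_eq_zero_iff U F _).1
    change (kernel.ι ((adj U).unit.app F) ≫ (adj U).unit.app F).hom.app (op ⊤) t = 0
    rw [kernel.condition]
    rfl)

lemma sectSuppToSectZ_bijective (F : CohTop.Ab X) :
    Function.Bijective (sectSuppToSectZ U F) := by
  constructor
  · intro t t' h
    apply kernel_ι_injective ((adj U).unit.app F) ⊤
    exact congrArg Subtype.val h
  · rintro ⟨s, hs⟩
    rw [AddMonoidHom.mem_ker] at hs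
    obtain ⟨t, ht⟩ := exists_kernel_section ((adj U).unit.app F) ⊤ s
      ((unit_app_top_eq_zero_iff U F s).2 hs)
    exact ⟨t, Subtype.ext ht⟩

/-- `Γ(X, Γ_Z F) ≃ {s ∈ F(X) | s|_U = 0}` -/
noncomputable def sectSuppEquivSectZ (F : CohTop.Ab X) :
    (CohCx.sectSupp U F).obj.obj (op ⊤) ≃+ LocCohZ.sectZ F (le_top : U ≤ ⊤) :=
  AddEquiv.ofBijective (sectSuppToSectZ U F) (sectSuppToSectZ_bijective U F)

lemma sectSuppEquivSectZ_apply_coe (F : CohTop.Ab X) (t : (CohCx.sectSupp U F).obj.obj (op ⊤)) :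
    (sectSuppEquivSectZ U F t).1 = (kernel.ι ((adj U).unit.app F)).hom.app (op ⊤) t := rfl

/-- `Hom(ℤ_X/ℤ_U, F) ≃ Γ(X, Γ_Z F)` -/
noncomputable def homEquivSectSupp (F : CohTop.Ab X) :
    (LocCohZ.zq (le_top : U ≤ ⊤) ⟶ F) ≃+ (CohCx.sectSupp U F).obj.obj (op ⊤) :=
  (homEquivSectZ F (le_top : U ≤ ⊤)).trans (sectSuppEquivSectZ U F).symm

lemma homEquivSectSupp_comp {F G : CohTop.Ab X} (φ : LocCohZ.zq (le_top : U ≤ ⊤) ⟶ F)
    (g : F ⟶ G) :
    homEquivSectSupp U G (φ ≫ g) =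
      (((LocCohZ.sectSuppF U).map g).hom.app (op ⊤)).hom (homEquivSectSupp U F φ) := by
  apply (sectSuppEquivSectZ U G).injective
  apply Subtype.ext
  have h1 : sectSuppEquivSectZ U G (homEquivSectSupp U G (φ ≫ g)) =
      homEquivSectZ G (le_top : U ≤ ⊤) (φ ≫ g) := AddEquiv.apply_symm_apply _ _
  have h2 : sectSuppEquivSectZ U F (homEquivSectSupp U F φ) =
      homEquivSectZ F (le_top : U ≤ ⊤) φ := AddEquiv.apply_symm_apply _ _
  rw [h1, sectSuppEquivSectZ_apply_coe]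
  refine (homEquivSectZ_comp _ φ g).trans ?_
  rw [← h2, sectSuppEquivSectZ_apply_coe]
  have hn : (LocCohZ.sectSuppF U).map g ≫ kernel.ι ((adj U).unit.app G) =
      kernel.ι ((adj U).unit.app F) ≫ g := by
    dsimp [LocCohZ.sectSuppF]
    simp
  have := congrArg (fun κ : (LocCohZ.sectSuppF U).obj F ⟶ G => (κ.hom.app (op ⊤)).hom
    (homEquivSectSupp U F φ)) hn
  exact this.symm

/-- The natural isomorphism `Hom(ℤ_X/ℤ_U, -) ≅ Γ(X, Γ_Z -)`. -/
noncomputable def coyonedaSectSuppIso :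
    preadditiveCoyoneda.obj (op (LocCohZ.zq (le_top : U ≤ ⊤))) ≅
      LocCohZ.sectSuppF U ⋙ SiteExtRD.secF (Opens.grothendieckTopology X) ⊤ :=
  NatIso.ofComponents (fun F => (homEquivSectSupp U F).toAddCommGrpIso) (by
    intro F G g
    ext φ
    exact homEquivSectSupp_comp U φ g)

end Groth.Agent.Lib.Helper34.LocCohSS
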