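import Groth.Agent.Lib.Helper34.ModLocCoh
import Groth.Agent.Lib.Cohomology.Helper1_SerreVanishing
import Groth.Agent.Lib.Cohomology.Helper1_MV
import Groth.Agent.Lib.Cohomology.Helper1_SheafifyZero
import Groth.Agent.Lib.Cohomology.Helper1_RpushLinear
import Groth.Agent.S0461
import Groth.Agent.Lib.QCoh.Helper50_Products
import Groth.Agent.Lib.QCoh.Helper18_Ass

/-!
# Vanishing of local cohomology sheaves above the number of local equations (helper34)
-/

set_option autoImplicit false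
universe u
open CategoryTheory CategoryTheory.Limits Opposite AlgebraicGeometry TopologicalSpace

namespace Groth.Agent.Lib.Helper34.LocCohVanish

open Groth.Agent.Lib.Cohomology

variable {X : Scheme.{u}} (U : X.Opens)

/-- cohomology of a quasi-coherent module on `U` over `U ∩ O`, `O` affine, vanishes in degrees at least
the number of functions on `O` whose nonvanishing loci cover `U ∩ O` -/
lemma HU_subsingleton_preimage (G : (↑U : Scheme.{u}).Modules) [G.IsQuasicoherent] (O : X.Opens)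
    (gs : Finset Γ(X, O)) (hO : IsAffineOpen O)
    (hcov : ∀ x ∈ O, x ∈ U ↔ ∃ g ∈ gs, x ∈ X.basicOpen g)
    (p : ℕ) (hp : gs.card ≤ p) (hp1 : 1 ≤ p) :
    Subsingleton (CohTop.HU (Coh.toAb G) p (U.ι ⁻¹ᵁ O)) := by
  classical
  -- the class of acyclic opens
  let 𝒜 : Set (↑U : Scheme.{u}).Opens :=
    {W | ∃ g : Γ(X, O), X.basicOpen g ≤ U ∧ W = U.ι ⁻¹ᵁ (X.basicOpen g)}
  have hinf : ∀ V ∈ 𝒜, ∀ W ∈ 𝒜, V ⊓ W ∈ 𝒜 := by
    rintro _ ⟨g₁, h₁, rfl⟩ _ ⟨g₂, h₂, rfl⟩
    refine ⟨g₁ * g₂, ?_, ?_⟩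
    · rw [Scheme.basicOpen_mul]
      exact inf_le_left.trans h₁
    · rw [Scheme.basicOpen_mul]
      rfl
  have hvan : ∀ V ∈ 𝒜, ∀ n, Subsingleton (CohTop.HU (Coh.toAb G) (n + 1) V) := by
    rintro _ ⟨g, hg, rfl⟩ n
    refine HU_succ_subsingleton_of_isAffineOpen G _ ?_ n
    refine IsAffineOpen.preimage_of_isOpenImmersion (hO.basicOpen g) U.ι ?_
    rwa [Scheme.Opens.opensRange_ι]
  rcases Nat.eq_zero_or_pos gs.card with h0 | hpos
  · -- no functions: `U ∩ O` is empty
    have hgs : gs = ∅ := Finset.card_eq_zero.1 h0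
    have hbot : U.ι ⁻¹ᵁ O = U.ι ⁻¹ᵁ (X.basicOpen (0 : Γ(X, O))) := by
      ext y
      simp only [Scheme.basicOpen_zero]
      constructor
      · intro hy
        have hyU : (U.ι y) ∈ U := by
          have : U.ι y ∈ Set.range U.ι := ⟨y, rfl⟩
          simpa using this
        obtain ⟨g, hg, -⟩ := (hcov _ hy).1 hyU
        rw [hgs] at hg
        simp at hg
      · intro hy
        exact hy.elim
    obtain ⟨n, rfl⟩ : ∃ n, p = n + 1 := ⟨p - 1, by omega⟩
    rw [hbot]
    exact hvan _ ⟨0, by simp, rfl⟩ n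
  · obtain ⟨t, ht⟩ : ∃ t, gs.card = t + 1 := ⟨gs.card - 1, by omega⟩
    let e : Fin (t + 1) ≃ gs := (gs.equivFin.trans (finCongr ht)).symm
    let W : Fin (t + 1) → (↑U : Scheme.{u}).Opens := fun i => U.ι ⁻¹ᵁ (X.basicOpen (e i).1)
    have hle : ∀ g ∈ gs, X.basicOpen g ≤ U := by
      intro g hg x hx
      exact (hcov x (X.basicOpen_le g hx)).2 ⟨g, hg, hx⟩
    have hW : ∀ i, W i ∈ 𝒜 := fun i => ⟨(e i).1, hle _ (e i).2, rfl⟩
    have key := HU_iSup_subsingleton (Coh.toAb G) 𝒜 hinf hvan t W hW p (by omega)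
    have hsup : ⨆ i, W i = U.ι ⁻¹ᵁ O := by
      apply le_antisymm
      · refine iSup_le fun i => ?_
        exact (Opens.map U.ι.base).monotone (X.basicOpen_le _)
      · intro y hy
        have hyU : (U.ι y) ∈ U := by
          have : U.ι y ∈ Set.range U.ι := ⟨y, rfl⟩
          simpa using this
        obtain ⟨g, hg, hyg⟩ := (hcov _ hy).1 hyU
        refine Opens.mem_iSup.2 ⟨e.symm ⟨g, hg⟩, ?_⟩
        change U.ι y ∈ X.basicOpen (e (e.symm ⟨g, hg⟩)).1
        rw [Equiv.apply_symm_apply]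
        exact hyg
    rw [hsup] at key
    exact key

/-- `R^p j_* G = 0` (abelian sheaves) for `p ≥ c`, `p ≥ 1`, when the complement of `U` is locally cut out
by at most `c` equations -/
theorem isZero_RpushAb (c : ℕ)
    (hT : ∀ x : X, ∃ (V : X.Opens) (fs : Finset Γ(X, V)), x ∈ V ∧ fs.card ≤ c ∧
      X.zeroLocus (U := V) (↑fs : Set Γ(X, V)) ∩ (V : Set ↥X) = (U : Set ↥X)ᶜ ∩ (V : Set ↥X))
    (G : (↑U : Scheme.{u}).Modules) [G.IsQuasicoherent] (p : ℕ) (hp : c ≤ p) (hp1 : 1 ≤ p) :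
    IsZero ((Coh.RpushAb U.ι p).obj (Coh.toAb G)) := by
  classical
  obtain ⟨e⟩ := Groth.Agent.S0461.result U.ι.base (Coh.toAb G) p
  refine IsZero.of_iso ?_ e
  apply isZero_presheafToSheaf_of_basis _
    {O : X.Opens | IsAffineOpen O ∧ ∃ (V : X.Opens) (fs : Finset Γ(X, V)), O ≤ V ∧ fs.card ≤ c ∧
      X.zeroLocus (U := V) (↑fs : Set Γ(X, V)) ∩ (V : Set ↥X) = (U : Set ↥X)ᶜ ∩ (V : Set ↥X)}
  · rw [Opens.isBasis_iff_nbhd]
    intro W x hxW
    obtain ⟨V, fs, hxV, hcard, hz⟩ := hT x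
    obtain ⟨_, ⟨O, hO, rfl⟩, hxO, hOle⟩ :=
      X.isBasis_affineOpens.exists_subset_of_mem_open (show x ∈ ((V ⊓ W : X.Opens) : Set X) from
        ⟨hxV, hxW⟩) (V ⊓ W).isOpen
    exact ⟨O, ⟨hO, V, fs, fun y hy => (hOle hy).1, hcard, hz⟩, hxO, fun y hy => (hOle hy).2⟩
  · rintro O ⟨hO, V, fs, hOV, hcard, hz⟩
    let r : Γ(X, V) → Γ(X, O) := (X.presheaf.map (homOfLE hOV).op).hom
    have key := HU_subsingleton_preimage U G O (fs.image r) hO ?_ p
      ((Finset.card_image_le.trans hcard).trans hp) hp1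
    · exact key
    · intro x hxO
      have hxV : x ∈ V := hOV hxO
      have h1 : x ∈ U ↔ x ∉ X.zeroLocus (U := V) (↑fs : Set Γ(X, V)) := by
        have := congrArg (fun S : Set X => x ∈ S) hz
        simp only [Set.mem_inter_iff, Set.mem_compl_iff, SetLike.mem_coe, hxV, and_true,
          eq_iff_iff] at this
        rw [this, not_not]
      rw [h1, Scheme.mem_zeroLocus_iff]
      push_neg
      constructor
      · rintro ⟨f, hf, hxf⟩
        refine ⟨r f, Finset.mem_image_of_mem r hf, ?_⟩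
        change x ∈ X.basicOpen (X.presheaf.map (homOfLE hOV).op f)
        rw [Scheme.basicOpen_res]
        exact ⟨hxO, hxf⟩
      · rintro ⟨g, hg, hxg⟩
        obtain ⟨f, hf, rfl⟩ := Finset.mem_image.1 hg
        refine ⟨f, hf, ?_⟩
        change x ∈ X.basicOpen (X.presheaf.map (homOfLE hOV).op f) at hxg
        rw [Scheme.basicOpen_res] at hxg
        exact hxg.2

lemma isZero_of_isZero_toAb {Y : Scheme.{u}} (N : Y.Modules)
    (h : IsZero ((HHLES.toAbF Y).obj N)) : IsZero N := by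
  rw [IsZero.iff_id_eq_zero] at h ⊢
  have : (HHLES.toAbF Y).Faithful :=
    inferInstanceAs (SheafOfModules.toSheaf.{u} Y.ringCatSheaf).Faithful
  apply (HHLES.toAbF Y).map_injective
  rw [CategoryTheory.Functor.map_id, Functor.map_zero]
  exact h

open ModLocCoh in
/-- `R^p j_* G = 0` (modules) for `p ≥ c`, `p ≥ 1` -/
theorem isZero_Rpush (c : ℕ)
    (hT : ∀ x : X, ∃ (V : X.Opens) (fs : Finset Γ(X, V)), x ∈ V ∧ fs.card ≤ c ∧
      X.zeroLocus (U := V) (↑fs : Set Γ(X, V)) ∩ (V : Set ↥X) = (U : Set ↥X)ᶜ ∩ (V : Set ↥X))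
    (G : (↑U : Scheme.{u}).Modules) [G.IsQuasicoherent] (p : ℕ) (hp : c ≤ p) (hp1 : 1 ≤ p) :
    IsZero ((Coh.Rpush U.ι p).obj G) := by
  obtain ⟨e⟩ := RpushLinear.nonempty_toAb_iso U.ι p
  apply isZero_of_isZero_toAb
  exact IsZero.of_iso (isZero_RpushAb U c hT G p hp hp1) (e.app G)

open ModLocCoh in
/-- vanishing of the local cohomology sheaves above the number of local equations -/
theorem isZero_HZshM [HasInjectiveResolutions X.Modules] (c : ℕ)
    (hT : ∀ x : X, ∃ (V : X.Opens) (fs : Finset Γ(X, V)), x ∈ V ∧ fs.card ≤ c ∧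
      X.zeroLocus (U := V) (↑fs : Set Γ(X, V)) ∩ (V : Set ↥X) = (U : Set ↥X)ᶜ ∩ (V : Set ↥X))
    (F : X.Modules) [F.IsQuasicoherent] (i : ℕ) (hi : c < i) :
    IsZero (((DCoh.gammaZ U.ι).rightDerived i).obj F) := by
  have hres : ((Scheme.Modules.restrictFunctor U.ι).obj F).IsQuasicoherent :=
    Groth.Agent.Lib.QCoh.isQuasicoherent_restrict U.ι F
  match i, hi with
  | 0, hi => exact absurd hi (by omega)
  | 1, hi =>
    -- `c = 0`, so `U` is empty
    have hc : c = 0 := by omega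
    subst hc
    have hU : IsEmpty (↑U : Scheme.{u}) := by
      constructor
      intro y
      obtain ⟨V, fs, hxV, hcard, hz⟩ := hT (U.ι y)
      have hfs : fs = ∅ := Finset.card_eq_zero.1 (Nat.le_zero.1 hcard)
      have hyU : (U.ι y) ∈ U := by
        have : U.ι y ∈ Set.range U.ι := ⟨y, rfl⟩
        simpa using this
      have : U.ι y ∈ X.zeroLocus (U := V) (↑fs : Set Γ(X, V)) ∩ (V : Set ↥X) := by
        refine ⟨?_, hxV⟩
        rw [Scheme.mem_zeroLocus_iff]
        intro f hf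
        rw [hfs] at hf
        simp at hf
      rw [hz] at this
      exact this.1 hyU
    have hz0 : IsZero ((Scheme.Modules.restrictFunctor U.ι).obj F) := by
      apply Groth.Agent.Lib.QCoh.isZero_of_forall_stalk_subsingleton
      intro y
      exact (hU.false y).elim
    have hz1 : IsZero ((Scheme.Modules.pushforward U.ι).obj
        ((Scheme.Modules.restrictFunctor U.ι).obj F)) :=
      (Scheme.Modules.pushforward U.ι).map_isZero hz0
    obtain ⟨e⟩ := nonempty_coker_iso U.ι F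
    refine IsZero.of_iso ?_ e.symm
    rw [IsZero.iff_id_eq_zero, ← cancel_epi (cokernel.π _)]
    exact hz1.eq_of_src _ _
  | (k + 2), hi =>
    obtain ⟨e⟩ := nonempty_HZshM_succ_iso U.ι (k + 1) (by omega)
    exact IsZero.of_iso (isZero_Rpush U c hT _ (k + 1) (by omega) (by omega)) (e.app F)

end Groth.Agent.Lib.Helper34.LocCohVanish
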