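import Groth.Agent.Lib.Helper34.ModHZero

/-!
# Chain-level lemmas for maps out of free modules placed in degree `0`
-/

set_option autoImplicit false
universe w u
open CategoryTheory Limits DerivedCategory Opposite HomologicalComplex

namespace Groth.Agent.Lib.Helper34.ModChain

open ModSite Groth.Agent.Lib.Helper34.ModFree

section Abs

variable {𝒜 : Type*} [Category 𝒜] [Abelian 𝒜]

/-- the complex with `A` in degree `0`. -/
noncomputable abbrev sg (A : 𝒜) : CochainComplex 𝒜 ℤ :=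
  (HomologicalComplex.single 𝒜 (ComplexShape.up ℤ) 0).obj A

noncomputable abbrev sgMap {A B : 𝒜} (φ : A ⟶ B) : sg A ⟶ sg B :=
  (HomologicalComplex.single 𝒜 (ComplexShape.up ℤ) 0).map φ

/-- the chain map out of `A[0]` attached to a cocycle. -/
noncomputable def ofCocycle {A : 𝒜} {K : CochainComplex 𝒜 ℤ} (φ : A ⟶ K.X 0)
    (hφ : φ ≫ K.d 0 1 = 0) : sg A ⟶ K :=
  mkHomFromSingle φ (by
    intro k hk
    have : k = 1 := by
      change (0 : ℤ) + 1 = k at hk
      omega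
    subst this
    exact hφ)

lemma ofCocycle_f {A : 𝒜} {K : CochainComplex 𝒜 ℤ} (φ : A ⟶ K.X 0) (hφ : φ ≫ K.d 0 1 = 0) :
    (ofCocycle φ hφ).f 0 = (singleObjXSelf (ComplexShape.up ℤ) 0 A).hom ≫ φ :=
  mkHomFromSingle_f _ _

/-- the cocycle of a chain map out of `A[0]`. -/
noncomputable def toCocycle {A : 𝒜} {K : CochainComplex 𝒜 ℤ} (x : sg A ⟶ K) : A ⟶ K.X 0 :=
  (singleObjXSelf (ComplexShape.up ℤ) 0 A).inv ≫ x.f 0

lemma toCocycle_d {A : 𝒜} {K : CochainComplex 𝒜 ℤ} (x : sg A ⟶ K) :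
    toCocycle x ≫ K.d 0 1 = 0 := by
  rw [toCocycle, Category.assoc, x.comm 0 1, single_obj_d, zero_comp, comp_zero]

lemma ofCocycle_toCocycle {A : 𝒜} {K : CochainComplex 𝒜 ℤ} (x : sg A ⟶ K) :
    ofCocycle (toCocycle x) (toCocycle_d x) = x := by
  apply from_single_hom_ext
  rw [ofCocycle_f, toCocycle, Iso.hom_inv_id_assoc]

lemma toCocycle_ofCocycle {A : 𝒜} {K : CochainComplex 𝒜 ℤ} (φ : A ⟶ K.X 0)
    (hφ : φ ≫ K.d 0 1 = 0) : toCocycle (ofCocycle φ hφ) = φ := by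
  rw [toCocycle, ofCocycle_f, Iso.inv_hom_id_assoc]

lemma toCocycle_sgMap_comp {A B : 𝒜} {K : CochainComplex 𝒜 ℤ} (ψ : A ⟶ B) (x : sg B ⟶ K) :
    toCocycle (sgMap ψ ≫ x) = ψ ≫ toCocycle x := by
  rw [toCocycle, toCocycle, comp_f, single_map_f_self]
  simp

/-- a chain map out of `A[0]` whose cocycle is a coboundary is null-homotopic. -/
lemma nonempty_homotopy_zero {A : 𝒜} {K : CochainComplex 𝒜 ℤ} (x : sg A ⟶ K)
    (h : A ⟶ K.X (-1)) (hx : toCocycle x = h ≫ K.d (-1) 0) : Nonempty (Homotopy x 0) := by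
  let hh : ∀ i j, (ComplexShape.up ℤ).Rel j i → ((sg A).X i ⟶ K.X j) := fun i j _ =>
    if hi : i = 0 ∧ j = -1 then
      (XIsoOfEq (sg A) hi.1).hom ≫ (singleObjXSelf (ComplexShape.up ℤ) 0 A).hom ≫ h ≫
        (XIsoOfEq K hi.2).inv
    else 0
  have hx' : x = Homotopy.nullHomotopicMap' hh := by
    apply from_single_hom_ext
    rw [Homotopy.nullHomotopicMap'_f (show (ComplexShape.up ℤ).Rel (-1) 0 by simp)
      (show (ComplexShape.up ℤ).Rel 0 1 by simp), single_obj_d, zero_comp, zero_add]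
    have : hh 0 (-1) (by simp) = (singleObjXSelf (ComplexShape.up ℤ) 0 A).hom ≫ h := by
      simp [hh, XIsoOfEq]
    rw [this, Category.assoc, ← hx, toCocycle, Iso.hom_inv_id_assoc]
  rw [hx']
  exact ⟨Homotopy.nullHomotopy' hh⟩

end Abs

section Site

variable {C : Type u} [SmallCategory C] {J : GrothendieckTopology C} {O : Sheaf J CommRingCat.{u}}
  [HasDerivedCategory.{w} (Mod O)]

/-- maps `P_W[0] ⟶ K` in the derived category are locally represented by chain maps. -/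
lemma exists_cover_chain (W : C) (K : CochainComplex (Mod O) ℤ)
    (ξ : Q.obj (sg (P O W)) ⟶ Q.obj K) :
    ∃ T ∈ J W, ∀ ⦃W' : C⦄ (g : W' ⟶ W), T g →
      ∃ x : sg (P O W') ⟶ K, Q.map (sgMap (Pmap O g)) ≫ ξ = Q.map x := by
  obtain ⟨M, s, hs, a, rfl⟩ := DerivedCategory.right_fac ξ
  have hqi : QuasiIso s := by
    rw [← isIso_Q_map_iff_quasiIso]
    exact hs
  let σ := singleObjCyclesSelfIso (ComplexShape.up ℤ) 0 (P O W)
  let π : M.cycles 0 ⟶ P O W := cyclesMap s 0 ≫ σ.hom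
  have hπ : π = M.homologyπ 0 ≫ homologyMap s 0 ≫
      (singleObjHomologySelfIso (ComplexShape.up ℤ) 0 (P O W)).hom := by
    rw [homologyπ_naturality_assoc, homologyπ_singleObjHomologySelfIso_hom]
  have hiso : IsIso (homologyMap s 0) :=
    (quasiIsoAt_iff_isIso_homologyMap s 0).1 (hqi.quasiIsoAt 0)
  have : Epi π := by
    rw [hπ]
    exact epi_comp _ _
  obtain ⟨T, hT, hlift⟩ := exists_cover_lift O π
  refine ⟨T, hT, fun W' g hg => ?_⟩
  obtain ⟨u₀, hu₀⟩ := hlift g hg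
  let u : sg (P O W') ⟶ M := ofCocycle (u₀ ≫ M.iCycles 0) (by
    rw [Category.assoc, M.iCycles_d, comp_zero])
  have hus : u ≫ s = sgMap (Pmap O g) := by
    apply from_single_hom_ext
    rw [comp_f, ofCocycle_f, single_map_f_self, Category.assoc, Category.assoc, ← cyclesMap_i,
      ← hu₀]
    have h1 : (sg (P O W)).iCycles 0 =
        σ.hom ≫ (singleObjXSelf (ComplexShape.up ℤ) 0 (P O W)).inv := by
      rw [singleObjCyclesSelfIso_hom, Category.assoc, Iso.hom_inv_id, Category.comp_id]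
    rw [h1]
    simp [π]
  refine ⟨u ≫ a, ?_⟩
  rw [← hus, Functor.map_comp, Functor.map_comp, Category.assoc, IsIso.hom_inv_id_assoc]

end Site

end Groth.Agent.Lib.Helper34.ModChain
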