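import Groth.Agent.Lib.Helper34.ModTruncRlim
import Groth.Agent.Lib.Helper34.EpsCmp
import Groth.Agent.Lib.Helper68.DerLimSh4

/-!
# Derived limits of towers of sheaves of modules with vanishing higher cohomology on a basis
(port of helper68's `DerLimSh2-4` to `Mod O`)
-/

set_option autoImplicit false
universe w u
open CategoryTheory Limits Opposite

namespace Groth.Agent.Lib.Helper34.ModDerLim

open ModSite Groth.Agent.Lib.Helper68.HZeroLocal Groth.Agent.Lib.Helper34.ModFree
  Groth.Agent.Lib.Helper34.ModHZero DerivedCategory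
open Groth.Agent.Lib.Helper68.RlimMilnor

section General

lemma limOneIsZero_of_equiv' {A : ℕ → Type u} {A' : ℕ → Type w} [∀ n, AddCommGroup (A n)]
    [∀ n, AddCommGroup (A' n)] (t : ∀ n, A (n + 1) →+ A n) (t' : ∀ n, A' (n + 1) →+ A' n)
    (e : ∀ n, A n ≃+ A' n) (he : ∀ n x, e n (t n x) = t' n (e (n + 1) x))
    (h : CohCx.LimOneIsZero A t) : CohCx.LimOneIsZero A' t' := by
  intro b'
  obtain ⟨c, hc⟩ := h (fun n => (e n).symm (b' n))
  refine ⟨fun n => e n (c n), funext fun n => ?_⟩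
  have h1 := congrFun hc n
  dsimp only at h1 ⊢
  rw [← he, ← map_sub, h1, AddEquiv.apply_symm_apply]

lemma limOneIsZero_of_subsingleton' (A : ℕ → Type w) [∀ n, AddCommGroup (A n)]
    (t : ∀ n, A (n + 1) →+ A n) (h : ∀ n, Subsingleton (A n)) : CohCx.LimOneIsZero A t :=
  fun _ => ⟨fun _ => 0, funext fun _ => Subsingleton.elim _ _⟩

end General

variable {C : Type u} [SmallCategory C] {J : GrothendieckTopology C} {O : Sheaf J CommRingCat.{u}}
  [HasDerivedCategory.{w} (Mod O)]

omit [HasDerivedCategory.{w} (Mod O)] in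
lemma eq_of_equalizerSieve_mem' (G : Sheaf J AddCommGrpCat.{u}) {V : C} (s s' : G.obj.obj (op V))
    (h : Presheaf.equalizerSieve (F := G.obj) s s' ∈ J V) : s = s' := by
  have hsep : Presieve.IsSeparated J (G.obj ⋙ forget _) := by
    apply Presieve.IsSheaf.isSeparated
    rw [← isSheaf_iff_isSheaf_of_type]
    exact ((sheafCompose J (forget AddCommGrpCat.{u})).obj G).2
  exact (hsep _ h).ext (fun W g hg => hg)

section Main

variable (F : ℕ → Mod O) (t : ∀ n, F (n + 1) ⟶ F n) (B : Set C)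
  (h1 : ∀ U ∈ B, ∀ (p n : ℕ), Subsingleton (ModSite.HU O (F n) (p + 1) U))
  (h2 : ∀ U ∈ B, CohCx.LimOneIsZero (fun n => (toAb (F n)).obj.obj (op U))
    (fun n => (((T O).map (t n)).hom.app (op U)).hom))

include h1 in
lemma subsingleton_hom (U : C) (hU : U ∈ B) (q : ℤ) (hq : q ≠ 0) (n : ℕ) :
    Subsingleton (S.obj (P O U) ⟶ (S.obj (F n))⟦q⟧) := by
  apply Groth.Agent.Lib.Helper34.ModTruncRlim.subsingleton_hom_single_shift (F n) U q
  intro k hk
  obtain ⟨p, rfl⟩ : ∃ p, k = p + 1 := ⟨k - 1, by omega⟩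
  exact h1 U hU p n

/-- sections as morphisms to a trivially shifted single object -/
noncomputable def sectEquiv (G : Mod O) (U : C) (k : ℤ) (hk : k = 0) :
    (toAb G).obj.obj (op U) ≃+ (S.obj (P O U) ⟶ (S.obj G)⟦k⟧) where
  toFun x := S.map (ofSect O U G x) ≫
    (shiftFunctorZero' (DerivedCategory (Mod O)) k hk).inv.app (S.obj G)
  invFun f := evalGen O U G (S.preimage (f ≫
    (shiftFunctorZero' (DerivedCategory (Mod O)) k hk).hom.app (S.obj G)))
  left_inv x := by
    simp only [Category.assoc, Iso.inv_hom_id_app, Functor.id_obj, Category.comp_id,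
      Functor.preimage_map]
    exact evalGen_ofSect O U G x
  right_inv f := by
    dsimp only
    rw [ofSect_evalGen, Functor.map_preimage, Category.assoc, Iso.hom_inv_id_app]
    exact Category.comp_id _
  map_add' x y := by
    have h : ofSect O U G (x + y) = ofSect O U G x + ofSect O U G y :=
      (homEquivSect O U G).symm.map_add x y
    rw [h, Functor.map_add, Preadditive.add_comp]

omit [HasDerivedCategory.{w} (Mod O)] in
lemma ofSect_comp' (U : C) {G G' : Mod O} (s : (toAb G).obj.obj (op U)) (g : G ⟶ G') :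
    ofSect O U G s ≫ g = ofSect O U G' ((((T O).map g).hom.app (op U)).hom s) := by
  apply (evalGen_bijective O U G').1
  rw [evalGen_comp, evalGen_ofSect, evalGen_ofSect]

/-- the inverse system in the derived category -/
noncomputable abbrev KM : ℕ → DerivedCategory (Mod O) := fun n => S.obj (F n)

/-- its transition maps -/
noncomputable abbrev tM : ∀ n, KM F (n + 1) ⟶ KM F n := fun n => S.map (t n)

include h1 in
lemma limOne (U : C) (hU : U ∈ B) (q : ℤ) (hq : q ≠ 1) :
    CohCx.LimOneIsZero (fun n => (S.obj (P O U) ⟶ (KM F n)⟦q - 1⟧))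
      (fun n => Preadditive.rightComp _ ((shiftFunctor _ (q - 1)).map (tM F t n))) := by
  exact limOneIsZero_of_subsingleton' _ _
    (fun n => subsingleton_hom F B h1 U hU (q - 1) (by omega) n)

include h2 in
lemma limOne' (U : C) (hU : U ∈ B) (k : ℤ) (hk : k = 0) :
    CohCx.LimOneIsZero (fun n => (S.obj (P O U) ⟶ (KM F n)⟦k⟧))
      (fun n => Preadditive.rightComp _ ((shiftFunctor _ k).map (tM F t n))) := by
  refine limOneIsZero_of_equiv' _ _ (fun n => sectEquiv (F n) U k hk) ?_ (h2 U hU)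
  intro n x
  change S.map (ofSect O U (F n) ((((T O).map (t n)).hom.app (op U)).hom x)) ≫ _ =
    (S.map (ofSect O U (F (n + 1)) x) ≫ _) ≫ (shiftFunctor _ k).map (S.map (t n))
  have hnat := (shiftFunctorZero' (DerivedCategory (Mod O)) k hk).inv.naturality
    (S.map (t n))
  dsimp only [Functor.id_obj, Functor.id_map] at hnat
  rw [Category.assoc, ← hnat, ← Category.assoc, ← Functor.map_comp, ofSect_comp']

variable [HasProduct (KM F)] {Z : DerivedCategory (Mod O)}
  {a : ∀ n, Z ⟶ KM F n} (hZ : CohCx.IsRlimVia (KM F) (tM F t) Z a)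

include h1 h2 hZ in
lemma hom_Z_eq_zero (U : C) (hU : U ∈ B) (q : ℤ) (hq : q ≠ 0)
    (y : S.obj (P O U) ⟶ Z⟦q⟧) : y = 0 := by
  have hlim : CohCx.LimOneIsZero (fun n => (S.obj (P O U) ⟶ (KM F n)⟦q - 1⟧))
      (fun n => Preadditive.rightComp _ ((shiftFunctor _ (q - 1)).map (tM F t n))) := by
    by_cases hk : q - 1 = 0
    · exact limOne' F t B h2 U hU (q - 1) hk
    · exact limOne F t B h1 U hU q (by omega)
  apply Groth.Agent.Lib.Helper68.RlimMilnor.eq_zero_of_limOne (KM F) (tM F t) Z a hZ _ q hlim y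
  intro n
  exact (subsingleton_hom F B h1 U hU q hq n).elim _ _

end Main

section Main2

open Groth.Agent.Lib.Helper68.DerLimSh (proj proj_succ liftSeq liftSeq_proj hom_ext_seq
  exists_lift_zero eq_zero_of_limOne_zero exists_rlim isRlim_of_iso)
open Groth.Agent.Lib.Helper34.ModTruncRlim (covering_of_B')
open Groth.Agent.Lib.Helper34.EpsCmp (isZero_of_sections)

variable (F : ℕ → Mod O) (t : ∀ n, F (n + 1) ⟶ F n) (B : Set C)
  (hB : ∀ U : C, ∃ (ι : Type u) (Y : ι → C) (f : ∀ i, Y i ⟶ U),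
    Sieve.ofArrows Y f ∈ J U ∧ ∀ i, Y i ∈ B)
  (h1 : ∀ U ∈ B, ∀ (p n : ℕ), Subsingleton (ModSite.HU O (F n) (p + 1) U))
  (h2 : ∀ U ∈ B, CohCx.LimOneIsZero (fun n => (toAb (F n)).obj.obj (op U))
    (fun n => (((T O).map (t n)).hom.app (op U)).hom))
  [HasProduct (KM F)] {Z : DerivedCategory (Mod O)}
  {a : ∀ n, Z ⟶ KM F n} (hZ : CohCx.IsRlimVia (KM F) (tM F t) Z a)

include hB h1 h2 hZ in
lemma sections_H_shift_eq_zero (q : ℤ) (hq : q ≠ 0) (V : C)
    (s : ((T O).obj (H.obj (Z⟦q⟧))).obj.obj (op V)) : s = 0 := by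
  obtain ⟨R, hR, hloc⟩ := locSurj_aux (Z⟦q⟧) V s
  apply eq_of_equalizerSieve_mem' ((T O).obj (H.obj (Z⟦q⟧)))
  refine covering_of_B' B hB R hR _ ?_
  intro W j hj Y f hY
  obtain ⟨ξ, hξ⟩ := hloc j hj
  have h0 : S.map (Pmap O f) ≫ ξ = 0 := hom_Z_eq_zero F t B h1 h2 hZ Y hY q hq _
  change (((T O).obj (H.obj (Z⟦q⟧))).obj.map (f ≫ j).op).hom s =
    (((T O).obj (H.obj (Z⟦q⟧))).obj.map (f ≫ j).op).hom 0
  rw [map_zero, op_comp, Functor.map_comp]
  change (((T O).obj (H.obj (Z⟦q⟧))).obj.map f.op).hom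
    ((((T O).obj (H.obj (Z⟦q⟧))).obj.map j.op).hom s) = 0
  rw [← hξ, ← ηU_res, h0, map_zero]

include hB h1 h2 hZ in
lemma isZero_homology (q : ℤ) (hq : q ≠ 0) :
    IsZero ((DerivedCategory.homologyFunctor (Mod O) q).obj Z) := by
  have h0 : IsZero (H.obj (Z⟦q⟧)) :=
    isZero_of_sections _ (sections_H_shift_eq_zero F t B hB h1 h2 hZ q hq)
  exact h0.of_iso (((DerivedCategory.homologyFunctor (Mod O) 0).shiftIso q 0 q
    (add_zero q)).app Z).symm

/-- the limit module -/
noncomputable abbrev Flim : Mod O := limit (CohCx.opSequence F t)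

include hZ in
lemma exists_theta : ∃ θ : S.obj (Flim F t) ⟶ Z, ∀ n, θ ≫ a n = S.map (proj F t n) :=
  exists_lift_zero hZ (S.obj (Flim F t)) (fun n => S.map (proj F t n))
    (fun n => by
      change S.map (proj F t (n + 1)) ≫ S.map (t n) = _
      rw [← Functor.map_comp, proj_succ])

variable (θ : S.obj (Flim F t) ⟶ Z) (hθ : ∀ n, θ ≫ a n = S.map (proj F t n))

include h1 hZ hθ in
lemma theta_surj (U : C) (hU : U ∈ B) (y : S.obj (P O U) ⟶ Z) :
    ∃ g : P O U ⟶ Flim F t, S.map g ≫ θ = y := by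
  let gn : ∀ n, P O U ⟶ F n := fun n => S.preimage (y ≫ a n)
  have hgn : ∀ n, gn (n + 1) ≫ t n = gn n := by
    intro n
    apply S.map_injective
    rw [Functor.map_comp, Functor.map_preimage, Functor.map_preimage, Category.assoc]
    congr 1
    exact Groth.Agent.Lib.Helper68.RlimInj.a_succ (KM F) (tM F t) Z a hZ n
  refine ⟨liftSeq F t gn hgn, ?_⟩
  rw [← sub_eq_zero]
  apply eq_zero_of_limOne_zero hZ _ (limOne F t B h1 U hU 0 (by norm_num))
  intro n
  rw [Preadditive.sub_comp, Category.assoc, hθ, ← Functor.map_comp, liftSeq_proj,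
    Functor.map_preimage, sub_self]

include hθ in
lemma theta_inj (U : C) (g : P O U ⟶ Flim F t) (h : S.map g ≫ θ = 0) : g = 0 := by
  apply hom_ext_seq
  intro n
  rw [zero_comp]
  apply S.map_injective
  rw [Functor.map_comp, ← hθ, ← Category.assoc, h, zero_comp, Functor.map_zero]

include hθ in
lemma psi_injective (V : C) : Function.Injective (((T O).map (Φ θ)).hom.app (op V)).hom := by
  rw [injective_iff_map_eq_zero]
  intro r hr
  let g := ofSect O V (Flim F t) r
  have hg : g ≫ Φ θ = 0 := by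
    apply (evalGen_bijective O V _).1
    rw [evalGen_comp, evalGen_ofSect, map_zero]
    exact hr
  have h0 : Φ (S.map g ≫ θ) = 0 := by rw [Φ_precomp, hg]
  obtain ⟨A', π, hπ, hz⟩ := exists_refinement_inj Z (S.map g ≫ θ) h0
  obtain ⟨R, hR, hlift⟩ := exists_cover_lift O π
  apply eq_of_equalizerSieve_mem' ((T O).obj (Flim F t))
  refine J.superset_covering ?_ hR
  intro W j hj
  obtain ⟨u, hu⟩ := hlift j hj
  have h3 : Pmap O j ≫ g = 0 := by
    apply theta_inj F t θ hθ W
    rw [← hu, Functor.map_comp, Functor.map_comp, Category.assoc, Category.assoc, hz, comp_zero]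
  change (((T O).obj (Flim F t)).obj.map j.op).hom r =
    (((T O).obj (Flim F t)).obj.map j.op).hom 0
  rw [map_zero, ← evalGen_ofSect O V (Flim F t) r, ← evalGen_Pmap_comp, h3, map_zero]

include hB h1 hZ hθ in
lemma psi_locallySurjective : Sheaf.IsLocallySurjective ((T O).map (Φ θ)) where
  imageSieve_mem {V} s := by
    obtain ⟨R, hR, hloc⟩ := locSurj_aux Z V s
    refine covering_of_B' B hB R hR _ ?_
    intro W j hj Y f hY
    obtain ⟨ξ, hξ⟩ := hloc j hj
    obtain ⟨g, hg⟩ := theta_surj F t B h1 hZ θ hθ Y hY (S.map (Pmap O f) ≫ ξ)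
    refine ⟨evalGen O Y _ g, ?_⟩
    change (((T O).map (Φ θ)).hom.app (op Y)).hom (evalGen O Y _ g) =
      (((T O).obj (H.obj Z)).obj.map (f ≫ j).op).hom s
    rw [← evalGen_comp, ← Φ_precomp, hg, ← ηU_apply, ηU_res, hξ, op_comp, Functor.map_comp]
    rfl

include hB h1 hZ hθ in
lemma isIso_psi : IsIso (Φ θ) := by
  have h0 : IsIso ((T O).map (Φ θ)) := by
    refine (Sheaf.isLocallyBijective_iff_isIso ((T O).map (Φ θ))).1
      ⟨?_, psi_locallySurjective F t B hB h1 hZ θ hθ⟩
    apply Presheaf.isLocallyInjective_of_injective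
    intro V
    induction V using Opposite.rec with | _ V => ?_
    exact psi_injective F t θ hθ V
  exact isIso_of_reflects_iso _ (T O)

include hB h1 hZ hθ in
lemma isIso_H_map_theta : IsIso (H.map θ) := by
  have h0 := isIso_psi F t B hB h1 hZ θ hθ
  have h3 : H.map θ = (singleFunctorCompHomologyFunctorIso _ 0).hom.app (Flim F t) ≫ Φ θ := by
    dsimp only [Φ]
    rw [← Category.assoc]
    erw [Iso.hom_inv_id_app]
    exact (Category.id_comp _).symm
  rw [h3]
  infer_instance

include hB h1 h2 hZ hθ in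
lemma isIso_theta : IsIso θ := by
  rw [DerivedCategory.isIso_iff]
  intro n
  by_cases hn : n = 0
  · subst hn
    exact isIso_H_map_theta F t B hB h1 hZ θ hθ
  · have hs : IsZero ((DerivedCategory.homologyFunctor _ n).obj (S.obj (Flim F t))) := by
      rcases lt_or_gt_of_ne hn with hn | hn
      · exact DerivedCategory.isZero_of_isGE _ 0 n hn
      · exact DerivedCategory.isZero_of_isLE _ 0 n hn
    have ht := isZero_homology F t B hB h1 h2 hZ n hn
    exact ⟨⟨0, hs.eq_of_src _ _, ht.eq_of_src _ _⟩⟩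

end Main2

/-- **Derived limit of a tower of modules** with vanishing higher cohomology and vanishing
`lim^1` of sections over a basis. -/
theorem main (F : ℕ → Mod O) (t : ∀ n, F (n + 1) ⟶ F n)
    [HasProduct fun n => (DerivedCategory.singleFunctor (Mod O) 0).obj (F n)]
    (B : Set C)
    (hB : ∀ U : C, ∃ (ι : Type u) (Y : ι → C) (f : ∀ i, Y i ⟶ U),
      Sieve.ofArrows Y f ∈ J U ∧ ∀ i, Y i ∈ B)
    (h1 : ∀ U ∈ B, ∀ (p n : ℕ), Subsingleton (ModSite.HU O (F n) (p + 1) U))
    (h2 : ∀ U ∈ B, CohCx.LimOneIsZero (fun n => (toAb (F n)).obj.obj (op U))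
      (fun n => (((T O).map (t n)).hom.app (op U)).hom)) :
    DCoh.IsRlim (fun n => (DerivedCategory.singleFunctor _ 0).obj (F n))
      (fun n => (DerivedCategory.singleFunctor _ 0).map (t n))
      ((DerivedCategory.singleFunctor _ 0).obj (limit (CohCx.opSequence F t))) := by
  obtain ⟨Z, a, hZ⟩ := Groth.Agent.Lib.Helper68.DerLimSh.exists_rlim (KM F) (tM F t)
  obtain ⟨θ, hθ⟩ := exists_theta F t hZ
  have hiso := isIso_theta F t B hB h1 h2 hZ θ hθ
  exact Groth.Agent.Lib.Helper68.DerLimSh.isRlim_of_iso a hZ (asIso θ)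

end Groth.Agent.Lib.Helper34.ModDerLim
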