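import Groth.Agent.Lib.Helper19.CechModExt
import Groth.Agent.Lib.Helper19.CechPushHU
import Groth.Prelude.Def_FreeSh
import Groth.Prelude.Def_ModSite

/-!
# The free `O`-module on an object of a ringed site

`P O U` is the free `O`-module on (the sheafification of) the representable presheaf of `U`.
Maps `P O U ⟶ M` are sections of `M` over `U` (`evalGen`, `ofSect`), naturally in `M` and `U`;
epimorphisms onto `P O U` locally admit sections; `Ext^k(P O U, F) = 0` as soon as `H^k(U, F) = 0`.
-/

set_option autoImplicit false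
universe u
open CategoryTheory CategoryTheory.Limits Opposite

namespace Groth.Agent.Lib.Helper34.ModFree

open ModSite Groth.Agent.Lib.Helper19.CechMod Groth.Agent.Lib.Helper19.CechHom
  Groth.Agent.Lib.Helper19.CechModExt

variable {C : Type u} [SmallCategory C] {J : GrothendieckTopology C} (O : Sheaf J CommRingCat.{u})

/-- the sheafified representable sheaf of sets. -/
noncomputable abbrev KU (J : GrothendieckTopology C) (U : C) : Sheaf J (Type u) :=
  (presheafToSheaf J (Type u)).obj (yoneda.obj U)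

noncomputable abbrev KUmap (J : GrothendieckTopology C) {U V : C} (f : V ⟶ U) : KU J V ⟶ KU J U :=
  (presheafToSheaf J (Type u)).map (yoneda.map f)

/-- the free `O`-module on `U`. -/
noncomputable def P (U : C) : Mod O := (GO (ringSh O)).obj (KU J U)

noncomputable def Pmap {U V : C} (f : V ⟶ U) : P O V ⟶ P O U := (GO (ringSh O)).map (KUmap J f)

/-- the comparison `ℤ_U ⟶ P_U`. -/
noncomputable def c (U : C) : CohCx.freeSheaf J U ⟶ toAb (P O U) :=
  (Groth.Agent.Lib.Helper19.CechPushHU.freeSheafIso J U).hom ≫ (cmp (ringSh O)).app (KU J U)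

lemma freeSheafIso_naturality {U V : C} (f : V ⟶ U) :
    CohCx.freeSheafMap J f ≫ (Groth.Agent.Lib.Helper19.CechPushHU.freeSheafIso J U).hom =
      (Groth.Agent.Lib.Helper19.CechPushHU.freeSheafIso J V).hom ≫ (G J).map (KUmap J f) :=
  (presheafToSheafCompComposeAndSheafifyIso J AddCommGrpCat.free.{u}).inv.naturality (yoneda.map f)

lemma c_naturality {U V : C} (f : V ⟶ U) :
    CohCx.freeSheafMap J f ≫ c O U =
      c O V ≫ (SheafOfModules.toSheaf (ringSh O)).map (Pmap O f) := by
  unfold c
  rw [← Category.assoc, freeSheafIso_naturality, Category.assoc, Category.assoc]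
  congr 1
  exact (cmp (ringSh O)).naturality (KUmap J f)

/-- precomposition with `c`, as an additive map. -/
noncomputable def cHom (U : C) (M : Mod O) : (P O U ⟶ M) →+ (CohCx.freeSheaf J U ⟶ toAb M) :=
  AddMonoidHom.mk' (fun φ => c O U ≫ (SheafOfModules.toSheaf (ringSh O)).map φ)
    (fun a b => by rw [Functor.map_add, Preadditive.comp_add])

lemma cHom_bijective (U : C) (M : Mod O) : Function.Bijective (cHom O U M) := by
  have h1 := cmp_bijective (ringSh O) (KU J U) M
  have h2 : Function.Bijective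
      (fun ψ : (G J).obj (KU J U) ⟶ toAb M =>
        (Groth.Agent.Lib.Helper19.CechPushHU.freeSheafIso J U).hom ≫ ψ) :=
    ⟨fun a b h => (cancel_epi _).1 h,
      fun y => ⟨(Groth.Agent.Lib.Helper19.CechPushHU.freeSheafIso J U).inv ≫ y, by simp⟩⟩
  have h3 : Function.Bijective ((fun ψ : (G J).obj (KU J U) ⟶ toAb M =>
        (Groth.Agent.Lib.Helper19.CechPushHU.freeSheafIso J U).hom ≫ ψ) ∘
      (fun φ : (GO (ringSh O)).obj (KU J U) ⟶ M =>
        (cmp (ringSh O)).app (KU J U) ≫ (SheafOfModules.toSheaf (ringSh O)).map φ)) := h2.comp h1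
  have e : (cHom O U M : (P O U ⟶ M) → _) = ((fun ψ : (G J).obj (KU J U) ⟶ toAb M =>
        (Groth.Agent.Lib.Helper19.CechPushHU.freeSheafIso J U).hom ≫ ψ) ∘
      (fun φ : (GO (ringSh O)).obj (KU J U) ⟶ M =>
        (cmp (ringSh O)).app (KU J U) ≫ (SheafOfModules.toSheaf (ringSh O)).map φ)) := by
    funext φ
    exact Category.assoc (Groth.Agent.Lib.Helper19.CechPushHU.freeSheafIso J U).hom
      ((cmp (ringSh O)).app (KU J U)) ((SheafOfModules.toSheaf (ringSh O)).map φ)
  rw [e]
  exact h3

/-- evaluation at the canonical section. -/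
noncomputable def evalGen (U : C) (M : Mod O) : (P O U ⟶ M) →+ (toAb M).obj.obj (op U) :=
  (CohFree.evalGen J U (toAb M)).comp (cHom O U M)

lemma evalGen_bijective (U : C) (M : Mod O) : Function.Bijective (evalGen O U M) :=
  (CohFree.homEquivSect J U (toAb M)).bijective.comp (cHom_bijective O U M)

/-- maps out of `P_U` are sections over `U`. -/
noncomputable def homEquivSect (U : C) (M : Mod O) : (P O U ⟶ M) ≃+ (toAb M).obj.obj (op U) :=
  AddEquiv.ofBijective (evalGen O U M) (evalGen_bijective O U M)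

noncomputable def ofSect (U : C) (M : Mod O) (s : (toAb M).obj.obj (op U)) : P O U ⟶ M :=
  (homEquivSect O U M).symm s

@[simp] lemma evalGen_ofSect (U : C) (M : Mod O) (s : (toAb M).obj.obj (op U)) :
    evalGen O U M (ofSect O U M s) = s :=
  (homEquivSect O U M).apply_symm_apply s

@[simp] lemma ofSect_evalGen (U : C) (M : Mod O) (φ : P O U ⟶ M) :
    ofSect O U M (evalGen O U M φ) = φ :=
  (homEquivSect O U M).symm_apply_apply φ

lemma evalGen_comp (U : C) {M M' : Mod O} (φ : P O U ⟶ M) (g : M ⟶ M') :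
    evalGen O U M' (φ ≫ g) =
      (((SheafOfModules.toSheaf (ringSh O)).map g).hom.app (op U)).hom (evalGen O U M φ) := by
  change CohFree.evalGen J U (toAb M') (c O U ≫ (SheafOfModules.toSheaf (ringSh O)).map (φ ≫ g)) =
    _
  rw [Functor.map_comp, ← Category.assoc]
  rfl

lemma evalGen_Pmap_comp {U V : C} (f : V ⟶ U) (M : Mod O) (φ : P O U ⟶ M) :
    evalGen O V M (Pmap O f ≫ φ) = ((toAb M).obj.map f.op).hom (evalGen O U M φ) := by
  change CohFree.evalGen J V (toAb M)
      (c O V ≫ (SheafOfModules.toSheaf (ringSh O)).map (Pmap O f ≫ φ)) =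
    ((toAb M).obj.map f.op).hom (CohFree.evalGen J U (toAb M)
      (c O U ≫ (SheafOfModules.toSheaf (ringSh O)).map φ))
  rw [Functor.map_comp, ← Category.assoc, ← c_naturality, Category.assoc,
    CohFree.evalGen_freeSheafMap_comp]

/-- the canonical section of `P_U` over `U`. -/
noncomputable def gen (U : C) : (toAb (P O U)).obj.obj (op U) := evalGen O U (P O U) (𝟙 _)

lemma evalGen_eq (U : C) (M : Mod O) (φ : P O U ⟶ M) :
    evalGen O U M φ =
      (((SheafOfModules.toSheaf (ringSh O)).map φ).hom.app (op U)).hom (gen O U) := by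
  have := evalGen_comp O U (𝟙 (P O U)) φ
  rwa [Category.id_comp] at this

lemma Pmap_gen {U V : C} (f : V ⟶ U) :
    evalGen O V (P O U) (Pmap O f) = ((toAb (P O U)).obj.map f.op).hom (gen O U) := by
  have := evalGen_Pmap_comp O f (P O U) (𝟙 _)
  rwa [Category.comp_id] at this

/-- epimorphisms onto `P_U` locally admit sections. -/
lemma exists_cover_lift {U : C} {A' : Mod O} (π : A' ⟶ P O U) [Epi π] :
    ∃ R ∈ J U, ∀ ⦃V : C⦄ (j : V ⟶ U), R j → ∃ u : P O V ⟶ A', u ≫ π = Pmap O j := by
  haveI := Groth.Agent.Lib.Helper94.ModSiteBasic.toSheaf_preservesFiniteColimits (ringSh O)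
  have hepi : Epi ((SheafOfModules.toSheaf (ringSh O)).map π) := inferInstance
  have : Sheaf.IsLocallySurjective ((SheafOfModules.toSheaf (ringSh O)).map π) :=
    (Sheaf.isLocallySurjective_iff_epi' _ _).2 hepi
  refine ⟨Presheaf.imageSieve ((SheafOfModules.toSheaf (ringSh O)).map π).hom (gen O U),
    Presheaf.imageSieve_mem J _ _, ?_⟩
  rintro V j ⟨t, ht⟩
  refine ⟨ofSect O V A' t, ?_⟩
  apply (evalGen_bijective O V (P O U)).1
  rw [evalGen_comp, evalGen_ofSect, Pmap_gen]
  exact ht

section Ext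

variable [HasExt.{u} (Mod O)]

open Abelian

/-- vanishing of `H^k(U, F)` gives vanishing of `Ext^k(P_U, F)`. -/
lemma subsingleton_ext_of_HU (U : C) (F : Mod O) (k : ℕ) (h : Subsingleton (ModSite.HU O F k U)) :
    Subsingleton (Ext.{u} (P O U) F k) := by
  obtain ⟨e⟩ := ext_GO_equiv (ringSh O) (KU J U) F k
  have h1 : Subsingleton (Ext.{u} (CohCx.freeSheaf J U) (toAb F) k) := h
  have h2 : Subsingleton (CohCx.HK (KU J U) (toAb F) k) := by
    let i := Groth.Agent.Lib.Helper19.CechPushHU.freeSheafIso J U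
    refine ⟨fun x y => ?_⟩
    have hx : (Ext.mk₀ i.hom).comp x (zero_add k) = (Ext.mk₀ i.hom).comp y (zero_add k) :=
      h1.elim _ _
    have := congrArg (fun z => (Ext.mk₀ i.inv).comp z (zero_add k)) hx
    simpa [← Ext.comp_assoc_of_second_deg_zero] using this
  exact e.toEquiv.subsingleton

end Ext

end Groth.Agent.Lib.Helper34.ModFree
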