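import Groth.Agent.Lib.Helper34.ModFree
import Groth.Agent.Lib.Helper68.HZeroLocal3
import Groth.Agent.Lib.Helper68.RlimInj

/-!
# Sections of cohomology sheaves of objects of `D(Mod O)` via maps out of free modules
(port of helper68's `HZeroSheaf` / `RlimInj2` to sheaves of modules on a ringed site)
-/

set_option autoImplicit false
universe w u
open CategoryTheory CategoryTheory.Limits Opposite

namespace Groth.Agent.Lib.Helper34.ModHZero

open ModSite Groth.Agent.Lib.Helper68.HZeroLocal Groth.Agent.Lib.Helper34.ModFree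

variable {C : Type u} [SmallCategory C] {J : GrothendieckTopology C} (O : Sheaf J CommRingCat.{u})
  [HasDerivedCategory.{w} (Mod O)]

/-- the forgetful functor to abelian sheaves. -/
noncomputable abbrev T : Mod O ⥤ Sheaf J AddCommGrpCat.{u} := SheafOfModules.toSheaf (ringSh O)

variable {O}

/-- `Φ` as an additive map -/
noncomputable def ΦHom (A : Mod O) (L : DerivedCategory (Mod O)) :
    (S.obj A ⟶ L) →+ (A ⟶ H.obj L) :=
  AddMonoidHom.mk' Φ Φ_add

/-- the comparison map on sections -/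
noncomputable def ηU (L : DerivedCategory (Mod O)) (U : C) :
    (S.obj (P O U) ⟶ L) →+ ((T O).obj (H.obj L)).obj.obj (op U) :=
  (evalGen O U (H.obj L)).comp (ΦHom (P O U) L)

lemma ηU_apply (L : DerivedCategory (Mod O)) (U : C) (ξ : S.obj (P O U) ⟶ L) :
    ηU L U ξ = evalGen O U (H.obj L) (Φ ξ) := rfl

lemma ηU_res (L : DerivedCategory (Mod O)) {U V : C} (f : V ⟶ U) (ξ : S.obj (P O U) ⟶ L) :
    ηU L V (S.map (Pmap O f) ≫ ξ) = (((T O).obj (H.obj L)).obj.map f.op).hom (ηU L U ξ) := by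
  rw [ηU_apply, ηU_apply, Φ_precomp, evalGen_Pmap_comp]

lemma ηU_comp {L' K' : DerivedCategory (Mod O)} (α : L' ⟶ K') (W : C)
    (ξ : S.obj (P O W) ⟶ L') :
    ηU K' W (ξ ≫ α) = (((T O).map (H.map α)).hom.app (op W)).hom (ηU L' W ξ) := by
  rw [ηU_apply, ηU_apply, Φ_comp, evalGen_comp]

lemma locInj_aux (L : DerivedCategory (Mod O)) (U : C)
    (ξ₁ ξ₂ : S.obj (P O U) ⟶ L) (h : ηU L U ξ₁ = ηU L U ξ₂) :
    ∃ R ∈ J U, ∀ ⦃V : C⦄ (j : V ⟶ U), R j →
      S.map (Pmap O j) ≫ ξ₁ = S.map (Pmap O j) ≫ ξ₂ := by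
  have h0 : ηU L U (ξ₁ - ξ₂) = 0 := by
    rw [map_sub, sub_eq_zero]
    exact h
  have h1 : Φ (ξ₁ - ξ₂) = 0 := by
    apply (evalGen_bijective O U _).1
    rw [map_zero]
    exact h0
  obtain ⟨A', π, hπ, hz⟩ := exists_refinement_inj L (ξ₁ - ξ₂) h1
  obtain ⟨R, hR, hlift⟩ := exists_cover_lift O π
  refine ⟨R, hR, ?_⟩
  intro V j hj
  obtain ⟨u, hu⟩ := hlift j hj
  rw [← sub_eq_zero, ← Preadditive.comp_sub, ← hu,
    Functor.map_comp, Category.assoc, hz, comp_zero]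

lemma locSurj_aux (L : DerivedCategory (Mod O)) (U : C)
    (s : ((T O).obj (H.obj L)).obj.obj (op U)) :
    ∃ R ∈ J U, ∀ ⦃V : C⦄ (j : V ⟶ U), R j →
      ∃ ξ : S.obj (P O V) ⟶ L, ηU L V ξ = (((T O).obj (H.obj L)).obj.map j.op).hom s := by
  obtain ⟨A', π, hπ, ξ, hξ⟩ := exists_refinement_surj L (ofSect O U (H.obj L) s)
  obtain ⟨R, hR, hlift⟩ := exists_cover_lift O π
  refine ⟨R, hR, ?_⟩
  intro V j hj
  obtain ⟨u, hu⟩ := hlift j hj
  refine ⟨S.map u ≫ ξ, ?_⟩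
  rw [ηU_apply, Φ_precomp, hξ, ← Category.assoc, hu, evalGen_Pmap_comp, evalGen_ofSect]

lemma exists_local_lift {L' K' : DerivedCategory (Mod O)} (α : L' ⟶ K')
    (V : C) (s : ((T O).obj (H.obj L')).obj.obj (op V))
    (hs : (((T O).map (H.map α)).hom.app (op V)).hom s = 0) :
    ∃ T' ∈ J V, ∀ ⦃W : C⦄ (g : W ⟶ V), T' g →
      ∃ ξ : S.obj (P O W) ⟶ L',
        ηU L' W ξ = (((T O).obj (H.obj L')).obj.map g.op).hom s ∧ ξ ≫ α = 0 := by
  obtain ⟨R₁, hR₁, h₁⟩ := locSurj_aux L' V s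
  have key : ∀ ⦃W : C⦄ (j : W ⟶ V), R₁ j →
      ∃ (ξ : S.obj (P O W) ⟶ L') (R : Sieve W), R ∈ J W ∧
        ηU L' W ξ = (((T O).obj (H.obj L')).obj.map j.op).hom s ∧
        ∀ ⦃W' : C⦄ (k : W' ⟶ W), R k → S.map (Pmap O k) ≫ ξ ≫ α = 0 := by
    intro W j hj
    obtain ⟨ξ, hξ⟩ := h₁ j hj
    have h0 : ηU K' W (ξ ≫ α) = ηU K' W 0 := by
      rw [ηU_comp, map_zero]
      rw [hξ]
      have h2 := ConcreteCategory.congr_hom (((T O).map (H.map α)).hom.naturality j.op) s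
      rw [ConcreteCategory.comp_apply, ConcreteCategory.comp_apply] at h2
      refine Eq.trans h2 ?_
      erw [hs]
      exact map_zero _
    obtain ⟨R, hR, hR'⟩ := locInj_aux K' W (ξ ≫ α) 0 h0
    refine ⟨ξ, R, hR, hξ, ?_⟩
    intro W' k hk
    rw [hR' k hk, comp_zero]
  choose ξ R hR hξ hRz using key
  refine ⟨Sieve.bind R₁ (fun W j hj => R j hj),
    J.bind_covering hR₁ (fun W j hj => hR j hj), ?_⟩
  rintro W g ⟨W₁, k, j, hj, hk, rfl⟩
  refine ⟨S.map (Pmap O k) ≫ ξ j hj, ?_, ?_⟩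
  · rw [ηU_res, hξ j hj, op_comp, Functor.map_comp]
    rfl
  · rw [Category.assoc]
    exact hRz j hj k hk

section Main

open Groth.Agent.Lib.Helper68.RlimInj

variable (K : ℕ → DerivedCategory (Mod O)) (t : ∀ n, K (n + 1) ⟶ K n)
  [HasProduct K] (L : DerivedCategory (Mod O)) (a : ∀ n, L ⟶ K n)
  (hL : CohCx.IsRlimVia K t L a) (m : ℤ) (nV : ℕ)

/-- the good objects -/
def Good (W : C) : Prop :=
  CohCx.LimOneIsZero (fun n => (S.obj (P O W) ⟶ (K n)⟦m - 1⟧))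
      (fun n => Preadditive.rightComp _ ((shiftFunctor _ (m - 1)).map (t n))) ∧
    ∀ k : ℕ, Function.Injective
      (Preadditive.rightComp (S.obj (P O W))
        ((shiftFunctor _ m).map (CohCx.transition K t nV k)))

include hL in
lemma eq_zero_of_good (W : C) (hW : Good K t m nV W)
    (ξ : S.obj (P O W) ⟶ L⟦m⟧) (hξ : ξ ≫ (a nV)⟦m⟧' = 0) : ξ = 0 :=
  eq_zero_of_comp_eq_zero K t L a hL _ m nV hW.1 hW.2 ξ hξ

include hL in
theorem injective_H0 (V : C)
    (h : ∀ T' ∈ J V, ∃ (ι : Type u) (Y : ι → C) (f : ∀ i, Y i ⟶ V), (∀ i, T'.arrows (f i)) ∧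
      Sieve.ofArrows Y f ∈ J V ∧ ∀ i, Good K t m nV (Y i)) :
    Function.Injective (((T O).map (H.map ((a nV)⟦m⟧'))).hom.app (op V)) := by
  rw [injective_iff_map_eq_zero]
  intro s hs
  obtain ⟨T', hT, hT'⟩ := exists_local_lift ((a nV)⟦m⟧') V s hs
  obtain ⟨ι, Yc, f, hf, hcov, hgood⟩ := h T' hT
  have hsep : Presieve.IsSeparated J (((T O).obj (H.obj (L⟦m⟧))).obj ⋙ forget _) := by
    apply Presieve.IsSheaf.isSeparated
    rw [← isSheaf_iff_isSheaf_of_type]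
    exact ((sheafCompose J (forget AddCommGrpCat.{u})).obj ((T O).obj (H.obj (L⟦m⟧)))).2
  refine (hsep _ hcov).ext ?_
  intro W g hg
  obtain ⟨W', k, g', hg', rfl⟩ := hg
  obtain ⟨i⟩ := hg'
  obtain ⟨ξ, hξ, hξ0⟩ := hT' (f i) (hf i)
  have h0 : ξ = 0 := eq_zero_of_good K t L a hL m nV (Yc i) (hgood i) ξ hξ0
  have h1 : (((T O).obj (H.obj (L⟦m⟧))).obj.map (f i).op).hom s = 0 := by
    rw [← hξ, h0, map_zero]
  change (((T O).obj (H.obj (L⟦m⟧))).obj.map (k ≫ f i).op).hom s =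
    (((T O).obj (H.obj (L⟦m⟧))).obj.map (k ≫ f i).op).hom 0
  rw [map_zero, op_comp, Functor.map_comp]
  change (((T O).obj (H.obj (L⟦m⟧))).obj.map k.op).hom
    ((((T O).obj (H.obj (L⟦m⟧))).obj.map (f i).op).hom s) = 0
  rw [h1, map_zero]

include hL in
theorem injective_Hm (V : C)
    (h : ∀ T' ∈ J V, ∃ (ι : Type u) (Y : ι → C) (f : ∀ i, Y i ⟶ V), (∀ i, T'.arrows (f i)) ∧
      Sieve.ofArrows Y f ∈ J V ∧ ∀ i, Good K t m nV (Y i)) :
    Function.Injective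
      (((T O).map ((DerivedCategory.homologyFunctor _ m).map (a nV))).hom.app (op V)) := by
  have h0 := injective_H0 K t L a hL m nV V h
  let ev : Mod O ⥤ AddCommGrpCat.{u} :=
    T O ⋙ sheafToPresheaf J _ ⋙ (evaluation _ _).obj (op V)
  let e := (DerivedCategory.homologyFunctor (Mod O) 0).shiftIso m 0 m (add_zero m)
  let eL : H.obj (L⟦m⟧) ≅ (DerivedCategory.homologyFunctor _ m).obj L := e.app L
  let eK : H.obj ((K nV)⟦m⟧) ≅ (DerivedCategory.homologyFunctor _ m).obj (K nV) := e.app (K nV)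
  have hnat : H.map ((a nV)⟦m⟧') ≫ eK.hom =
      eL.hom ≫ (DerivedCategory.homologyFunctor _ m).map (a nV) := e.hom.naturality (a nV)
  have h2 : Mono (ev.map (H.map ((a nV)⟦m⟧'))) :=
    (AddCommGrpCat.mono_iff_injective _).2 h0
  have h4 : ev.map eL.hom ≫ ev.map ((DerivedCategory.homologyFunctor _ m).map (a nV)) =
      ev.map (H.map ((a nV)⟦m⟧')) ≫ ev.map eK.hom := by
    rw [← ev.map_comp, ← ev.map_comp, hnat]
  have h5 : Mono (ev.map eL.hom ≫ ev.map ((DerivedCategory.homologyFunctor _ m).map (a nV))) := by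
    rw [h4]
    infer_instance
  have h6 : Mono (ev.map ((DerivedCategory.homologyFunctor _ m).map (a nV))) := by
    have h7 : ev.map ((DerivedCategory.homologyFunctor _ m).map (a nV)) =
        ev.map eL.inv ≫ (ev.map eL.hom ≫
          ev.map ((DerivedCategory.homologyFunctor _ m).map (a nV))) := by
      rw [← Category.assoc, ← ev.map_comp, eL.inv_hom_id, ev.map_id, Category.id_comp]
    rw [h7]
    infer_instance
  exact (AddCommGrpCat.mono_iff_injective _).1 h6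

end Main

end Groth.Agent.Lib.Helper34.ModHZero
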