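import Groth.Agent.Lib.Helper34.ModPushFinal
import Groth.Agent.S0865
import Groth.Agent.S6162
import Groth.Agent.Lib.Cohomology.Helper3_RDerComp
import Groth.Agent.Lib.Helper19.SSVanish
import Groth.Agent.Lib.Helper19.PushCocont

/-!
# Leray vanishing for sheaves of modules on ringed sites
-/

set_option autoImplicit false
universe w w' u
open CategoryTheory Limits Opposite

namespace Groth.Agent.Lib.Helper34.ModLeray

open ModSite SiteCmp Groth.Agent.Lib.Helper34.ModHZero Groth.Agent.Lib.Cohomology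

lemma ext_subsingleton_of_isZero {𝒜 : Type*} [Category 𝒜] [Abelian 𝒜] [HasExt.{u} 𝒜]
    {A B : 𝒜} (hB : IsZero B) (n : ℕ) : Subsingleton (Abelian.Ext.{u} A B n) := by
  refine subsingleton_of_forall_eq 0 fun x => ?_
  have h : x = x.comp (Abelian.Ext.mk₀ (𝟙 B)) (add_zero n) := (Abelian.Ext.comp_mk₀_id x).symm
  rw [h, hB.eq_of_src (𝟙 B) 0, Abelian.Ext.mk₀_zero, Abelian.Ext.comp_zero]

variable {C : Type u} [SmallCategory C] {J : GrothendieckTopology C} {O_C : Sheaf J CommRingCat.{u}}
  {D : Type u} [SmallCategory D] {K : GrothendieckTopology D} {O_D : Sheaf K CommRingCat.{u}}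
  (f : RMor O_C O_D) [HasInjectiveResolutions (Mod O_C)]

/-- the higher direct images of modules and of the underlying abelian sheaves agree. -/
theorem nonempty_toAb_Rpush_iso (F : Mod O_C) (q : ℕ) :
    Nonempty ((CohSite.Rpush J K f.fn q).obj ((T O_C).obj F) ≅
      (T O_D).obj ((f.Rpush q).obj F)) := by
  haveI : EnoughInjectives (Mod O_C) := Groth.Agent.S0485.result J (ringSh O_C)
  haveI := Groth.Agent.Lib.Helper94.ModSiteBasic.toSheaf_preservesFiniteColimits (ringSh O_C)
  haveI := Groth.Agent.Lib.Helper94.ModSiteBasic.toSheaf_preservesFiniteColimits (ringSh O_D)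
  haveI : PreservesLimitsOfSize.{0, 0} f.push := f.adj.rightAdjoint_preservesLimits
  have hacyc : ∀ (n : ℕ) (I : Mod O_C), Injective I →
      IsZero (((CohSite.push J K f.fn).rightDerived (n + 1)).obj ((T O_C).obj I)) := by
    intro n I hI
    exact Groth.Agent.S0865.result J K f.fn _
      (Groth.Agent.Lib.Helper19.CechMod.isTotallyAcyclic_toSheaf_of_injective (ringSh O_C) I) n
  obtain ⟨e1⟩ := RDerComp.nonempty_rightDerived_comp_iso (T O_C) (CohSite.push J K f.fn) hacyc q
  obtain ⟨e2⟩ := RDerComp.nonempty_rightDerived_post_iso f.push (T O_D) q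
  exact ⟨(e1.app F).symm ≪≫ e2.app F⟩

/-- **Leray vanishing**: if `H^k(V', R^q f_* F) = 0` for `k > d` and `R^q f_* F = 0` for `q > N`
then `H^n(u V', F) = 0` for `n > d + N`. -/
theorem subsingleton_HU_of_leray (F : Mod O_C) (V' : D) (d N : ℕ)
    (h1 : ∀ q k : ℕ, d < k → Subsingleton (HU O_D ((f.Rpush q).obj F) k V'))
    (h2 : ∀ q : ℕ, N < q → IsZero ((f.Rpush q).obj F))
    (n : ℕ) (hn : d + N < n) : Subsingleton (HU O_C F n (f.fn.obj V')) := by
  obtain ⟨E, a, hfin, -, hE⟩ := Groth.Agent.S6162.result J K f.fn ((T O_C).obj F) V'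
  have h := Groth.Agent.Lib.Helper19.SSVanish.isZero_abutment_of_isZero_E2 E _ a (n : ℤ)
    (hfin n) (by
    intro p
    obtain ⟨e⟩ := hE p ((n : ℤ) - p)
    refine IsZero.of_iso ?_ e
    by_cases hpq : 0 ≤ p ∧ 0 ≤ (n : ℤ) - p
    · rw [if_pos hpq]
      obtain ⟨e'⟩ := nonempty_toAb_Rpush_iso f F ((n : ℤ) - p).toNat
      have hs : Subsingleton (CohSite.HU ((T O_D).obj ((f.Rpush ((n : ℤ) - p).toNat).obj F))
          p.toNat V') := by
        by_cases hp : (d : ℤ) < p
        · exact h1 _ _ (by omega)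
        · have hz : IsZero ((f.Rpush ((n : ℤ) - p).toNat).obj F) := h2 _ (by omega)
          have hz' : IsZero ((T O_D).obj ((f.Rpush ((n : ℤ) - p).toNat).obj F)) :=
            (T O_D).map_isZero hz
          exact ext_subsingleton_of_isZero hz' _
      have hs' : Subsingleton (CohSite.HU ((CohSite.Rpush J K f.fn ((n : ℤ) - p).toNat).obj
          ((T O_C).obj F)) p.toNat V') :=
        Groth.Agent.Lib.Helper19.PushCocont.ext_subsingleton_of_iso e' _ hs
      exact @AddCommGrpCat.isZero_of_subsingleton _ hs'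
    · rw [if_neg hpq]
      exact AddCommGrpCat.isZero_of_subsingleton _)
  have e : (if 0 ≤ (n : ℤ) then AddCommGrpCat.of
      (CohSite.HU ((T O_C).obj F) (n : ℤ).toNat (f.fn.obj V'))
      else AddCommGrpCat.of PUnit.{u + 1}) =
      AddCommGrpCat.of (CohSite.HU ((T O_C).obj F) n (f.fn.obj V')) := by
    rw [if_pos (Int.natCast_nonneg n), Int.toNat_natCast]
  rw [e] at h
  exact AddCommGrpCat.subsingleton_of_isZero h

end Groth.Agent.Lib.Helper34.ModLeray
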