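import Mathlib
import Groth.Prelude.Def_CxOX
import Groth.Prelude.Def_LocCohZ
import Groth.Agent.Lib.Helper19.SiteLocCoh
import Groth.Agent.Lib.Helper4.ExtZeroExact
import Groth.Agent.S0485
import Groth.Agent.Lib.Cohomology.Helper3_RDerFunSES
import Groth.Agent.Lib.Cohomology.Helper3_RDerComp
import Groth.Agent.Lib.Cohomology.Helper3_LocCohSh

/-!
# Local cohomology sheaves of `O`-modules on a scheme along an open immersion (helper34)

* `exists_leftAdjoint_restrict j` : `restrictFunctor j` has a mono-preserving left adjoint whose counit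
  is a monomorphism;
* `injective_restrict`, `epi_unit_of_injective`;
* `T j` : the sequence `0 ⟶ Γ_Z ⟶ 𝟭 ⟶ j_* j^*` exact on injectives;
* `nonempty_HZshM_succ_iso`, `nonempty_coker_iso`, `nonempty_HZshM_zero_iso`.
-/

set_option autoImplicit false
universe u
open CategoryTheory CategoryTheory.Limits Opposite AlgebraicGeometry

namespace Groth.Agent.Lib.Helper34.ModLocCoh

section Abstract

variable {A B : Type*} [Category A] [Category B]

lemma mono_counit_of_leftAdjointUniq {L L' : B ⥤ A} {F : A ⥤ B} (adj : L ⊣ F) (adj' : L' ⊣ F)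
    (M : A) (h : Mono (adj'.counit.app M)) : Mono (adj.counit.app M) := by
  rw [← Adjunction.leftAdjointUniq_hom_app_counit adj adj' M]
  exact mono_comp _ _

lemma ofNatIsoRight_counit_app {L : B ⥤ A} {F F' : A ⥤ B} (adj : L ⊣ F) (iso : F ≅ F') (M : A) :
    (adj.ofNatIsoRight iso).counit.app M = L.map (iso.inv.app M) ≫ adj.counit.app M := by
  simp

lemma mono_counit_ofNatIsoRight {L : B ⥤ A} {F F' : A ⥤ B} (adj : L ⊣ F) (iso : F ≅ F') (M : A)
    (h : Mono (adj.counit.app M)) : Mono ((adj.ofNatIsoRight iso).counit.app M) := by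
  rw [ofNatIsoRight_counit_app]
  exact mono_comp _ _

lemma mono_counit_comp_equiv {A' : Type*} [Category A'] (e : A' ≌ B) {L : A' ⥤ A} {F : A ⥤ A'}
    (adj : L ⊣ F) (M : A) (h : Mono (adj.counit.app M)) :
    Mono ((e.symm.toAdjunction.comp adj).counit.app M) := by
  rw [Adjunction.comp_counit_app]
  have h1 : IsIso (e.symm.toAdjunction.counit.app (F.obj M)) :=
    inferInstanceAs (IsIso (e.symm.counitIso.hom.app _))
  exact mono_comp _ _

end Abstract

section OpensCase

variable {X : Scheme.{u}} (V : X.Opens)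

/-- the site-level adjunction transported to `V.Modules` -/
noncomputable def siteAdj :
    (Scheme.Modules.overEquiv V).inverse ⋙ ModSite.extZero X.sheaf V ⊣
      Scheme.Modules.restrictFunctor V.ι :=
  (((Scheme.Modules.overEquiv V).symm.toAdjunction).comp (ModSite.extZeroAdj X.sheaf V)).ofNatIsoRight
    (Scheme.Modules.overFunctorEquiv V)

lemma mono_siteAdj_counit_app (M : X.Modules) : Mono ((siteAdj V).counit.app M) := by
  refine mono_counit_ofNatIsoRight _ _ M ?_
  exact mono_counit_comp_equiv (Scheme.Modules.overEquiv V) (ModSite.extZeroAdj X.sheaf V) M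
    (Groth.Agent.Lib.Helper19.SiteLocCoh.mono_extZeroAdj_counit_app X.sheaf V
      (fun W => inferInstance) M)

end OpensCase

section General

/-- restriction along an isomorphism of schemes is an equivalence -/
noncomputable def restrictEquiv {U V : Scheme.{u}} (e : U ≅ V) : V.Modules ≌ U.Modules :=
  CategoryTheory.Equivalence.mk (Scheme.Modules.restrictFunctor e.hom) (Scheme.Modules.restrictFunctor e.inv)
    (Scheme.Modules.restrictFunctorId.symm ≪≫
      Scheme.Modules.restrictFunctorCongr e.inv_hom_id.symm ≪≫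
      Scheme.Modules.restrictFunctorComp e.inv e.hom)
    ((Scheme.Modules.restrictFunctorComp e.hom e.inv).symm ≪≫
      Scheme.Modules.restrictFunctorCongr e.hom_inv_id ≪≫ Scheme.Modules.restrictFunctorId)

variable {U Y : Scheme.{u}} (j : U ⟶ Y) [IsOpenImmersion j]

theorem exists_leftAdjoint_restrict :
    ∃ (L : U.Modules ⥤ Y.Modules) (adj : L ⊣ Scheme.Modules.restrictFunctor j),
      L.PreservesMonomorphisms ∧ ∀ M, Mono (adj.counit.app M) := by
  let V := j.opensRange
  let e : U ≅ V := j.isoOpensRange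
  have he : e.hom ≫ V.ι = j := j.isoOpensRange_hom_ι
  let E := restrictEquiv e
  let iso : Scheme.Modules.restrictFunctor V.ι ⋙ E.symm.inverse ≅
      Scheme.Modules.restrictFunctor j :=
    (Scheme.Modules.restrictFunctorComp e.hom V.ι).symm ≪≫ Scheme.Modules.restrictFunctorCongr he
  refine ⟨E.inverse ⋙ CxOX.extZero V.ι,
    (E.symm.toAdjunction.comp (CxOX.extZeroAdj V.ι)).ofNatIsoRight iso, ?_, ?_⟩
  · have := Groth.Agent.Lib.Helper4.ExtZeroExact.preservesMonomorphisms_extZero Y V
    infer_instance
  · intro M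
    refine mono_counit_ofNatIsoRight _ _ M ?_
    refine mono_counit_comp_equiv E (CxOX.extZeroAdj V.ι) M ?_
    exact mono_counit_of_leftAdjointUniq (CxOX.extZeroAdj V.ι) (siteAdj V) M
      (mono_siteAdj_counit_app V M)

theorem injective_restrict (I : Y.Modules) [Injective I] :
    Injective ((Scheme.Modules.restrictFunctor j).obj I) := by
  obtain ⟨L, adj, hL, -⟩ := exists_leftAdjoint_restrict j
  exact Injective.injective_of_adjoint adj I

theorem epi_unit_of_injective (I : Y.Modules) [Injective I] :
    Epi ((Scheme.Modules.restrictAdjunction j).unit.app I) := by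
  obtain ⟨L, adj, -, hm⟩ := exists_leftAdjoint_restrict j
  have := hm ((Scheme.Modules.pushforward j).obj ((Scheme.Modules.restrictFunctor j).obj I))
  exact Groth.Agent.Lib.Helper19.SiteLocCoh.epi_unit_of_mono_counit adj
    (Scheme.Modules.restrictAdjunction j) I

end General

section LES

open Groth.Agent.Lib.Cohomology.RDerFunSES Groth.Agent.Lib.Cohomology

variable {U Y : Scheme.{u}} (j : U ⟶ Y) [IsOpenImmersion j]

instance : (Scheme.Modules.restrictFunctor j).Additive :=
  (Scheme.Modules.restrictAdjunction j).left_adjoint_additive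

instance : (Scheme.Modules.pushforward j).Additive :=
  (Scheme.Modules.restrictAdjunction j).right_adjoint_additive

instance push_preservesFiniteLimits : PreservesFiniteLimits (Scheme.Modules.pushforward j) := by
  have : PreservesLimitsOfSize.{0, 0} (Scheme.Modules.pushforward j) :=
    (Scheme.Modules.restrictAdjunction j).rightAdjoint_preservesLimits
  infer_instance

/-- `0 ⟶ Γ_Z ⟶ 𝟭 ⟶ j_* j^*`, exact on injectives -/
noncomputable def T : FunSES Y.Modules Y.Modules where
  F₁ := DCoh.gammaZ j
  F₂ := 𝟭 _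
  F₃ := Scheme.Modules.restrictFunctor j ⋙ Scheme.Modules.pushforward j
  α := CxOX.gammaZι j
  β := (Scheme.Modules.restrictAdjunction j).unit
  zero F := kernel.condition _
  exact I hI := by
    have : Epi ((Scheme.Modules.restrictAdjunction j).unit.app I) := epi_unit_of_injective j I
    refine ShortComplex.ShortExact.mk' ?_ (by dsimp [CxOX.gammaZι]; exact equalizer.ι_mono)
      (by dsimp; infer_instance)
    exact ShortComplex.exact_of_f_is_kernel _ (kernelIsKernel _)

instance enoughInjectives_modules (X : Scheme.{u}) : EnoughInjectives X.Modules :=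
  Groth.Agent.S0485.result _ X.ringCatSheaf

variable [HasInjectiveResolutions Y.Modules]

theorem isIso_δ_app (F : Y.Modules) (i : ℕ) (hi : 1 ≤ i) : IsIso (((T j).δ i).app F) := by
  obtain ⟨k, rfl⟩ : ∃ k, i = k + 1 := ⟨i - 1, by omega⟩
  have h0 : IsZero (((T j).F₂.rightDerived (k + 1)).obj F) :=
    LocCohSh.isZero_rightDerived_succ_of_exact (𝟭 Y.Modules) F k
  have h1 : IsZero (((T j).F₂.rightDerived (k + 1 + 1)).obj F) :=
    LocCohSh.isZero_rightDerived_succ_of_exact (𝟭 Y.Modules) F (k + 1)
  have hm : Mono (((T j).δ (k + 1)).app F) :=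
    ((T j).exact₃ F (k + 1)).mono_g (h0.eq_of_src _ _)
  have he : Epi (((T j).δ (k + 1)).app F) :=
    ((T j).exact₁ F (k + 1)).epi_f (h1.eq_of_tgt _ _)
  exact isIso_of_mono_of_epi _

theorem isZero_Rpush_restrict_injective [HasInjectiveResolutions U.Modules] (n : ℕ)
    (I : Y.Modules) (hI : Injective I) :
    IsZero (((Scheme.Modules.pushforward j).rightDerived (n + 1)).obj
      ((Scheme.Modules.restrictFunctor j).obj I)) := by
  have := injective_restrict j I
  exact Functor.isZero_rightDerived_obj_injective_succ _ _ _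

/-- `ℋ^{i+1}_Z ≅ R^i j_* ∘ j^*` for `i ≥ 1` -/
theorem nonempty_HZshM_succ_iso [HasInjectiveResolutions U.Modules] (i : ℕ) (hi : 1 ≤ i) :
    Nonempty (LocCohZ.HZshM j (i + 1) ≅ Scheme.Modules.restrictFunctor j ⋙ Coh.Rpush j i) := by
  have : ∀ F, IsIso (((T j).δ i).app F) := fun F => isIso_δ_app j F i hi
  have : IsIso ((T j).δ i) := NatIso.isIso_of_isIso_app _
  obtain ⟨e⟩ := RDerComp.nonempty_rightDerived_comp_iso (Scheme.Modules.restrictFunctor j)
    (Scheme.Modules.pushforward j) (isZero_Rpush_restrict_injective j) i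
  exact ⟨(asIso ((T j).δ i)).symm ≪≫ e⟩

/-- the map `j_* j^* ⟶ ℋ^1_Z` -/
noncomputable def π' : Scheme.Modules.restrictFunctor j ⋙ Scheme.Modules.pushforward j ⟶
    LocCohZ.HZshM j 1 :=
  (T j).F₃.toRightDerivedZero ≫ (T j).δ 0

lemma unit_π'_app (F : Y.Modules) :
    (Scheme.Modules.restrictAdjunction j).unit.app F ≫ (π' j).app F = 0 := by
  have h1 := toRightDerivedZero_naturality (T j).β F
  have h2 := (T j).β_δ_app F 0
  change (T j).β.app F ≫ (T j).F₃.toRightDerivedZero.app F ≫ ((T j).δ 0).app F = 0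
  rw [← Category.assoc, ← h1, Category.assoc, h2, comp_zero]

instance preservesFiniteLimits_F₃ : PreservesFiniteLimits (T j).F₃ := by
  change PreservesFiniteLimits (Scheme.Modules.restrictFunctor j ⋙ Scheme.Modules.pushforward j)
  infer_instance

instance preservesFiniteLimits_F₂ : PreservesFiniteLimits (T j).F₂ := by
  change PreservesFiniteLimits (𝟭 Y.Modules)
  infer_instance

instance epi_π'_app (F : Y.Modules) : Epi ((π' j).app F) := by
  have h1 : IsZero (((T j).F₂.rightDerived (0 + 1)).obj F) :=
    LocCohSh.isZero_rightDerived_succ_of_exact (𝟭 Y.Modules) F 0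
  have he : Epi (((T j).δ 0).app F) :=
    ((T j).exact₁ F 0).epi_f (h1.eq_of_tgt _ _)
  change Epi ((T j).F₃.toRightDerivedZero.app F ≫ ((T j).δ 0).app F)
  infer_instance

lemma exact_unit_π' (F : Y.Modules) :
    (ShortComplex.mk ((Scheme.Modules.restrictAdjunction j).unit.app F) ((π' j).app F)
      (unit_π'_app j F)).Exact := by
  have h := (T j).exact₃ F 0
  refine ShortComplex.exact_of_iso ?_ h
  refine ShortComplex.isoMk (asIso ((T j).F₂.toRightDerivedZero.app F)).symm
    (asIso ((T j).F₃.toRightDerivedZero.app F)).symm (Iso.refl _) ?_ ?_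
  · have hn := toRightDerivedZero_naturality (T j).β F
    have key : inv ((T j).F₂.toRightDerivedZero.app F) ≫ (T j).β.app F =
        (NatTrans.rightDerived (T j).β 0).app F ≫ inv ((T j).F₃.toRightDerivedZero.app F) := by
      rw [IsIso.inv_comp_eq, ← Category.assoc, IsIso.eq_comp_inv]
      exact hn.symm
    exact key
  · change inv ((T j).F₃.toRightDerivedZero.app F) ≫
      ((T j).F₃.toRightDerivedZero.app F ≫ ((T j).δ 0).app F) = ((T j).δ 0).app F ≫ 𝟙 _
    rw [IsIso.inv_hom_id_assoc, Category.comp_id]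

/-- `ℋ^1_Z F` is the cokernel of the unit `F ⟶ j_* j^* F` -/
theorem nonempty_coker_iso (F : Y.Modules) :
    Nonempty (cokernel ((Scheme.Modules.restrictAdjunction j).unit.app F) ≅
      (LocCohZ.HZshM j 1).obj F) :=
  ⟨IsColimit.coconePointUniqueUpToIso (colimit.isColimit _) (exact_unit_π' j F).gIsCokernel⟩

/-- `ℋ^0_Z F` is the kernel of the unit `F ⟶ j_* j^* F` -/
theorem nonempty_ker_iso (F : Y.Modules) :
    Nonempty ((LocCohZ.HZshM j 0).obj F ≅
      kernel ((Scheme.Modules.restrictAdjunction j).unit.app F)) := by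
  have hm := (T j).mono_α_zero F
  have hex := (T j).exact₂ F 0
  -- kernel of `R⁰β`
  let e1 : (LocCohZ.HZshM j 0).obj F ≅ kernel ((NatTrans.rightDerived (T j).β 0).app F) :=
    IsLimit.conePointUniqueUpToIso hex.fIsKernel (limit.isLimit _)
  have hn := toRightDerivedZero_naturality (T j).β F
  let e2 : kernel ((NatTrans.rightDerived (T j).β 0).app F) ≅ kernel ((T j).β.app F) :=
    (kernel.mapIso _ _ (asIso ((T j).F₂.toRightDerivedZero.app F))
      (asIso ((T j).F₃.toRightDerivedZero.app F)) hn.symm).symm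
  exact ⟨e1 ≪≫ e2⟩

end LES

end Groth.Agent.Lib.Helper34.ModLocCoh
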