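import Groth.Agent.Lib.Helper34.ModUnbdd
import Groth.Prelude.Def_SiteCmp

/-!
# Pullback of free modules along a morphism of ringed sites and
`H^p(V, F') = H^p(u V, f^* F')` for `F' ∈ A'`; variant of the unbounded equivalence (S9080).
-/

set_option autoImplicit false
universe w w' u
open CategoryTheory Limits Pretriangulated DerivedCategory Opposite

namespace Groth.Agent.Lib.Helper34.ModPullFree

open ModSite Groth.Agent.Lib.Helper34.ModFree Groth.Agent.Lib.Helper34.ModTruncRlim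
  Groth.Agent.Lib.Helper68.HZeroLocal Groth.Agent.Lib.Helper19.CechModExt
  Groth.Agent.Lib.Helper32.AdjDevissage

section Corep

variable {C : Type u} [SmallCategory C] {J : GrothendieckTopology C} (O : Sheaf J CommRingCat.{u})

/-- sections over `U`, as a functor to types. -/
noncomputable def sectF (U : C) : Mod O ⥤ Type u :=
  SheafOfModules.toSheaf (ringSh O) ⋙ sheafToPresheaf J AddCommGrpCat.{u} ⋙
    (evaluation _ _).obj (op U) ⋙ forget AddCommGrpCat.{u}

/-- `P_U` corepresents sections over `U`. -/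
noncomputable def PCorep (U : C) : (sectF O U).CorepresentableBy (P O U) where
  homEquiv {M} := (homEquivSect O U M).toEquiv
  homEquiv_comp {M M'} g φ := evalGen_comp O U φ g

variable {O}
variable {D : Type u} [SmallCategory D] {K : GrothendieckTopology D} {O_D : Sheaf K CommRingCat.{u}}
  (f : RMor O O_D) (V : D)

/-- `f^* P_V` corepresents sections over `u(V)`. -/
noncomputable def pullPCorep : (sectF O (f.fn.obj V)).CorepresentableBy (f.pull.obj (P O_D V)) where
  homEquiv {M} := (f.adj.homEquiv _ M).trans (homEquivSect O_D V (f.push.obj M)).toEquiv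
  homEquiv_comp {M M'} g φ := by
    change evalGen O_D V (f.push.obj M') (f.adj.homEquiv _ M' (φ ≫ g)) = _
    rw [Adjunction.homEquiv_naturality_right, evalGen_comp]
    rfl

/-- `f^* P_V ≅ P_{u(V)}`. -/
noncomputable def pullPIso : f.pull.obj (P O_D V) ≅ P O (f.fn.obj V) :=
  (pullPCorep f V).uniqueUpToIso (PCorep O (f.fn.obj V))

end Corep

section Ext

variable {C : Type u} [SmallCategory C] {J : GrothendieckTopology C} (O : Sheaf J CommRingCat.{u})
  [HasExt.{u} (Mod O)]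

open Abelian

/-- vanishing of `Ext^k(P_U, F)` gives vanishing of `H^k(U, F)`. -/
lemma subsingleton_HU_of_ext (U : C) (F : Mod O) (k : ℕ) (h : Subsingleton (Ext.{u} (P O U) F k)) :
    Subsingleton (ModSite.HU O F k U) := by
  obtain ⟨e⟩ := ext_GO_equiv (ringSh O) (KU J U) F k
  haveI : Subsingleton (Ext.{u} ((Groth.Agent.Lib.Helper19.CechMod.GO (ringSh O)).obj (KU J U))
    F k) := h
  have h2 : Subsingleton (CohCx.HK (KU J U) (toAb F) k) := e.symm.toEquiv.subsingleton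
  change Subsingleton (Ext.{u} (CohCx.freeSheaf J U) (toAb F) k)
  let i := Groth.Agent.Lib.Helper19.CechPushHU.freeSheafIso J U
  refine ⟨fun x y => ?_⟩
  have hx : (Ext.mk₀ i.inv).comp x (zero_add k) = (Ext.mk₀ i.inv).comp y (zero_add k) :=
    h2.elim _ _
  have := congrArg (fun z => (Ext.mk₀ i.hom).comp z (zero_add k)) hx
  simpa [← Ext.comp_assoc_of_second_deg_zero] using this

end Ext

section Main

variable {C : Type u} [SmallCategory C] {J : GrothendieckTopology C} {O_C : Sheaf J CommRingCat.{u}}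
  {D : Type u} [SmallCategory D] {K : GrothendieckTopology D} {O_D : Sheaf K CommRingCat.{u}}
  [HasDerivedCategory.{w} (Mod O_C)] [HasDerivedCategory.{w'} (Mod O_D)]
  (f : RMor O_C O_D) [PreservesFiniteLimits f.pull]
  {R : DerivedCategory (Mod O_C) ⥤ DerivedCategory (Mod O_D)}
  (adj : f.pull.mapDerivedCategory ⊣ R)

include adj in
/-- `H^k(V, M) = 0` as soon as `H^k(u V, f^* M) = 0` and the unit is invertible at `M`. -/
lemma subsingleton_HU_of_pull (V : D) (M : Mod O_D)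
    (h3 : IsIso (adj.unit.app ((singleFunctor (Mod O_D) 0).obj M))) (k : ℕ)
    (h : Subsingleton (ModSite.HU O_C (f.pull.obj M) k (f.fn.obj V))) :
    Subsingleton (ModSite.HU O_D M k V) := by
  haveI : EnoughInjectives (Mod O_D) := Groth.Agent.S0485.result K (ringSh O_D)
  haveI : HasExt.{u} (Mod O_D) := hasExt_of_enoughInjectives.{u} _
  apply subsingleton_HU_of_ext
  have e : Abelian.Ext.{u} (P O_D V) M k ≃ (S.obj (P O_D V) ⟶ (S.obj M)⟦(k : ℤ)⟧) :=
    Abelian.Ext.homEquiv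
  suffices hs : Subsingleton (S.obj (P O_D V) ⟶ (S.obj M)⟦(k : ℤ)⟧) from e.subsingleton
  let _ := adj.rightAdjointCommShift ℤ
  have := adj.commShift_of_leftAdjoint ℤ
  have hu : IsIso (adj.unit.app ((S.obj M)⟦(k : ℤ)⟧)) := by
    rw [NatTrans.app_shift adj.unit (k : ℤ)]
    haveI := h3
    infer_instance
  -- the target `Hom` group
  have hsub : Subsingleton (f.pull.mapDerivedCategory.obj (S.obj (P O_D V)) ⟶
      f.pull.mapDerivedCategory.obj ((S.obj M)⟦(k : ℤ)⟧)) := by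
    have h0 : Subsingleton (S.obj (P O_C (f.fn.obj V)) ⟶ (S.obj (f.pull.obj M))⟦(k : ℤ)⟧) :=
      subsingleton_hom_single_shift (f.pull.obj M) (f.fn.obj V) (k : ℤ) (fun k' hk' => by
        have hkk : k' = k := by exact_mod_cast hk'
        subst hkk
        exact h)
    let i1 : f.pull.mapDerivedCategory.obj (S.obj (P O_D V)) ≅ S.obj (P O_C (f.fn.obj V)) :=
      (f.pull.mapDerivedCategorySingleFunctor 0).app (P O_D V) ≪≫ S.mapIso (pullPIso f V)
    let i2 : f.pull.mapDerivedCategory.obj ((S.obj M)⟦(k : ℤ)⟧) ≅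
        (S.obj (f.pull.obj M))⟦(k : ℤ)⟧ :=
      (f.pull.mapDerivedCategory.commShiftIso (k : ℤ)).app (S.obj M) ≪≫
        (shiftFunctor _ (k : ℤ)).mapIso ((f.pull.mapDerivedCategorySingleFunctor 0).app M)
    exact (Iso.homCongr i1 i2).subsingleton
  refine ⟨fun a b => ?_⟩
  have hab : f.pull.mapDerivedCategory.map a = f.pull.mapDerivedCategory.map b := hsub.elim _ _
  have h1 := adj.unit.naturality a
  have h2 := adj.unit.naturality b
  rw [← cancel_mono (adj.unit.app ((S.obj M)⟦(k : ℤ)⟧))]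
  have h1' : a ≫ adj.unit.app ((S.obj M)⟦(k : ℤ)⟧) =
      adj.unit.app _ ≫ R.map (f.pull.mapDerivedCategory.map a) := h1
  have h2' : b ≫ adj.unit.app ((S.obj M)⟦(k : ℤ)⟧) =
      adj.unit.app _ ≫ R.map (f.pull.mapDerivedCategory.map b) := h2
  rw [h1', h2', hab]

variable (A : ObjectProperty (Mod O_C)) [WSerre.IsWeakSerre A]
  (A' : ObjectProperty (Mod O_D)) [WSerre.IsWeakSerre A']
  (h2a : ∀ F' : Mod O_D, A' F' → A (f.pull.obj F'))
  (h2b : ∀ F' G' : Mod O_D, A' F' → A' G' →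
    Function.Bijective (fun φ : F' ⟶ G' => f.pull.map φ))
  (h2c : ∀ M : Mod O_C, A M → ∃ F' : Mod O_D, A' F' ∧ Nonempty (f.pull.obj F' ≅ M))
  (h3 : ∀ F' : Mod O_D, A' F' → IsIso (adj.unit.app ((singleFunctor (Mod O_D) 0).obj F')))
  (B : Set C)
  (hB : ∀ U : C, ∃ (ι : Type u) (Y : ι → C) (g : ∀ i, Y i ⟶ U), Sieve.ofArrows Y g ∈ J U ∧
    ∀ i, Y i ∈ B)
  (hA : ∀ V ∈ B, ∃ d : ℕ, ∀ T ∈ J V, ∃ (ι : Type u) (Y : ι → C) (g : ∀ i, Y i ⟶ V),
    (∀ i, T.arrows (g i)) ∧ Sieve.ofArrows Y g ∈ J V ∧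
    ∀ (i : ι) (M : Mod O_C), A M → ∀ k : ℕ, d < k → Subsingleton (ModSite.HU O_C M k (Y i)))
  (B' : Set D)
  (hB' : ∀ U : D, ∃ (ι : Type u) (Y : ι → D) (g : ∀ i, Y i ⟶ U), Sieve.ofArrows Y g ∈ K U ∧
    ∀ i, Y i ∈ B')
  (hA' : ∀ V ∈ B', ∃ d : ℕ, ∀ T ∈ K V, ∃ (ι : Type u) (Y : ι → D) (g : ∀ i, Y i ⟶ V),
    (∀ i, T.arrows (g i)) ∧ Sieve.ofArrows Y g ∈ K V ∧
    ∀ (i : ι) (M : Mod O_C), A M → ∀ k : ℕ, d < k →
      Subsingleton (ModSite.HU O_C M k (f.fn.obj (Y i))))

include adj h2a h2b h2c h3 hB hA hB' hA' in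
/-- the unbounded equivalence `D_{A'}(O_D) ≃ D_A(O_C)`, with the vanishing condition on `D`
expressed on `C`. -/
theorem main :
    (∀ Y : DerivedCategory (Mod O_D), WSerre.cohIn A' Y →
      WSerre.cohIn A (f.pull.mapDerivedCategory.obj Y) ∧ IsIso (adj.unit.app Y)) ∧
    (∀ X : DerivedCategory (Mod O_C), WSerre.cohIn A X →
      WSerre.cohIn A' (R.obj X) ∧ IsIso (adj.counit.app X)) := by
  refine Groth.Agent.Lib.Helper34.ModUnbdd.main (F := f.pull) adj A A' h2a h2b h2c h3 B hB hA B'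
    hB' ?_
  intro V hV
  obtain ⟨d, hd⟩ := hA' V hV
  refine ⟨d, fun T hT => ?_⟩
  obtain ⟨ι, Yc, g, hg, hcov, hv⟩ := hd T hT
  refine ⟨ι, Yc, g, hg, hcov, fun i M hM k hk => ?_⟩
  exact subsingleton_HU_of_pull f adj (Yc i) M (h3 M hM) k (hv i _ (h2a M hM) k hk)

end Main

end Groth.Agent.Lib.Helper34.ModPullFree
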