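import Groth.Agent.Lib.Helper34.ModPushSingle

/-!
# Local vanishing of maps out of `f^* P_{V'}` into complexes with cohomology in `A`
-/

set_option autoImplicit false
universe w w' u
open CategoryTheory Limits Pretriangulated DerivedCategory Opposite

namespace Groth.Agent.Lib.Helper34.ModPushBdd

open ModSite SiteCmp Groth.Agent.Lib.Helper34.ModFree Groth.Agent.Lib.Helper34.ModPushLZ
  Groth.Agent.Lib.Helper68.HZeroLocal Groth.Agent.Lib.Helper34.ModHZero
  Groth.Agent.Lib.Helper34.ModVL Groth.Agent.Lib.Helper34.ModTruncRlim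
  Groth.Agent.Lib.Helper68.RlimMilnor Groth.Agent.Lib.Helper68.TruncRlim
  Groth.Agent.Lib.Helper32 Groth.Agent.Lib.Helper34.ModPullFree

section Pmap

variable {C : Type u} [SmallCategory C] {J : GrothendieckTopology C} (O : Sheaf J CommRingCat.{u})

lemma Pmap_comp {U V W : C} (g : V ⟶ U) (k : W ⟶ V) : Pmap O (k ≫ g) = Pmap O k ≫ Pmap O g :=
  (yoneda ⋙ presheafToSheaf J (Type u) ⋙
    Groth.Agent.Lib.Helper19.CechMod.GO (ringSh O)).map_comp k g

end Pmap

variable {C : Type u} [SmallCategory C] {J : GrothendieckTopology C} {O_C : Sheaf J CommRingCat.{u}}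
  {D : Type u} [SmallCategory D] {K : GrothendieckTopology D} {O_D : Sheaf K CommRingCat.{u}}
  [HasDerivedCategory.{w} (Mod O_C)] (f : RMor O_C O_D)

/-- the sieve of arrows along which `ξ` vanishes. -/
def zeroSieve {V' : D} {Y : DerivedCategory (Mod O_C)}
    (ξ : S.obj (f.pull.obj (P O_D V')) ⟶ Y) : Sieve V' where
  arrows W' g := S.map (f.pull.map (Pmap O_D g)) ≫ ξ = 0
  downward_closed := by
    intro W' W'' g hg k
    change S.map (f.pull.map (Pmap O_D (k ≫ g))) ≫ ξ = 0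
    have hg' : S.map (f.pull.map (Pmap O_D g)) ≫ ξ = 0 := hg
    rw [Pmap_comp, Functor.map_comp, Functor.map_comp, Category.assoc, hg', comp_zero]

lemma LZ_iff (Y : DerivedCategory (Mod O_C)) :
    LZ f Y ↔ ∀ (V' : D) (ξ : S.obj (f.pull.obj (P O_D V')) ⟶ Y), zeroSieve f ξ ∈ K V' := by
  constructor
  · intro h V' ξ
    obtain ⟨T, hT, hz⟩ := h V' ξ
    exact K.superset_covering (fun W' g hg => hz g hg) hT
  · intro h V' ξ
    exact ⟨_, h V' ξ, fun W' g hg => hg⟩

lemma zeroSieve_pullback {V' W' : D} (g : W' ⟶ V') {Y : DerivedCategory (Mod O_C)}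
    (ξ : S.obj (f.pull.obj (P O_D V')) ⟶ Y) :
    (zeroSieve f ξ).pullback g = zeroSieve f (S.map (f.pull.map (Pmap O_D g)) ≫ ξ) := by
  ext W'' k
  change S.map (f.pull.map (Pmap O_D (k ≫ g))) ≫ ξ = 0 ↔
    S.map (f.pull.map (Pmap O_D k)) ≫ S.map (f.pull.map (Pmap O_D g)) ≫ ξ = 0
  rw [Pmap_comp, Functor.map_comp, Functor.map_comp, Category.assoc]

lemma zeroSieve_mem_of_cover {V' : D} {Y : DerivedCategory (Mod O_C)}
    (ξ : S.obj (f.pull.obj (P O_D V')) ⟶ Y) (T : Sieve V') (hT : T ∈ K V')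
    (h : ∀ ⦃W' : D⦄ (g : W' ⟶ V'), T g →
      zeroSieve f (S.map (f.pull.map (Pmap O_D g)) ≫ ξ) ∈ K W') : zeroSieve f ξ ∈ K V' :=
  K.transitive hT _ (fun W' g hg => by
    rw [zeroSieve_pullback]
    exact h g hg)

lemma zeroSieve_mem_of_eq_zero {V' : D} {Y : DerivedCategory (Mod O_C)}
    (ξ : S.obj (f.pull.obj (P O_D V')) ⟶ Y) (h : ξ = 0) : zeroSieve f ξ ∈ K V' := by
  subst h
  refine K.superset_covering ?_ (K.top_mem V')
  intro W' g _
  exact comp_zero

lemma zeroSieve_mem_of_ofArrows {V' : D} {Y : DerivedCategory (Mod O_C)}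
    (ξ : S.obj (f.pull.obj (P O_D V')) ⟶ Y) {ι : Type u} (Yc : ι → D) (g : ∀ i, Yc i ⟶ V')
    (hcov : Sieve.ofArrows Yc g ∈ K V')
    (h : ∀ i, zeroSieve f (S.map (f.pull.map (Pmap O_D (g i))) ≫ ξ) ∈ K (Yc i)) :
    zeroSieve f ξ ∈ K V' := by
  refine zeroSieve_mem_of_cover f ξ _ hcov ?_
  intro W' k hk
  obtain ⟨i, k', rfl⟩ := (Sieve.mem_ofArrows_iff Yc g k).1 hk
  rw [← zeroSieve_pullback, Sieve.pullback_comp]
  apply K.pullback_stable
  rw [zeroSieve_pullback]
  exact h i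

lemma LZ_of_iso {Y Y' : DerivedCategory (Mod O_C)} (e : Y ≅ Y') (h : LZ f Y) : LZ f Y' := by
  intro V' ξ
  obtain ⟨T, hT, hz⟩ := h V' (ξ ≫ e.inv)
  refine ⟨T, hT, fun W' g hg => ?_⟩
  have h1 := hz g hg
  rw [← Category.assoc] at h1
  exact (cancel_mono e.inv).1 (h1.trans zero_comp.symm)

lemma LZ_of_isZero {Y : DerivedCategory (Mod O_C)} (h : IsZero Y) : LZ f Y :=
  fun V' _ => ⟨⊤, K.top_mem _, fun _ _ _ => h.eq_of_tgt _ _⟩

lemma LZ_of_triangle {X Y Z : DerivedCategory (Mod O_C)} {a : X ⟶ Y} {b : Y ⟶ Z}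
    {c : Z ⟶ X⟦(1 : ℤ)⟧} (hT : Triangle.mk a b c ∈ distTriang _) (j : ℤ)
    (hX : LZ f (X⟦j⟧)) (hZ : LZ f (Z⟦j⟧)) : LZ f (Y⟦j⟧) := by
  rw [LZ_iff] at hX hZ ⊢
  intro V' ξ
  refine zeroSieve_mem_of_cover f ξ _ (hZ V' (ξ ≫ b⟦j⟧')) ?_
  intro W' g hg
  have h0 : (S.map (f.pull.map (Pmap O_D g)) ≫ ξ) ≫ b⟦j⟧' = 0 := by
    rw [Category.assoc]
    exact hg
  obtain ⟨φ, hφ⟩ := co_exact₂ hT _ j _ h0
  rw [← hφ]
  refine K.superset_covering ?_ (hX W' φ)
  intro W'' k hk
  have hk' : S.map (f.pull.map (Pmap O_D k)) ≫ φ = 0 := hk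
  change S.map (f.pull.map (Pmap O_D k)) ≫ φ ≫ a⟦j⟧' = 0
  rw [← Category.assoc, hk', zero_comp]

section Bdd

variable (A : ObjectProperty (Mod O_C)) [WSerre.IsWeakSerre A] (N : ℤ)
  (hN : ∀ F : Mod O_C, A F → ∀ q : ℤ, N < q → LZ f ((S.obj F)⟦q⟧))

include hN in
theorem LZ_bdd (n : ℕ) :
    ∀ (a b : ℤ) (Y : DerivedCategory (Mod O_C)), b < a + n → WSerre.cohIn A Y →
      (∀ i, i < a ∨ b < i → IsZero ((homologyFunctor (Mod O_C) i).obj Y)) →
      ∀ j : ℤ, b + N < j → LZ f (Y⟦j⟧) := by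
  induction n with
  | zero =>
    intro a b Y hab hY hz j hj
    have h1 : Y.IsGE a := (isGE_iff _ _).2 (fun i hi => hz i (Or.inl hi))
    have h2 : Y.IsLE b := (isLE_iff _ _).2 (fun i hi => hz i (Or.inr hi))
    have hY0 : IsZero Y := TStructure.t.isZero _ b a (by simpa using hab)
    exact LZ_of_isZero f ((shiftFunctor _ j).map_isZero hY0)
  | succ n ih =>
    intro a b Y hab hP hz j hj
    have hT := TStructure.t.triangleLTGE_distinguished b Y
    have z' : ∀ i, i < a ∨ b - 1 < i →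
        IsZero ((homologyFunctor (Mod O_C) i).obj ((TStructure.t.truncLT b).obj Y)) :=
      fun i hi => ProIsoDer.isZero_homology_truncLT Y a b i hz hi
    have iso' : ∀ i, i < b → ((homologyFunctor (Mod O_C) i).obj ((TStructure.t.truncLT b).obj Y) ≅
        (homologyFunctor (Mod O_C) i).obj Y) := fun i hi => by
      have := EssConstDer.isIso_homology_truncLTι Y b i hi
      exact asIso ((homologyFunctor (Mod O_C) i).map ((TStructure.t.truncLTι b).app Y))
    have hK' : WSerre.cohIn A ((TStructure.t.truncLT b).obj Y) := fun i => by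
      by_cases hi : i < b
      · exact A.prop_of_iso (iso' i hi).symm (hP i)
      · exact A.prop_of_isZero (z' i (by omega))
    have z'' : ∀ i, i ≠ b →
        IsZero ((homologyFunctor (Mod O_C) i).obj ((TStructure.t.truncGE b).obj Y)) := by
      intro i hi
      rcases lt_or_gt_of_ne hi with h | h
      · exact isZero_of_isGE ((TStructure.t.truncGE b).obj Y) b i h
      · exact EssConstDer.isZero_homology_truncGE Y b i h (hz i (Or.inr h))
    have iso'' : (homologyFunctor (Mod O_C) b).obj Y ≅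
        (homologyFunctor (Mod O_C) b).obj ((TStructure.t.truncGE b).obj Y) := by
      have := EssConstDer.isIso_homology_truncGEπ Y b
      exact asIso ((homologyFunctor (Mod O_C) b).map ((TStructure.t.truncGEπ b).app Y))
    have hLE'' : ((TStructure.t.truncGE b).obj Y).IsLE b :=
      (isLE_iff _ _).2 (fun i hi => z'' i (by omega))
    obtain ⟨M, ⟨eM⟩⟩ := exists_iso_singleFunctor_obj_of_isGE_of_isLE
      ((TStructure.t.truncGE b).obj Y) b
    have eM' : M ≅ (homologyFunctor (Mod O_C) b).obj Y :=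
      ((singleFunctorCompHomologyFunctorIso (Mod O_C) b).app M).symm ≪≫
        (homologyFunctor (Mod O_C) b).mapIso eM.symm ≪≫ iso''.symm
    have hM : A M := A.prop_of_iso eM'.symm (hP b)
    have h1 : LZ f (((TStructure.t.truncLT b).obj Y)⟦j⟧) :=
      ih a (b - 1) _ (by omega) hK' z' j (by omega)
    have e : ((singleFunctor (Mod O_C) 0).obj M)⟦-b⟧ ≅ (singleFunctor (Mod O_C) b).obj M :=
      ((singleFunctors (Mod O_C)).shiftIso (-b) b 0 (by omega)).app M
    have h2 : LZ f (((TStructure.t.truncGE b).obj Y)⟦j⟧) := by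
      have h3 : LZ f ((S.obj M)⟦-b + j⟧) := hN M hM (-b + j) (by omega)
      refine LZ_of_iso f ?_ h3
      exact (shiftFunctorAdd' _ (-b) j (-b + j) rfl).app (S.obj M) ≪≫
        (shiftFunctor _ j).mapIso (e ≪≫ eM.symm)
    exact LZ_of_triangle f (a := (TStructure.t.truncLTι b).app Y)
      (b := (TStructure.t.truncGEπ b).app Y) (c := (TStructure.t.truncGEδLT b).app Y) hT j h1 h2

end Bdd

end Groth.Agent.Lib.Helper34.ModPushBdd
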