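import Groth.Agent.Lib.Helper6.RFAcyc
import Groth.Agent.Lib.Helper6.ExtendFunctor

/-!
# Cohomology of the unbounded right derived functor on a single object
-/

set_option autoImplicit false
universe w w' v v' u u'
open CategoryTheory CategoryTheory.Limits DerivedCategory

namespace Groth.Agent.Lib.Helper34.RDSingle

variable {A : Type u} [Category.{v} A] [Abelian A] [HasDerivedCategory.{w} A]
  [IsGrothendieckAbelian.{v} A]
  {B : Type u'} [Category.{v'} B] [Abelian B] [HasDerivedCategory.{w'} B]
  (F : A ⥤ B) [F.Additive]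
  (RF : DerivedCategory A ⥤ DerivedCategory B)
  (β : F.mapHomotopyCategory (ComplexShape.up ℤ) ⋙ Qh ⟶ Qh ⋙ RF)
  [RF.IsRightDerivedFunctor β (HomotopyCategory.quasiIso A (ComplexShape.up ℤ))]

include β in
theorem nonempty_homology_single_iso [HasInjectiveResolutions A] (M : A) (p : ℕ) :
    Nonempty ((homologyFunctor B (p : ℤ)).obj (RF.obj ((singleFunctor A 0).obj M)) ≅
      (F.rightDerived p).obj M) := by
  let R := injectiveResolution M
  haveI : R.cochainComplex.IsKInjective := CochainComplex.isKInjective_of_injective _ 0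
  haveI := Groth.Agent.Lib.Helper6.RFAcyc.isIso_bC_of_isKInjective F RF β R.cochainComplex
  haveI : IsIso (Q.map R.ι') := by
    rw [isIso_Q_map_iff_quasiIso]
    infer_instance
  let e1 : (singleFunctor A 0).obj M ≅ Q.obj R.cochainComplex :=
    (singleFunctorIsoCompQ A 0).app M ≪≫ asIso (Q.map R.ι')
  let e2 : Q.obj ((F.mapHomologicalComplex (ComplexShape.up ℤ)).obj R.cochainComplex) ≅
      RF.obj (Q.obj R.cochainComplex) :=
    asIso ((Groth.Agent.Lib.Helper6.RFAcyc.bC F RF β).app R.cochainComplex)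
  let e3 : (homologyFunctor B (p : ℤ)).obj
      (Q.obj ((F.mapHomologicalComplex (ComplexShape.up ℤ)).obj R.cochainComplex)) ≅
      ((F.mapHomologicalComplex (ComplexShape.up ℤ)).obj R.cochainComplex).homology (p : ℤ) :=
    (homologyFunctorFactors B (p : ℤ)).app _
  let e4 : (F.mapHomologicalComplex (ComplexShape.up ℤ)).obj R.cochainComplex ≅
      ((F.mapHomologicalComplex (ComplexShape.up ℕ)).obj R.cocomplex).extend
        ComplexShape.embeddingUpNat :=
    Groth.Agent.Lib.Helper6.ExtendFunctor.mapExtendIso ComplexShape.embeddingUpNat F R.cocomplex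
  let e5 : (((F.mapHomologicalComplex (ComplexShape.up ℕ)).obj R.cocomplex).extend
        ComplexShape.embeddingUpNat).homology (p : ℤ) ≅
      ((F.mapHomologicalComplex (ComplexShape.up ℕ)).obj R.cocomplex).homology p :=
    HomologicalComplex.extendHomologyIso _ ComplexShape.embeddingUpNat (j := p) (j' := (p : ℤ)) rfl
  let e6 := R.isoRightDerivedObj F p
  exact ⟨(homologyFunctor B (p : ℤ)).mapIso (RF.mapIso e1 ≪≫ e2.symm) ≪≫ e3 ≪≫
    (HomologicalComplex.homologyFunctor B (ComplexShape.up ℤ) (p : ℤ)).mapIso e4 ≪≫ e5 ≪≫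
    e6.symm⟩

end Groth.Agent.Lib.Helper34.RDSingle
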