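import Groth.Agent.Lib.Helper34.ModPushFinal
import Groth.Agent.Lib.Helper34.ModLeray
import Groth.Agent.Lib.Helper34.RDSingle
import Groth.Agent.Lib.Helper32.DevissageDer
import Groth.Agent.Lib.Helper32.AdjDevissage

/-!
# `Rf_*` maps `D_A` to `D_{A'}` (non-flat `f`, bounded cohomological dimension)
-/

set_option autoImplicit false
universe w w' u
open CategoryTheory Limits Pretriangulated DerivedCategory Opposite

namespace Groth.Agent.Lib.Helper34.ModPushCoh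

open ModSite SiteCmp Groth.Agent.Lib.Helper34.ModFree Groth.Agent.Lib.Helper34.ModPushLZ
  Groth.Agent.Lib.Helper68.HZeroLocal Groth.Agent.Lib.Helper34.ModHZero
  Groth.Agent.Lib.Helper68.TruncRlim
  Groth.Agent.Lib.Helper32 Groth.Agent.Lib.Helper34.ModUnbdd
  Groth.Agent.Lib.Helper34.ModPushMain Groth.Agent.Lib.Helper34.ModPushFinal

variable {C : Type u} [SmallCategory C] {J : GrothendieckTopology C} {O_C : Sheaf J CommRingCat.{u}}
  {D : Type u} [SmallCategory D] {K : GrothendieckTopology D} {O_D : Sheaf K CommRingCat.{u}}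
  [HasDerivedCategory.{w} (Mod O_C)] [HasDerivedCategory.{w'} (Mod O_D)] (f : RMor O_C O_D)

section Tri

variable (R : DerivedCategory (Mod O_C) ⥤ DerivedCategory (Mod O_D)) [R.CommShift ℤ]
  [R.IsTriangulated]
  (β : f.push.mapHomotopyCategory (ComplexShape.up ℤ) ⋙ DerivedCategory.Qh ⟶
    DerivedCategory.Qh ⋙ R)
  [R.IsRightDerivedFunctor β (HomotopyCategory.quasiIso (Mod O_C) (ComplexShape.up ℤ))]

include β in
/-- `Rf_*` is left t-exact. -/
lemma isGE_R (Y : DerivedCategory (Mod O_C)) (a : ℤ) [Y.IsGE a] : (R.obj Y).IsGE a := by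
  rw [isGE_iff]
  intro i hi
  apply isZero_homology_of_LZ f R β
  intro V' ξ
  refine ⟨⊤, K.top_mem _, fun W' g _ => ?_⟩
  have : TStructure.t.IsGE (Y⟦i⟧) (a - i) := TStructure.t.isGE_shift Y a i (a - i) (by omega)
  have h0 : ξ = 0 := TStructure.t.zero ξ 0 (a - i) (by omega)
  rw [h0, comp_zero]

variable [HasInjectiveResolutions (Mod O_C)]
  (A : ObjectProperty (Mod O_C)) [WSerre.IsWeakSerre A]
  (A' : ObjectProperty (Mod O_D)) [WSerre.IsWeakSerre A']
  (h3 : ∀ F : Mod O_C, A F → ∀ p : ℕ, A' ((f.Rpush p).obj F))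

include β h3 in
lemma cohIn_R_single (M : Mod O_C) (hM : A M) : WSerre.cohIn A' (R.obj (S.obj M)) := by
  intro j
  by_cases hj : j < 0
  · haveI : (R.obj (S.obj M)).IsGE 0 := isGE_R f R β (S.obj M) 0
    exact A'.prop_of_isZero (isZero_of_isGE _ 0 j hj)
  · obtain ⟨p, rfl⟩ : ∃ p : ℕ, j = (p : ℤ) := ⟨j.toNat, by omega⟩
    haveI : IsGrothendieckAbelian.{u} (Mod O_C) := Groth.Agent.S0484.result J (ringSh O_C)
    obtain ⟨e⟩ := Groth.Agent.Lib.Helper34.RDSingle.nonempty_homology_single_iso f.push R β M p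
    exact A'.prop_of_iso e.symm (h3 M hM p)

include β h3 in
lemma cohIn_R_plus (Y : DerivedCategory (Mod O_C)) (hY : WSerre.cohIn A Y) (a : ℤ) [Y.IsGE a] :
    WSerre.cohIn A' (R.obj Y) := by
  intro j
  have hT := TStructure.t.triangleLTGE_distinguished (j + 2) Y
  have hT' := R.map_distinguished _ hT
  have hGE : (R.obj ((TStructure.t.truncGE (j + 2)).obj Y)).IsGE (j + 2) := isGE_R f R β _ (j + 2)
  have hiso : IsIso ((homologyFunctor (Mod O_D) j).map
      (R.map ((TStructure.t.truncLTι (j + 2)).app Y))) :=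
    @AdjDevissage.isIso_homology_mor₁_of_isGE _ _ _ _ _ hT' (j + 2) j (by omega) hGE
  have hb : WSerre.cohIn A' (R.obj ((TStructure.t.truncLT (j + 2)).obj Y)) := by
    obtain ⟨n, hn⟩ : ∃ n : ℕ, j + 2 - 1 < a + n := ⟨(j + 2 - a).toNat, by omega⟩
    refine Devissage.gen_aux A ((WSerre.cohIn A').inverseImage R)
      (fun M hM => cohIn_R_single f R β A A' h3 M hM) n a (j + 2 - 1) _ hn
      (cohIn_truncLT A hY (j + 2)) ?_
    intro i hi
    by_cases him : i < j + 2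
    · have := EssConstDer.isIso_homology_truncLTι Y (j + 2) i him
      exact (isZero_of_isGE Y a i (by omega)).of_iso
        (asIso ((homologyFunctor (Mod O_C) i).map ((TStructure.t.truncLTι (j + 2)).app Y)))
    · exact isZero_of_isLE ((TStructure.t.truncLT (j + 2)).obj Y) (j + 2 - 1) i (by omega)
  exact A'.prop_of_iso (asIso ((homologyFunctor (Mod O_D) j).map
    (R.map ((TStructure.t.truncLTι (j + 2)).app Y)))) (hb j)

end Tri

/-- a triangulated model of `Rf_*`. -/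
theorem exists_model :
    ∃ (R' : DerivedCategory (Mod O_C) ⥤ DerivedCategory (Mod O_D)) (_ : R'.CommShift ℤ)
      (β' : f.push.mapHomotopyCategory (ComplexShape.up ℤ) ⋙ DerivedCategory.Qh ⟶
        DerivedCategory.Qh ⋙ R'),
      R'.IsTriangulated ∧
        R'.IsRightDerivedFunctor β' (HomotopyCategory.quasiIso (Mod O_C) (ComplexShape.up ℤ)) := by
  haveI : IsGrothendieckAbelian.{u} (Mod O_C) := Groth.Agent.S0484.result J (ringSh O_C)
  have hKinj : ∀ K : CochainComplex (Mod O_C) ℤ, ∃ (I : CochainComplex (Mod O_C) ℤ)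
      (g : K ⟶ I), I.IsKInjective ∧ QuasiIso g := by
    intro K
    obtain ⟨I, g, hI, hg, -, -⟩ :=
      Groth.Agent.Lib.Helper99.KInj.exists_kInjective_resolution K
    exact ⟨I, g, hI, hg⟩
  obtain ⟨ρ, ⟨adj⟩⟩ : ∃ ρ : DerivedCategory (Mod O_C) ⥤
      HomotopyCategory (Mod O_C) (ComplexShape.up ℤ),
      Nonempty ((DerivedCategory.Qh : HomotopyCategory (Mod O_C) (ComplexShape.up ℤ) ⥤ _) ⊣ ρ) :=
    ⟨_, ⟨Groth.Agent.S1032.rAdj hKinj⟩⟩
  let _ := adj.rightAdjointCommShift ℤ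
  have := adj.commShift_of_leftAdjoint ℤ
  have : ρ.IsTriangulated := adj.isTriangulated_rightAdjoint
  haveI : (f.push.mapHomotopyCategory (ComplexShape.up ℤ) ⋙
      (DerivedCategory.Qh : _ ⥤ DerivedCategory (Mod O_D))).IsTriangulated :=
    isTriangulated_comp' (f.push.mapHomotopyCategory (ComplexShape.up ℤ)) DerivedCategory.Qh
  haveI : (ρ ⋙ f.push.mapHomotopyCategory (ComplexShape.up ℤ) ⋙
      (DerivedCategory.Qh : _ ⥤ DerivedCategory (Mod O_D))).IsTriangulated :=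
    isTriangulated_comp' ρ (f.push.mapHomotopyCategory (ComplexShape.up ℤ) ⋙ DerivedCategory.Qh)
  refine ⟨ρ ⋙ f.push.mapHomotopyCategory (ComplexShape.up ℤ) ⋙ DerivedCategory.Qh,
    inferInstance, KanAbsL.canUnit adj (f.push.mapHomotopyCategory (ComplexShape.up ℤ) ⋙
        (DerivedCategory.Qh : _ ⥤ DerivedCategory (Mod O_D))), inferInstance, ⟨?_⟩⟩
  exact KanAbsL.isLeftKanExtension_of_adjunction adj _

variable [HasInjectiveResolutions (Mod O_C)]
  (A : ObjectProperty (Mod O_C)) [WSerre.IsWeakSerre A]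
  (A' : ObjectProperty (Mod O_D)) [WSerre.IsWeakSerre A']
  (B : Set C) (B' : Set D)
  (hB : ∀ U : C, ∃ (ι : Type u) (Y : ι → C) (g : ∀ i, Y i ⟶ U),
    Sieve.ofArrows Y g ∈ J U ∧ ∀ i, Y i ∈ B)
  (hA : ∀ V ∈ B, ∃ d : ℕ, ∀ T ∈ J V, ∃ (ι : Type u) (Y : ι → C) (g : ∀ i, Y i ⟶ V),
    (∀ i, T.arrows (g i)) ∧ Sieve.ofArrows Y g ∈ J V ∧
    ∀ (i : ι) (F : Mod O_C), A F → ∀ k : ℕ, d < k → Subsingleton (ModSite.HU O_C F k (Y i)))
  (hB' : ∀ U : D, ∃ (ι : Type u) (Y : ι → D) (g : ∀ i, Y i ⟶ U),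
    Sieve.ofArrows Y g ∈ K U ∧ ∀ i, Y i ∈ B')
  (hA' : ∀ V ∈ B', ∃ d : ℕ, ∀ T ∈ K V, ∃ (ι : Type u) (Y : ι → D) (g : ∀ i, Y i ⟶ V),
    (∀ i, T.arrows (g i)) ∧ Sieve.ofArrows Y g ∈ K V ∧
    ∀ (i : ι) (F : Mod O_D), A' F → ∀ k : ℕ, d < k → Subsingleton (ModSite.HU O_D F k (Y i)))
  (N : ℤ)
  (h3 : ∀ F : Mod O_C, A F → ∀ p : ℕ, A' ((f.Rpush p).obj F))
  (h4 : ∀ F : Mod O_C, A F → ∀ p : ℕ, N < (p : ℤ) → IsZero ((f.Rpush p).obj F))

include hA' h3 h4 in
/-- Leray: the downstairs bound on cohomological dimension gives an upstairs bound. -/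
lemma hA_upstairs : ∀ V ∈ B', ∃ d : ℕ, ∀ T ∈ K V, ∃ (ι : Type u) (Y : ι → D) (g : ∀ i, Y i ⟶ V),
    (∀ i, T.arrows (g i)) ∧ Sieve.ofArrows Y g ∈ K V ∧
    ∀ (i : ι) (F : Mod O_C), A F → ∀ k : ℕ, d < k →
      Subsingleton (ModSite.HU O_C F k (f.fn.obj (Y i))) := by
  intro V hV
  obtain ⟨d, hd⟩ := hA' V hV
  refine ⟨d + N.toNat, fun T hT => ?_⟩
  obtain ⟨ι, Yc, g, hg, hcov, hv⟩ := hd T hT
  refine ⟨ι, Yc, g, hg, hcov, fun i F hF k hk => ?_⟩
  exact Groth.Agent.Lib.Helper34.ModLeray.subsingleton_HU_of_leray f F (Yc i) d N.toNat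
    (fun q k' hk' => hv i _ (h3 F hF q) k' hk') (fun q hq => h4 F hF q (by omega)) k hk

include hB hA hB' hA' h3 h4 in
theorem main (R : DerivedCategory (Mod O_C) ⥤ DerivedCategory (Mod O_D))
    (β : f.push.mapHomotopyCategory (ComplexShape.up ℤ) ⋙ DerivedCategory.Qh ⟶
      DerivedCategory.Qh ⋙ R)
    [R.IsRightDerivedFunctor β (HomotopyCategory.quasiIso (Mod O_C) (ComplexShape.up ℤ))]
    (X : DerivedCategory (Mod O_C)) (hX : WSerre.cohIn A X) :
    WSerre.cohIn A' (R.obj X) ∧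
      ∀ (n : ℕ) (j : ℤ), N - (n : ℤ) ≤ j →
        IsIso ((homologyFunctor (Mod O_D) j).map
          (R.map ((TStructure.t.truncGEπ (-(n : ℤ))).app X))) := by
  have hA'' := hA_upstairs f A A' B' hA' N h3 h4
  refine ⟨?_, fun n j hj =>
    Groth.Agent.Lib.Helper34.ModPushFinal.main f A B B' hB hA hB' hA'' N h4 R β X hX n j hj⟩
  obtain ⟨R', hs, β', htri, hder⟩ := exists_model f
  haveI hK : R.IsLeftKanExtension β :=
    Functor.IsRightDerivedFunctor.isLeftKanExtension _ _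
      (HomotopyCategory.quasiIso (Mod O_C) (ComplexShape.up ℤ))
  haveI hK' : R'.IsLeftKanExtension β' :=
    Functor.IsRightDerivedFunctor.isLeftKanExtension _ _
      (HomotopyCategory.quasiIso (Mod O_C) (ComplexShape.up ℤ))
  let e : R' ≅ R := Functor.leftKanExtensionUnique R' β' R β
  intro j
  obtain ⟨n, hn⟩ : ∃ n : ℕ, N - (n : ℤ) ≤ j := ⟨(N - j).toNat, by omega⟩
  have hiso := Groth.Agent.Lib.Helper34.ModPushFinal.main f A B B' hB hA hB' hA'' N h4 R' β' X hX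
    n j hn
  have hplus : WSerre.cohIn A' (R'.obj ((TStructure.t.truncGE (-(n : ℤ))).obj X)) :=
    cohIn_R_plus f R' β' A A' h3 _ (cohIn_truncGE A hX _) (-(n : ℤ))
  have h1 : A' ((homologyFunctor (Mod O_D) j).obj (R'.obj X)) :=
    A'.prop_of_iso (asIso ((homologyFunctor (Mod O_D) j).map
      (R'.map ((TStructure.t.truncGEπ (-(n : ℤ))).app X)))).symm (hplus j)
  exact A'.prop_of_iso ((homologyFunctor (Mod O_D) j).mapIso (e.app X)) h1

end Groth.Agent.Lib.Helper34.ModPushCoh
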