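import Groth.Agent.Lib.Helper34.ModChain
import Groth.Agent.Lib.Helper34.EpsCmp
import Groth.Agent.Lib.Helper99.KInjDerK

/-!
# Cohomology sheaves of the unbounded derived direct image via local vanishing of maps out of
pulled back free modules
-/

set_option autoImplicit false
universe w w' u
open CategoryTheory Limits Pretriangulated DerivedCategory Opposite HomologicalComplex

namespace Groth.Agent.Lib.Helper34.ModPushLZ

open ModSite SiteCmp Groth.Agent.Lib.Helper34.ModFree Groth.Agent.Lib.Helper34.ModChain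
  Groth.Agent.Lib.Helper68.HZeroLocal Groth.Agent.Lib.Helper34.ModHZero
  Groth.Agent.Lib.Helper34.EpsCmp

variable {C : Type u} [SmallCategory C] {J : GrothendieckTopology C} {O_C : Sheaf J CommRingCat.{u}}
  {D : Type u} [SmallCategory D] {K : GrothendieckTopology D} {O_D : Sheaf K CommRingCat.{u}}
  [HasDerivedCategory.{w} (Mod O_C)] [HasDerivedCategory.{w'} (Mod O_D)]
  (f : RMor O_C O_D)

/-- every map `f^* P_{V'}[0] ⟶ Y` vanishes locally on `V'`. -/
def LZ (Y : DerivedCategory (Mod O_C)) : Prop :=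
  ∀ (V' : D) (ξ : S.obj (f.pull.obj (P O_D V')) ⟶ Y), ∃ T ∈ K V', ∀ ⦃W' : D⦄ (g : W' ⟶ V'),
    T g → S.map (f.pull.map (Pmap O_D g)) ≫ ξ = 0

variable (R : DerivedCategory (Mod O_C) ⥤ DerivedCategory (Mod O_D))
  (β : f.push.mapHomotopyCategory (ComplexShape.up ℤ) ⋙ DerivedCategory.Qh ⟶
    DerivedCategory.Qh ⋙ R)
  [R.IsRightDerivedFunctor β (HomotopyCategory.quasiIso (Mod O_C) (ComplexShape.up ℤ))]

include β in
/-- `H^0(Rf_* Y) = 0` as soon as maps `f^* P_{V'}[0] ⟶ Y` vanish locally. -/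
theorem isZero_H0 (Y : DerivedCategory (Mod O_C)) (hY : LZ f Y) : IsZero (H.obj (R.obj Y)) := by
  haveI : IsGrothendieckAbelian.{u} (Mod O_C) := Groth.Agent.S0484.result J (ringSh O_C)
  obtain ⟨I, ι, hI, hι, -, -⟩ :=
    Groth.Agent.Lib.Helper99.KInj.exists_kInjective_resolution (Q.objPreimage Y)
  haveI := hI
  haveI : IsIso (Q.map ι) := by
    rw [isIso_Q_map_iff_quasiIso]
    exact hι
  let e : Y ≅ Q.obj I := (Q.objObjPreimageIso Y).symm ≪≫ asIso (Q.map ι)
  let Jc : CochainComplex (Mod O_D) ℤ := (f.push.mapHomologicalComplex (ComplexShape.up ℤ)).obj I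
  haveI : IsIso (β.app ((HomotopyCategory.quotient _ _).obj I)) :=
    Groth.Agent.Lib.Helper99.KInj.isIso_app_of_kInjK _ R β _ hI
  let lam : R.obj Y ≅ Q.obj Jc :=
    R.mapIso e ≪≫ (asIso (β.app ((HomotopyCategory.quotient _ _).obj I))).symm
  refine IsZero.of_iso ?_ (H.mapIso lam)
  apply isZero_of_sections
  have hsep : Presieve.IsSeparated K (((T O_D).obj (H.obj (Q.obj Jc))).obj ⋙ forget _) := by
    apply Presieve.IsSheaf.isSeparated
    rw [← isSheaf_iff_isSheaf_of_type]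
    exact ((sheafCompose K (forget AddCommGrpCat.{u})).obj ((T O_D).obj (H.obj (Q.obj Jc)))).2
  have key : ∀ (U : D) (t : ((T O_D).obj (H.obj (Q.obj Jc))).obj.obj (op U)) (T' : Sieve U),
      T' ∈ K U → (∀ ⦃W : D⦄ (g : W ⟶ U), T' g →
        (((T O_D).obj (H.obj (Q.obj Jc))).obj.map g.op).hom t = 0) → t = 0 := by
    intro U t T' hT' ht
    refine (hsep _ hT').ext ?_
    intro W g hg
    change (((T O_D).obj (H.obj (Q.obj Jc))).obj.map g.op).hom t =
      (((T O_D).obj (H.obj (Q.obj Jc))).obj.map g.op).hom 0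
    rw [map_zero]
    exact ht g hg
  intro U' s
  obtain ⟨R₁, hR₁, h₁⟩ := locSurj_aux (Q.obj Jc) U' s
  refine key U' s R₁ hR₁ (fun W j hj => ?_)
  obtain ⟨ξ', hξ'⟩ := h₁ j hj
  obtain ⟨T₁, hT₁, hx⟩ := exists_cover_chain W Jc ξ'
  refine key W _ T₁ hT₁ (fun W' g hg => ?_)
  obtain ⟨x, hxe⟩ := hx g hg
  -- the adjoint cocycle
  let φ : P O_D W' ⟶ f.push.obj (I.X 0) := toCocycle x
  have hφ : φ ≫ f.push.map (I.d 0 1) = 0 := toCocycle_d x
  let φh : f.pull.obj (P O_D W') ⟶ I.X 0 := (f.adj.homEquiv _ _).symm φ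
  have hφh : φh ≫ I.d 0 1 = 0 := by
    rw [← Adjunction.homEquiv_naturality_right_symm, hφ, Adjunction.homEquiv_counit,
      Functor.map_zero, zero_comp]
  let xh : sg (f.pull.obj (P O_D W')) ⟶ I := ofCocycle φh hφh
  let ξ : S.obj (f.pull.obj (P O_D W')) ⟶ Y := Q.map xh ≫ e.inv
  obtain ⟨T₂, hT₂, hz⟩ := hY W' ξ
  refine key W' _ T₂ hT₂ (fun W'' g₂ hg₂ => ?_)
  have hz' : Q.map (sgMap (f.pull.map (Pmap O_D g₂))) ≫ Q.map xh ≫ e.inv = 0 := hz g₂ hg₂
  have h1 : Q.map (sgMap (f.pull.map (Pmap O_D g₂)) ≫ xh) = 0 := by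
    rw [Functor.map_comp]
    have h0 := congrArg (· ≫ e.hom) hz'
    simp only [Category.assoc, Iso.inv_hom_id, Category.comp_id] at h0
    rw [h0]
    exact zero_comp
  -- null-homotopy on the `C`-side
  have h2 : (HomotopyCategory.quotient _ _).map (sgMap (f.pull.map (Pmap O_D g₂)) ≫ xh) =
      (HomotopyCategory.quotient _ _).map 0 := by
    apply (CochainComplex.IsKInjective.Qh_map_bijective _ I).1
    change Q.map (sgMap (f.pull.map (Pmap O_D g₂)) ≫ xh) = Q.map 0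
    rw [h1, Functor.map_zero]
  let hy := HomotopyCategory.homotopyOfEq _ _ h2
  let h : f.pull.obj (P O_D W'') ⟶ I.X (-1) :=
    (singleObjXSelf (ComplexShape.up ℤ) 0 _).inv ≫ hy.hom 0 (-1)
  have hh : f.pull.map (Pmap O_D g₂) ≫ φh = h ≫ I.d (-1) 0 := by
    have hc := hy.comm 0
    rw [dNext_eq hy.hom (show (ComplexShape.up ℤ).Rel 0 1 by simp),
      prevD_eq hy.hom (show (ComplexShape.up ℤ).Rel (-1) 0 by simp), single_obj_d, zero_comp,
      zero_add, zero_f, add_zero] at hc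
    have h3 := toCocycle_sgMap_comp (f.pull.map (Pmap O_D g₂)) xh
    rw [toCocycle_ofCocycle] at h3
    rw [← h3, toCocycle, hc, Category.assoc]
  -- transport through the adjunction
  have hh' : Pmap O_D g₂ ≫ φ = f.adj.homEquiv _ _ h ≫ f.push.map (I.d (-1) 0) := by
    rw [← Adjunction.homEquiv_naturality_right, ← hh, Adjunction.homEquiv_naturality_left,
      Equiv.apply_symm_apply]
  have h4 : Nonempty (Homotopy (sgMap (Pmap O_D g₂) ≫ x) 0) :=
    nonempty_homotopy_zero (K := Jc) _ (f.adj.homEquiv _ _ h) (by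
      rw [toCocycle_sgMap_comp]
      exact hh')
  have h5 : Q.map (sgMap (Pmap O_D g₂) ≫ x) = 0 := by
    obtain ⟨hmt⟩ := h4
    have := HomotopyCategory.eq_of_homotopy _ _ hmt
    change DerivedCategory.Qh.map ((HomotopyCategory.quotient _ _).map _) = 0
    rw [this, Functor.map_zero, Functor.map_zero]
  -- conclusion
  have h6 : S.map (Pmap O_D g₂) ≫ S.map (Pmap O_D g) ≫ ξ' = 0 := by
    change Q.map (sgMap (Pmap O_D g₂)) ≫ Q.map (sgMap (Pmap O_D g)) ≫ ξ' = 0
    rw [hxe, ← Functor.map_comp, h5]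
  rw [← hξ', ← ηU_res, ← ηU_res, h6, map_zero]

end Groth.Agent.Lib.Helper34.ModPushLZ
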