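import Groth.Agent.Lib.Helper34.ModPushCoh

/-!
# Lowest cohomology of `Rf_*` and conservativity on `D_A` (cohomological dimension zero)
-/

set_option autoImplicit false
universe w w' u
open CategoryTheory Limits Pretriangulated DerivedCategory Opposite

namespace Groth.Agent.Lib.Helper34.ModPushLow

open ModSite SiteCmp Groth.Agent.Lib.Helper34.ModFree Groth.Agent.Lib.Helper34.ModPushLZ
  Groth.Agent.Lib.Helper68.HZeroLocal Groth.Agent.Lib.Helper34.ModHZero
  Groth.Agent.Lib.Helper68.TruncRlim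
  Groth.Agent.Lib.Helper32 Groth.Agent.Lib.Helper34.ModUnbdd
  Groth.Agent.Lib.Helper34.ModPushMain Groth.Agent.Lib.Helper34.ModPushFinal
  Groth.Agent.Lib.Helper34.ModPushCoh

variable {C : Type u} [SmallCategory C] {J : GrothendieckTopology C} {O_C : Sheaf J CommRingCat.{u}}
  {D : Type u} [SmallCategory D] {K : GrothendieckTopology D} {O_D : Sheaf K CommRingCat.{u}}
  [HasDerivedCategory.{w} (Mod O_C)] [HasDerivedCategory.{w'} (Mod O_D)] (f : RMor O_C O_D)

section Tri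

variable (R : DerivedCategory (Mod O_C) ⥤ DerivedCategory (Mod O_D)) [R.CommShift ℤ]
  [R.IsTriangulated]
  (β : f.push.mapHomotopyCategory (ComplexShape.up ℤ) ⋙ DerivedCategory.Qh ⟶
    DerivedCategory.Qh ⋙ R)
  [R.IsRightDerivedFunctor β (HomotopyCategory.quasiIso (Mod O_C) (ComplexShape.up ℤ))]
  [HasInjectiveResolutions (Mod O_C)]

include β in
/-- `H^{a+p}(Rf_*(M[-a])) = R^p f_* M`. -/
lemma nonempty_homology_single_iso (M : Mod O_C) (a : ℤ) (p : ℕ) (m : ℤ) (hm : m = a + p) :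
    Nonempty ((homologyFunctor (Mod O_D) m).obj (R.obj ((singleFunctor (Mod O_C) a).obj M)) ≅
      (f.Rpush p).obj M) := by
  haveI : IsGrothendieckAbelian.{u} (Mod O_C) := Groth.Agent.S0484.result J (ringSh O_C)
  obtain ⟨e0⟩ := Groth.Agent.Lib.Helper34.RDSingle.nonempty_homology_single_iso f.push R β M p
  let e1 : ((singleFunctor (Mod O_C) 0).obj M)⟦-a⟧ ≅ (singleFunctor (Mod O_C) a).obj M :=
    ((singleFunctors (Mod O_C)).shiftIso (-a) a 0 (by omega)).app M
  let e2 : R.obj (((singleFunctor (Mod O_C) 0).obj M)⟦-a⟧) ≅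
      (R.obj ((singleFunctor (Mod O_C) 0).obj M))⟦-a⟧ :=
    (R.commShiftIso (-a)).app _
  let e3 : (homologyFunctor (Mod O_D) m).obj
      ((R.obj ((singleFunctor (Mod O_C) 0).obj M))⟦-a⟧) ≅
      (homologyFunctor (Mod O_D) (p : ℤ)).obj (R.obj ((singleFunctor (Mod O_C) 0).obj M)) :=
    ((homologyFunctor (Mod O_D) 0).shiftIso (-a) m p (by omega)).app _
  exact ⟨(homologyFunctor (Mod O_D) m).mapIso (R.mapIso e1.symm ≪≫ e2) ≪≫ e3 ≪≫ e0⟩

include β in
/-- the lowest cohomology of `Rf_* Y` for `Y ≥ a`. -/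
lemma nonempty_homology_low_iso (Y : DerivedCategory (Mod O_C)) (a : ℤ) [Y.IsGE a] :
    Nonempty ((homologyFunctor (Mod O_D) a).obj (R.obj Y) ≅
      (f.Rpush 0).obj ((homologyFunctor (Mod O_C) a).obj Y)) := by
  have hT := TStructure.t.triangleLTGE_distinguished (a + 1) Y
  have hT' := R.map_distinguished _ hT
  have hGE : (R.obj ((TStructure.t.truncGE (a + 1)).obj Y)).IsGE (a + 1) :=
    isGE_R f R β _ (a + 1)
  have hiso : IsIso ((homologyFunctor (Mod O_D) a).map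
      (R.map ((TStructure.t.truncLTι (a + 1)).app Y))) :=
    @AdjDevissage.isIso_homology_mor₁_of_isGE _ _ _ _ _ hT' (a + 1) a (by omega) hGE
  set Z := (TStructure.t.truncLT (a + 1)).obj Y with hZ
  haveI : Z.IsLE a := inferInstanceAs (TStructure.t.IsLE ((TStructure.t.truncLT (a + 1)).obj Y) a)
  haveI : Z.IsGE a := inferInstanceAs (TStructure.t.IsGE ((TStructure.t.truncLT (a + 1)).obj Y) a)
  obtain ⟨A, ⟨e⟩⟩ := exists_iso_singleFunctor_obj_of_isGE_of_isLE Z a
  have hι := EssConstDer.isIso_homology_truncLTι Y (a + 1) a (by omega)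
  let eA : (homologyFunctor (Mod O_C) a).obj Y ≅ A :=
    (asIso ((homologyFunctor (Mod O_C) a).map ((TStructure.t.truncLTι (a + 1)).app Y))).symm ≪≫
      (homologyFunctor (Mod O_C) a).mapIso e ≪≫
      (singleFunctorCompHomologyFunctorIso (Mod O_C) a).app A
  obtain ⟨e'⟩ := nonempty_homology_single_iso f R β A a 0 a (by simp)
  exact ⟨(asIso ((homologyFunctor (Mod O_D) a).map
      (R.map ((TStructure.t.truncLTι (a + 1)).app Y)))).symm ≪≫
    (homologyFunctor (Mod O_D) a).mapIso (R.mapIso e) ≪≫ e' ≪≫ (f.Rpush 0).mapIso eA.symm⟩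

include β in
/-- conservativity on bounded below objects. -/
lemma isZero_homology_of_isZero_R_plus (A : ObjectProperty (Mod O_C))
    (hcons : ∀ M : Mod O_C, A M → IsZero ((f.Rpush 0).obj M) → IsZero M)
    (Y : DerivedCategory (Mod O_C)) (hY : WSerre.cohIn A Y) (a : ℤ) [Y.IsGE a]
    (hR : ∀ j, IsZero ((homologyFunctor (Mod O_D) j).obj (R.obj Y))) :
    ∀ j, IsZero ((homologyFunctor (Mod O_C) j).obj Y) := by
  have hk : ∀ k : ℕ, Y.IsGE (a + k) := by
    intro k
    induction k with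
    | zero => simpa using ‹Y.IsGE a›
    | succ k ih =>
      haveI := ih
      obtain ⟨e⟩ := nonempty_homology_low_iso f R β Y (a + k)
      have hz : IsZero ((homologyFunctor (Mod O_C) (a + k)).obj Y) :=
        hcons _ (hY _) ((hR _).of_iso e.symm)
      rw [isGE_iff]
      intro i hi
      by_cases h : i < a + k
      · exact isZero_of_isGE Y (a + k) i h
      · have : i = a + k := by push_cast at hi; omega
        subst this
        exact hz
  intro j
  obtain ⟨k, hk'⟩ : ∃ k : ℕ, j < a + k := ⟨(j - a + 1).toNat, by omega⟩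
  haveI := hk k
  exact isZero_of_isGE Y (a + k) j hk'

variable (A : ObjectProperty (Mod O_C)) [WSerre.IsWeakSerre A]
  (B : Set C) (B' : Set D)
  (hB : ∀ U : C, ∃ (ι : Type u) (Y : ι → C) (g : ∀ i, Y i ⟶ U),
    Sieve.ofArrows Y g ∈ J U ∧ ∀ i, Y i ∈ B)
  (hA : ∀ V ∈ B, ∃ d : ℕ, ∀ T ∈ J V, ∃ (ι : Type u) (Y : ι → C) (g : ∀ i, Y i ⟶ V),
    (∀ i, T.arrows (g i)) ∧ Sieve.ofArrows Y g ∈ J V ∧
    ∀ (i : ι) (F : Mod O_C), A F → ∀ k : ℕ, d < k → Subsingleton (ModSite.HU O_C F k (Y i)))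
  (hB' : ∀ U : D, ∃ (ι : Type u) (Y : ι → D) (g : ∀ i, Y i ⟶ U),
    Sieve.ofArrows Y g ∈ K U ∧ ∀ i, Y i ∈ B')
  (hA' : ∀ V ∈ B', ∃ d : ℕ, ∀ T ∈ K V, ∃ (ι : Type u) (Y : ι → D) (g : ∀ i, Y i ⟶ V),
    (∀ i, T.arrows (g i)) ∧ Sieve.ofArrows Y g ∈ K V ∧
    ∀ (i : ι) (F : Mod O_C), A F → ∀ k : ℕ, d < k →
      Subsingleton (ModSite.HU O_C F k (f.fn.obj (Y i))))
  (h3 : ∀ F : Mod O_C, A F → ∀ p : ℕ, (0 : ℤ) < (p : ℤ) → IsZero ((f.Rpush p).obj F))
  (hcons : ∀ M : Mod O_C, A M → IsZero ((f.Rpush 0).obj M) → IsZero M)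

include β hB hA hB' hA' h3 hcons in
/-- **Conservativity of `Rf_*` on `D_A`** when `R^p f_*` vanishes on `A` for `p > 0` and
`f_*` is conservative on `A`. -/
theorem isZero_homology_of_isZero_R (X : DerivedCategory (Mod O_C)) (hX : WSerre.cohIn A X)
    (hR : ∀ j, IsZero ((homologyFunctor (Mod O_D) j).obj (R.obj X))) :
    ∀ j, IsZero ((homologyFunctor (Mod O_C) j).obj X) := by
  intro j
  obtain ⟨n, hn⟩ : ∃ n : ℕ, -(n : ℤ) ≤ j := ⟨(-j).toNat, by omega⟩
  set Y := (TStructure.t.truncGE (-(n : ℤ))).obj X with hYdef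
  have hY : WSerre.cohIn A Y := cohIn_truncGE A hX _
  haveI : Y.IsGE (-(n : ℤ)) :=
    inferInstanceAs (TStructure.t.IsGE ((TStructure.t.truncGE (-(n : ℤ))).obj X) (-(n : ℤ)))
  have hRY : ∀ i, IsZero ((homologyFunctor (Mod O_D) i).obj (R.obj Y)) := by
    intro i
    by_cases hi : i < -(n : ℤ)
    · haveI : (R.obj Y).IsGE (-(n : ℤ)) := isGE_R f R β Y _
      exact isZero_of_isGE _ (-(n : ℤ)) i hi
    · have hiso := Groth.Agent.Lib.Helper34.ModPushFinal.main f A B B' hB hA hB' hA' 0 h3 R β X hX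
        n i (by omega)
      exact (hR i).of_iso (asIso ((homologyFunctor (Mod O_D) i).map
        (R.map ((TStructure.t.truncGEπ (-(n : ℤ))).app X)))).symm
  have h1 := isZero_homology_of_isZero_R_plus f R β A hcons Y hY (-(n : ℤ)) hRY j
  have := isIso_homology_truncGEπ X (-(n : ℤ)) j hn
  exact h1.of_iso (asIso ((homologyFunctor (Mod O_C) j).map
    ((TStructure.t.truncGEπ (-(n : ℤ))).app X)))

end Tri

end Groth.Agent.Lib.Helper34.ModPushLow
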