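import Groth.Agent.Lib.Helper34.ModPushUnbdd
import Groth.Agent.Lib.Helper34.DerAdj

/-!
# `Rf_*` has bounded cohomological dimension on `D_A` (non-flat `f`)
-/

set_option autoImplicit false
universe w w' u
open CategoryTheory Limits Pretriangulated DerivedCategory Opposite

namespace Groth.Agent.Lib.Helper34.ModPushMain

open ModSite SiteCmp Groth.Agent.Lib.Helper34.ModFree Groth.Agent.Lib.Helper34.ModPushLZ
  Groth.Agent.Lib.Helper68.HZeroLocal Groth.Agent.Lib.Helper34.ModHZero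
  Groth.Agent.Lib.Helper34.ModVL Groth.Agent.Lib.Helper34.ModTruncRlim
  Groth.Agent.Lib.Helper68.RlimMilnor Groth.Agent.Lib.Helper68.TruncRlim
  Groth.Agent.Lib.Helper32 Groth.Agent.Lib.Helper34.ModPullFree
  Groth.Agent.Lib.Helper34.ModPushBdd Groth.Agent.Lib.Helper34.ModUnbdd
  Groth.Agent.Lib.Helper34.ModPushUnbdd Groth.Agent.Lib.Helper34.ModPushSingle

variable {C : Type u} [SmallCategory C] {J : GrothendieckTopology C} {O_C : Sheaf J CommRingCat.{u}}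
  {D : Type u} [SmallCategory D] {K : GrothendieckTopology D} {O_D : Sheaf K CommRingCat.{u}}
  [HasDerivedCategory.{w} (Mod O_C)] [HasDerivedCategory.{w'} (Mod O_D)] (f : RMor O_C O_D)

section Shift

variable (R : DerivedCategory (Mod O_C) ⥤ DerivedCategory (Mod O_D)) [R.CommShift ℤ]
  (β : f.push.mapHomotopyCategory (ComplexShape.up ℤ) ⋙ DerivedCategory.Qh ⟶
    DerivedCategory.Qh ⋙ R)
  [R.IsRightDerivedFunctor β (HomotopyCategory.quasiIso (Mod O_C) (ComplexShape.up ℤ))]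

include β in
lemma isZero_homology_of_LZ (Y : DerivedCategory (Mod O_C)) (i : ℤ) (h : LZ f (Y⟦i⟧)) :
    IsZero ((homologyFunctor (Mod O_D) i).obj (R.obj Y)) := by
  have h0 : IsZero ((homologyFunctor (Mod O_D) 0).obj (R.obj (Y⟦i⟧))) := isZero_H0 f R β (Y⟦i⟧) h
  have e1 : R.obj (Y⟦i⟧) ≅ (R.obj Y)⟦i⟧ := (R.commShiftIso i).app Y
  have e2 : (homologyFunctor (Mod O_D) 0).obj ((R.obj Y)⟦i⟧) ≅
      (homologyFunctor (Mod O_D) i).obj (R.obj Y) :=
    ((homologyFunctor (Mod O_D) 0).shiftIso i 0 i (by omega)).app (R.obj Y)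
  exact h0.of_iso (e2.symm ≪≫ (homologyFunctor (Mod O_D) 0).mapIso e1.symm)

end Shift

variable [HasInjectiveResolutions (Mod O_C)]
  (A : ObjectProperty (Mod O_C)) [WSerre.IsWeakSerre A]
  (B : Set C) (B' : Set D)
  (hB : ∀ U : C, ∃ (ι : Type u) (Y : ι → C) (g : ∀ i, Y i ⟶ U),
    Sieve.ofArrows Y g ∈ J U ∧ ∀ i, Y i ∈ B)
  (hA : ∀ V ∈ B, ∃ d : ℕ, ∀ T ∈ J V, ∃ (ι : Type u) (Y : ι → C) (g : ∀ i, Y i ⟶ V),
    (∀ i, T.arrows (g i)) ∧ Sieve.ofArrows Y g ∈ J V ∧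
    ∀ (i : ι) (F : Mod O_C), A F → ∀ k : ℕ, d < k → Subsingleton (ModSite.HU O_C F k (Y i)))
  (hB' : ∀ U : D, ∃ (ι : Type u) (Y : ι → D) (g : ∀ i, Y i ⟶ U),
    Sieve.ofArrows Y g ∈ K U ∧ ∀ i, Y i ∈ B')
  (hA' : ∀ V ∈ B', ∃ d : ℕ, ∀ T ∈ K V, ∃ (ι : Type u) (Y : ι → D) (g : ∀ i, Y i ⟶ V),
    (∀ i, T.arrows (g i)) ∧ Sieve.ofArrows Y g ∈ K V ∧
    ∀ (i : ι) (F : Mod O_C), A F → ∀ k : ℕ, d < k →
      Subsingleton (ModSite.HU O_C F k (f.fn.obj (Y i))))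
  (N : ℤ)
  (h3 : ∀ F : Mod O_C, A F → ∀ p : ℕ, N < (p : ℤ) → IsZero ((f.Rpush p).obj F))

include h3 in
lemma hN_of_h3 (F : Mod O_C) (hF : A F) (q : ℤ) (hq : N < q) : LZ f ((S.obj F)⟦q⟧) := by
  by_cases hq0 : q < 0
  · intro V' ξ
    refine ⟨⊤, K.top_mem _, fun W' g _ => ?_⟩
    rw [hom_single_shift_neg _ _ q hq0 ξ, comp_zero]
  · obtain ⟨p, rfl⟩ : ∃ p : ℕ, q = (p : ℤ) := ⟨q.toNat, by omega⟩
    exact LZ_single f F p (h3 F hF p hq)

include hB hA hB' hA' h3 in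
/-- the truncation statement for a triangulated model of `Rf_*`. -/
theorem main_triangulated (R : DerivedCategory (Mod O_C) ⥤ DerivedCategory (Mod O_D))
    [R.CommShift ℤ] [R.IsTriangulated]
    (β : f.push.mapHomotopyCategory (ComplexShape.up ℤ) ⋙ DerivedCategory.Qh ⟶
      DerivedCategory.Qh ⋙ R)
    [R.IsRightDerivedFunctor β (HomotopyCategory.quasiIso (Mod O_C) (ComplexShape.up ℤ))]
    (X : DerivedCategory (Mod O_C)) (hX : WSerre.cohIn A X) (n : ℕ) (j : ℤ)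
    (hj : N - (n : ℤ) ≤ j) :
    IsIso ((homologyFunctor (Mod O_D) j).map
      (R.map ((TStructure.t.truncGEπ (-(n : ℤ))).app X))) := by
  have hT := TStructure.t.triangleLTGE_distinguished (-(n : ℤ)) X
  have hT' := R.map_distinguished _ hT
  have hLT : WSerre.cohIn A ((TStructure.t.truncLT (-(n : ℤ))).obj X) :=
    cohIn_truncLT A hX _
  have hLE : (R.obj ((TStructure.t.truncLT (-(n : ℤ))).obj X)).IsLE (N - (n : ℤ) - 1) := by
    rw [isLE_iff]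
    intro i hi
    apply isZero_homology_of_LZ f R β
    exact LZ_unbdd f A N (hN_of_h3 f A N h3) B B' hB hA hB' hA' _ hLT (-(n : ℤ) - 1) i (by omega)
  exact isIso_homology_mor₂_of_isLE _ hT' (N - (n : ℤ)) j hj hLE

end Groth.Agent.Lib.Helper34.ModPushMain
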