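import Groth.Agent.Lib.Helper34.ModPushLZ
import Groth.Agent.Lib.Cohomology.Helper3_ExtPreSh
import Groth.Agent.Lib.Cohomology.Helper3_RDerComp2

/-!
# Local vanishing of `Ext^p(f^* P_{V'}, F)` from the vanishing of `R^p f_* F`
-/

set_option autoImplicit false
universe w w' u
open CategoryTheory Limits Pretriangulated DerivedCategory Opposite

namespace Groth.Agent.Lib.Helper34.ModPushSingle

open ModSite SiteCmp Groth.Agent.Lib.Helper34.ModFree Groth.Agent.Lib.Helper34.ModPushLZ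
  Groth.Agent.Lib.Helper68.HZeroLocal Groth.Agent.Lib.Helper34.ModHZero
  Groth.Agent.Lib.Cohomology.ExtPreSh Abelian

variable {C : Type u} [SmallCategory C] {J : GrothendieckTopology C} {O_C : Sheaf J CommRingCat.{u}}
  {D : Type u} [SmallCategory D] {K : GrothendieckTopology D} {O_D : Sheaf K CommRingCat.{u}}
  (f : RMor O_C O_D)

/-- `V' ↦ f^* P_{V'}` as a functor. -/
noncomputable def PF : D ⥤ Mod O_C :=
  yoneda ⋙ presheafToSheaf K (Type u) ⋙ Groth.Agent.Lib.Helper19.CechMod.GO (ringSh O_D) ⋙ f.pull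

lemma PF_obj (V' : D) : (PF f).obj V' = f.pull.obj (P O_D V') := rfl

lemma PF_map {V' W' : D} (g : W' ⟶ V') : (PF f).map g = f.pull.map (Pmap O_D g) := rfl

section

variable [HasExt.{u} (Mod O_C)]

/-- sections of `f_* F` over `V'` are `Ext^0(f^* P_{V'}, F)`. -/
noncomputable def secEquiv (F : Mod O_C) (V' : D) :
    ((f.push ⋙ T O_D).obj F).obj.obj (op V') ≃+ Ext.{u} ((PF f).obj V') F 0 :=
  (homEquivSect O_D V' (f.push.obj F)).symm.trans
    ((f.adj.homAddEquiv (P O_D V') F).symm.trans Ext.addEquiv₀.symm)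

/-- the adjoint map, typed with `PF`. -/
noncomputable def adjP (F : Mod O_C) (V' : D) (a : P O_D V' ⟶ f.push.obj F) : (PF f).obj V' ⟶ F :=
  (f.adj.homEquiv (P O_D V') F).symm a

omit [HasExt.{u} (Mod O_C)] in
lemma adjP_Pmap (F : Mod O_C) {V' W' : D} (g : W' ⟶ V') (a : P O_D V' ⟶ f.push.obj F) :
    adjP f F W' (Pmap O_D g ≫ a) = (PF f).map g ≫ adjP f F V' a :=
  Adjunction.homEquiv_naturality_left_symm _ _ _

omit [HasExt.{u} (Mod O_C)] in
lemma adjP_comp {F F' : Mod O_C} (φ : F ⟶ F') (V' : D) (a : P O_D V' ⟶ f.push.obj F) :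
    adjP f F' V' (a ≫ f.push.map φ) = adjP f F V' a ≫ φ :=
  Adjunction.homEquiv_naturality_right_symm _ _ _

lemma secEquiv_apply (F : Mod O_C) (V' : D) (s : ((f.push ⋙ T O_D).obj F).obj.obj (op V')) :
    secEquiv f F V' s = Ext.mk₀ (adjP f F V' (ofSect O_D V' (f.push.obj F) s)) := rfl

noncomputable def e₀ (F : Mod O_C) : ((f.push ⋙ T O_D).obj F).obj ≅ Epre (PF f) F 0 :=
  NatIso.ofComponents (fun V => (secEquiv f F V.unop).toAddCommGrpIso) (by
    intro V W g
    ext s
    change secEquiv f F W.unop ((((T O_D).obj (f.push.obj F)).obj.map g).hom s) =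
      (Ext.mk₀ ((PF f).map g.unop)).comp (secEquiv f F V.unop s) (zero_add 0)
    have h1 : ofSect O_D W.unop (f.push.obj F) ((((T O_D).obj (f.push.obj F)).obj.map g).hom s) =
        Pmap O_D g.unop ≫ ofSect O_D V.unop (f.push.obj F) s := by
      apply (evalGen_bijective O_D W.unop (f.push.obj F)).1
      rw [evalGen_ofSect, evalGen_Pmap_comp, evalGen_ofSect]
      rfl
    rw [secEquiv_apply, secEquiv_apply, Ext.mk₀_comp_mk₀, h1, adjP_Pmap])

lemma he₀ {F F' : Mod O_C} (φ : F ⟶ F') :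
    ((f.push ⋙ T O_D).map φ).hom ≫ (e₀ f F').hom = (e₀ f F).hom ≫ EpreMap (PF f) φ 0 := by
  ext V s
  change secEquiv f F' V.unop ((((T O_D).map (f.push.map φ)).hom.app V).hom s) =
    (secEquiv f F V.unop s).comp (Ext.mk₀ φ) (add_zero 0)
  have h1 : ofSect O_D V.unop (f.push.obj F') ((((T O_D).map (f.push.map φ)).hom.app V).hom s) =
      ofSect O_D V.unop (f.push.obj F) s ≫ f.push.map φ := by
    apply (evalGen_bijective O_D V.unop (f.push.obj F')).1
    rw [evalGen_ofSect, evalGen_comp, evalGen_ofSect]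
  rw [secEquiv_apply, secEquiv_apply, Ext.mk₀_comp_mk₀, h1, adjP_comp]

end

omit [SmallCategory C] in
/-- sections of a presheaf with zero sheafification vanish locally. -/
lemma equalizerSieve_zero_mem (E : Dᵒᵖ ⥤ AddCommGrpCat.{u})
    (hz : IsZero ((presheafToSheaf K AddCommGrpCat.{u}).obj E)) (V' : D) (x : E.obj (op V')) :
    Presheaf.equalizerSieve (F := E) (X := op V') x 0 ∈ K V' := by
  haveI : Presheaf.IsLocallyInjective K (toSheafify K E) :=
    Presheaf.isLocallyInjective_toSheafify' K E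
  have h1 : IsZero ((sheafify K E).obj (op V')) :=
    ((evaluation _ _).obj (op V')).map_isZero
      ((sheafToPresheaf K AddCommGrpCat.{u}).map_isZero hz)
  haveI : Subsingleton ((sheafify K E).obj (op V')) := AddCommGrpCat.subsingleton_of_isZero h1
  have h2 : (toSheafify K E).app (op V') x = (toSheafify K E).app (op V') 0 :=
    Subsingleton.elim _ _
  exact Presheaf.equalizerSieve_mem K (toSheafify K E) x 0 h2

variable [HasDerivedCategory.{w} (Mod O_C)]

/-- if `R^p f_* F = 0`, maps `f^* P_{V'}[0] ⟶ F[p]` vanish locally. -/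
theorem LZ_single [HasInjectiveResolutions (Mod O_C)] (F : Mod O_C) (p : ℕ)
    (hz : IsZero ((f.push.rightDerived p).obj F)) : LZ f ((S.obj F)⟦(p : ℤ)⟧) := by
  haveI : EnoughInjectives (Mod O_C) := Groth.Agent.S0485.result J (ringSh O_C)
  haveI : HasExt.{u} (Mod O_C) := hasExt_of_enoughInjectives.{u} _
  haveI := Groth.Agent.Lib.Helper94.ModSiteBasic.toSheaf_preservesFiniteColimits (ringSh O_D)
  haveI : PreservesLimitsOfSize.{0, 0} f.push := f.adj.rightAdjoint_preservesLimits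
  obtain ⟨e1⟩ := Groth.Agent.Lib.Cohomology.RDerComp.nonempty_rightDerived_post_iso f.push (T O_D) p
  obtain ⟨e2⟩ := rightDerived_iso_sheafify K (PF f) (f.push ⋙ T O_D) (e₀ f) (he₀ f) p F
  have hz2 : IsZero ((shY K).obj (Epre (PF f) F p)) :=
    IsZero.of_iso ((T O_D).map_isZero hz) (e2.symm ≪≫ e1.app F)
  intro V' ξ
  let x : Ext.{u} ((PF f).obj V') F p := Ext.homEquiv.symm ξ
  have hx : x.hom = ξ := Equiv.apply_symm_apply _ _
  have hmem := equalizerSieve_zero_mem (K := K) (Epre (PF f) F p) hz2 V' x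
  refine ⟨_, hmem, fun W' g hg => ?_⟩
  have h3 : (Ext.mk₀ ((PF f).map g)).comp x (zero_add p) = 0 := by
    have h4 : ((Epre (PF f) F p).map g.op).hom x = ((Epre (PF f) F p).map g.op).hom 0 := hg
    rw [map_zero, Epre_map_apply] at h4
    exact h4
  have h5 := congrArg Ext.hom h3
  rw [Ext.comp_hom, Ext.mk₀_hom, ShiftedHom.mk₀_comp, hx, Ext.zero_hom] at h5
  exact h5

end Groth.Agent.Lib.Helper34.ModPushSingle
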