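import Groth.Agent.Lib.Helper34.ModPushBdd
import Groth.Agent.Lib.Helper34.ModUnbdd

/-!
# Local vanishing of maps out of `f^* P_{V'}` into unbounded complexes with cohomology in `A`
-/

set_option autoImplicit false
universe w w' u
open CategoryTheory Limits Pretriangulated DerivedCategory Opposite

namespace Groth.Agent.Lib.Helper34.ModPushUnbdd

open ModSite SiteCmp Groth.Agent.Lib.Helper34.ModFree Groth.Agent.Lib.Helper34.ModPushLZ
  Groth.Agent.Lib.Helper68.HZeroLocal Groth.Agent.Lib.Helper34.ModHZero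
  Groth.Agent.Lib.Helper34.ModVL Groth.Agent.Lib.Helper34.ModTruncRlim
  Groth.Agent.Lib.Helper68.RlimMilnor Groth.Agent.Lib.Helper68.TruncRlim
  Groth.Agent.Lib.Helper32 Groth.Agent.Lib.Helper34.ModPullFree
  Groth.Agent.Lib.Helper34.ModPushBdd Groth.Agent.Lib.Helper34.ModUnbdd

variable {C : Type u} [SmallCategory C] {J : GrothendieckTopology C} {O_C : Sheaf J CommRingCat.{u}}
  {D : Type u} [SmallCategory D] {K : GrothendieckTopology D} {O_D : Sheaf K CommRingCat.{u}}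
  [HasDerivedCategory.{w} (Mod O_C)] (f : RMor O_C O_D)
  (A : ObjectProperty (Mod O_C)) [WSerre.IsWeakSerre A] (N : ℤ)
  (hN : ∀ F : Mod O_C, A F → ∀ q : ℤ, N < q → LZ f ((S.obj F)⟦q⟧))
  (B : Set C) (B' : Set D)
  (hB : ∀ U : C, ∃ (ι : Type u) (Y : ι → C) (g : ∀ i, Y i ⟶ U),
    Sieve.ofArrows Y g ∈ J U ∧ ∀ i, Y i ∈ B)
  (hA : ∀ V ∈ B, ∃ d : ℕ, ∀ T ∈ J V, ∃ (ι : Type u) (Y : ι → C) (g : ∀ i, Y i ⟶ V),
    (∀ i, T.arrows (g i)) ∧ Sieve.ofArrows Y g ∈ J V ∧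
    ∀ (i : ι) (F : Mod O_C), A F → ∀ k : ℕ, d < k → Subsingleton (ModSite.HU O_C F k (Y i)))
  (hB' : ∀ U : D, ∃ (ι : Type u) (Y : ι → D) (g : ∀ i, Y i ⟶ U),
    Sieve.ofArrows Y g ∈ K U ∧ ∀ i, Y i ∈ B')
  (hA' : ∀ V ∈ B', ∃ d : ℕ, ∀ T ∈ K V, ∃ (ι : Type u) (Y : ι → D) (g : ∀ i, Y i ⟶ V),
    (∀ i, T.arrows (g i)) ∧ Sieve.ofArrows Y g ∈ K V ∧
    ∀ (i : ι) (F : Mod O_C), A F → ∀ k : ℕ, d < k →
      Subsingleton (ModSite.HU O_C F k (f.fn.obj (Y i))))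

include hN hB hA hB' hA' in
theorem LZ_unbdd (Y : DerivedCategory (Mod O_C)) (hY : WSerre.cohIn A Y) (b : ℤ) [Y.IsLE b]
    (j : ℤ) (hj : b + N < j) : LZ f (Y⟦j⟧) := by
  haveI : HasProduct (CohCx.truncTower Y) := hasProduct_derived O_C _
  have hRlim : CohCx.IsRlimVia (CohCx.truncTower Y) (CohCx.truncTowerMap Y) Y
      (CohCx.toTruncTower Y) := by
    refine Groth.Agent.Lib.Helper34.ModTruncRlim.main_site Y B hB ?_
    intro V hV
    obtain ⟨d, hd⟩ := hA V hV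
    refine ⟨fun m => (d : ℤ) + max m 0, fun T' hT => ?_⟩
    obtain ⟨ι, Yc, g, hg, hcov, hv⟩ := hd T' hT
    refine ⟨ι, Yc, g, hg, hcov, fun i m k hk => ?_⟩
    have hk' : (d : ℤ) + max m 0 < (k : ℤ) := hk
    exact hv i _ (hY (m - k)) k (by omega)
  have hYn : ∀ n, WSerre.cohInPlus A (CohCx.truncTower Y n) := fun n =>
    ⟨cohIn_truncGE A hY _, ⟨-(n : ℤ), inferInstance⟩⟩
  rw [LZ_iff]
  intro V' ξ
  obtain ⟨ι, Yc, g, hcov, hYc⟩ := hB' V'
  refine zeroSieve_mem_of_ofArrows f ξ Yc g hcov (fun i => ?_)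
  obtain ⟨d, hd⟩ := hA' (Yc i) (hYc i)
  generalize S.map (f.pull.map (Pmap O_D (g i))) ≫ ξ = ξ₁
  -- the threshold
  obtain ⟨m, hm⟩ : ∃ m : ℕ, -(m : ℤ) ≤ j - d - 2 := ⟨(-(j - d - 2)).toNat, by omega⟩
  -- bounded truncation
  have hT : zeroSieve f (ξ₁ ≫ (CohCx.toTruncTower Y m)⟦j⟧') ∈ K (Yc i) := by
    have hz : ∀ q, q < -(m : ℤ) ∨ b < q →
        IsZero ((homologyFunctor (Mod O_C) q).obj (CohCx.truncTower Y m)) := by
      intro q hq
      by_cases hq' : q < -(m : ℤ)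
      · exact isZero_of_isGE _ (-(m : ℤ)) q hq'
      · have hb : b < q := by omega
        have := isIso_homology_toTruncTower Y m q (by omega)
        exact (isZero_of_isLE Y b q hb).of_iso
          (asIso ((homologyFunctor (Mod O_C) q).map (CohCx.toTruncTower Y m))).symm
    have h1 := LZ_bdd f A N hN (b + m + 1).toNat (-(m : ℤ)) b (CohCx.truncTower Y m)
      (by omega) (hYn m).1 hz j hj
    rw [LZ_iff] at h1
    exact h1 _ _
  obtain ⟨ι₂, Y₂, g₂, hg₂, hcov₂, hv₂⟩ := hd _ hT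
  refine K.superset_covering ?_ hcov₂
  intro W' k hk
  obtain ⟨i₂, k', rfl⟩ := (Sieve.mem_ofArrows_iff Y₂ g₂ k).1 hk
  apply (zeroSieve f ξ₁).downward_closed
  change S.map (f.pull.map (Pmap O_D (g₂ i₂))) ≫ ξ₁ = 0
  have hζ : (S.map (f.pull.map (Pmap O_D (g₂ i₂))) ≫ ξ₁) ≫ (CohCx.toTruncTower Y m)⟦j⟧' = 0 := by
    rw [Category.assoc]
    exact hg₂ i₂
  generalize S.map (f.pull.map (Pmap O_D (g₂ i₂))) ≫ ξ₁ = ζ at hζ ⊢
  have hW : CD A (f.fn.obj (Y₂ i₂)) d := hv₂ i₂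
  have hgood : Good (CohCx.truncTower Y) (CohCx.truncTowerMap Y) j m (f.fn.obj (Y₂ i₂)) :=
    good_of_threshold (CohCx.truncTower Y) (CohCx.truncTowerMap Y) hW hYn j m
      (fun n hn q h1 _ => isIso_homology_truncTowerMap Y n q (by omega)) m le_rfl
  have h0 : S.map (pullPIso f (Y₂ i₂)).inv ≫ ζ = 0 :=
    eq_zero_of_good (CohCx.truncTower Y) (CohCx.truncTowerMap Y) Y (CohCx.toTruncTower Y) hRlim
      j m (f.fn.obj (Y₂ i₂)) hgood _ (by rw [Category.assoc, hζ, comp_zero])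
  have h1 : ζ = S.map (pullPIso f (Y₂ i₂)).hom ≫ S.map (pullPIso f (Y₂ i₂)).inv ≫ ζ := by
    rw [← Category.assoc, ← Functor.map_comp, Iso.hom_inv_id, CategoryTheory.Functor.map_id,
      Category.id_comp]
  rw [h1, h0, comp_zero]

end Groth.Agent.Lib.Helper34.ModPushUnbdd
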