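import Groth.Agent.Lib.Helper34.ModVL

/-!
# Cohomology sheaves of a derived limit of an eventually constant tower in `D^+_A(O)`
-/

set_option autoImplicit false
universe w u
open CategoryTheory Limits Pretriangulated DerivedCategory Opposite

namespace Groth.Agent.Lib.Helper34.ModRlimConst

open ModSite Groth.Agent.Lib.Helper68.HZeroLocal Groth.Agent.Lib.Helper34.ModFree
  Groth.Agent.Lib.Helper34.ModHZero Groth.Agent.Lib.Helper34.ModTruncRlim
  Groth.Agent.Lib.Helper34.ModVL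
open Groth.Agent.Lib.Helper68.RlimMilnor Groth.Agent.Lib.Helper68.DerLimSh
  Groth.Agent.Lib.Helper68.TruncRlim Groth.Agent.Lib.Helper68.RlimInj

section General

lemma exists_compatible (N : ℕ) : ∀ (X : ℕ → Type w) (t : ∀ n, X (n + 1) → X n),
    (∀ n, N ≤ n → Function.Surjective (t n)) → ∀ ξ : X N,
    ∃ x : ∀ n, X n, (∀ n, t n (x (n + 1)) = x n) ∧ x N = ξ := by
  induction N with
  | zero =>
    intro X t h ξ
    let x : ∀ n, X n := fun n => Nat.rec (motive := fun n => X n) ξ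
      (fun n xn => Classical.choose (h n (Nat.zero_le n) xn)) n
    exact ⟨x, fun n => Classical.choose_spec (h n (Nat.zero_le n) (x n)), rfl⟩
  | succ N ih =>
    intro X t h ξ
    obtain ⟨x', hx', hξ⟩ := ih (fun n => X (n + 1)) (fun n => t (n + 1))
      (fun n hn => h (n + 1) (by omega)) ξ
    refine ⟨fun n => match n with
      | 0 => t 0 (x' 0)
      | n + 1 => x' n, ?_, hξ⟩
    intro n
    cases n with
    | zero => rfl
    | succ n => exact hx' n

end General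

variable {C : Type u} [SmallCategory C] {J : GrothendieckTopology C} {O : Sheaf J CommRingCat.{u}}
  [HasDerivedCategory.{w} (Mod O)]
  (A : ObjectProperty (Mod O)) [WSerre.IsWeakSerre A]
  (K : ℕ → DerivedCategory (Mod O)) (t : ∀ n, K (n + 1) ⟶ K n)

omit [WSerre.IsWeakSerre A] in
lemma exists_threshold
    (hconst : ∀ j : ℤ, ∃ n₀ : ℕ, ∀ n, n₀ ≤ n → IsIso ((homologyFunctor (Mod O) j).map (t n)))
    (lo hi : ℤ) : ∃ N : ℕ, ∀ n, N ≤ n → ∀ q, lo ≤ q → q ≤ hi →
      IsIso ((homologyFunctor (Mod O) q).map (t n)) := by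
  choose n₀ hn₀ using hconst
  refine ⟨(Finset.Icc lo hi).sup n₀, fun n hn q h1 h2 => hn₀ q n (le_trans ?_ hn)⟩
  exact Finset.le_sup (f := n₀) (Finset.mem_Icc.2 ⟨h1, h2⟩)

lemma isIso_H_transition (j : ℤ) (n : ℕ)
    (hn : ∀ m, n ≤ m → IsIso (H.map ((t m)⟦j⟧'))) (k : ℕ) :
    IsIso (H.map ((CohCx.transition K t n k)⟦j⟧')) := by
  induction k with
  | zero =>
    change IsIso (H.map ((𝟙 (K n))⟦j⟧'))
    rw [CategoryTheory.Functor.map_id, CategoryTheory.Functor.map_id]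
    infer_instance
  | succ k ih =>
    change IsIso (H.map ((t (n + k) ≫ CohCx.transition K t n k)⟦j⟧'))
    rw [Functor.map_comp, Functor.map_comp]
    have := hn (n + k) (by omega)
    infer_instance

omit [HasDerivedCategory.{w} (Mod O)] in
lemma eq_of_equalizerSieve_mem' (G : Sheaf J AddCommGrpCat.{u}) {V : C} (s s' : G.obj.obj (op V))
    (h : Presheaf.equalizerSieve (F := G.obj) s s' ∈ J V) : s = s' := by
  have hsep : Presieve.IsSeparated J (G.obj ⋙ forget _) := by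
    apply Presieve.IsSheaf.isSeparated
    rw [← isSheaf_iff_isSheaf_of_type]
    exact ((sheafCompose J (forget AddCommGrpCat.{u})).obj G).2
  exact (hsep _ h).ext (fun W g hg => hg)

variable [HasProduct K] (L : DerivedCategory (Mod O)) (a : ∀ n, L ⟶ K n)
  (hL : CohCx.IsRlimVia K t L a)

include hL in
/-- local surjectivity at a large index. -/
lemma imageSieve_mem (hK : ∀ n, WSerre.cohInPlus A (K n)) (j : ℤ) (V : C) (d N : ℕ)
    (hN : ∀ n, N ≤ n → ∀ q, j - d - 2 ≤ q → q ≤ j + 1 →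
      IsIso ((homologyFunctor (Mod O) q).map (t n)))
    (hV : ∀ T' ∈ J V, ∃ (ι : Type u) (Y : ι → C) (g : ∀ i, Y i ⟶ V),
      (∀ i, T'.arrows (g i)) ∧ Sieve.ofArrows Y g ∈ J V ∧ ∀ i, CD A (Y i) d)
    (nV : ℕ) (hnV : N ≤ nV) (s : ((T O).obj (H.obj ((K nV)⟦j⟧))).obj.obj (op V)) :
    Presheaf.imageSieve ((T O).map (H.map ((a nV)⟦j⟧'))).hom s ∈ J V := by
  obtain ⟨R, hR, hlift⟩ := locSurj_aux ((K nV)⟦j⟧) V s
  obtain ⟨ι, Yc, g, hg, hcov, hCD⟩ := hV R hR
  refine J.superset_covering ?_ hcov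
  rw [Sieve.ofArrows, Sieve.generate_le_iff]
  rintro W' k ⟨i⟩
  obtain ⟨ξ, hξ⟩ := hlift (g i) (hg i)
  have hsurj : ∀ m, N ≤ m → Function.Surjective
      (fun x : S.obj (P O (Yc i)) ⟶ (K (m + 1))⟦j⟧ => x ≫ (t m)⟦j⟧') := fun m hm =>
    (bijective_transition K t (hCD i) hK m j
      (fun q h1 h2 => hN m hm q (by omega) h2)).2
  obtain ⟨x, hx, hxN⟩ := exists_compatible nV
    (fun m => (S.obj (P O (Yc i)) ⟶ (K m)⟦j⟧)) (fun m x => x ≫ (t m)⟦j⟧')
    (fun m hm => hsurj m (by omega)) ξ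
  obtain ⟨y, hy⟩ := exists_of_compatible K t L a hL (S.obj (P O (Yc i))) j x hx
  refine ⟨ηU (L⟦j⟧) (Yc i) y, ?_⟩
  have h1 := ηU_comp ((a nV)⟦j⟧') (Yc i) y
  rw [hy nV, hxN, hξ] at h1
  exact h1.symm

include hL in
/-- injectivity on sections at a large index. -/
lemma injective_at (hK : ∀ n, WSerre.cohInPlus A (K n)) (j : ℤ) (V : C) (d N : ℕ)
    (hN : ∀ n, N ≤ n → ∀ q, j - d - 2 ≤ q → q ≤ j + 1 →
      IsIso ((homologyFunctor (Mod O) q).map (t n)))
    (hV : ∀ T' ∈ J V, ∃ (ι : Type u) (Y : ι → C) (g : ∀ i, Y i ⟶ V),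
      (∀ i, T'.arrows (g i)) ∧ Sieve.ofArrows Y g ∈ J V ∧ ∀ i, CD A (Y i) d)
    (nV : ℕ) (hnV : N ≤ nV) :
    Function.Injective (((T O).map (H.map ((a nV)⟦j⟧'))).hom.app (op V)) := by
  apply injective_H0 K t L a hL j nV V
  intro T' hT
  obtain ⟨ι, Y, g, hg, hcov, hCD⟩ := hV T' hT
  exact ⟨ι, Y, g, hg, hcov, fun i => good_of_threshold K t (hCD i) hK j N hN nV hnV⟩

include hL in
theorem isIso_H_shift (B : Set C)
    (hB : ∀ U : C, ∃ (ι : Type u) (Y : ι → C) (g : ∀ i, Y i ⟶ U),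
      Sieve.ofArrows Y g ∈ J U ∧ ∀ i, Y i ∈ B)
    (hA : ∀ V ∈ B, ∃ d : ℕ, ∀ T' ∈ J V, ∃ (ι : Type u) (Y : ι → C) (g : ∀ i, Y i ⟶ V),
      (∀ i, T'.arrows (g i)) ∧ Sieve.ofArrows Y g ∈ J V ∧ ∀ i, CD A (Y i) d)
    (hK : ∀ n, WSerre.cohInPlus A (K n))
    (hconst : ∀ j : ℤ, ∃ n₀ : ℕ, ∀ n, n₀ ≤ n → IsIso ((homologyFunctor (Mod O) j).map (t n)))
    (j : ℤ) (n : ℕ) (hn : ∀ m, n ≤ m → IsIso (H.map ((t m)⟦j⟧'))) :
    IsIso (H.map ((a n)⟦j⟧')) := by
  haveI := Groth.Agent.Lib.Helper94.ModSiteBasic.toSheaf_preservesFiniteColimits (ringSh O)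
  -- factorisation through a larger index
  have hfac : ∀ N : ℕ, H.map ((a (n + N))⟦j⟧') ≫ H.map ((CohCx.transition K t n N)⟦j⟧') =
      H.map ((a n)⟦j⟧') := fun N => by
    rw [← Functor.map_comp, ← Functor.map_comp, a_transition K t L a hL]
  have hτ : ∀ N : ℕ, IsIso (H.map ((CohCx.transition K t n N)⟦j⟧')) :=
    isIso_H_transition K t j n hn
  -- data attached to members of B
  have hdata : ∀ V ∈ B, ∃ (d N : ℕ), (∀ m, N ≤ m → ∀ q, j - d - 2 ≤ q → q ≤ j + 1 →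
      IsIso ((homologyFunctor (Mod O) q).map (t m))) ∧
      (∀ T' ∈ J V, ∃ (ι : Type u) (Y : ι → C) (g : ∀ i, Y i ⟶ V),
        (∀ i, T'.arrows (g i)) ∧ Sieve.ofArrows Y g ∈ J V ∧ ∀ i, CD A (Y i) d) := by
    intro V hV
    obtain ⟨d, hd⟩ := hA V hV
    obtain ⟨N, hN⟩ := exists_threshold K t hconst (j - d - 2) (j + 1)
    exact ⟨d, N, hN, hd⟩
  let φ := (T O).map (H.map ((a n)⟦j⟧'))
  -- injectivity on members of B
  have hinjB : ∀ V ∈ B, Function.Injective (φ.hom.app (op V)) := by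
    intro V hV
    obtain ⟨d, N, hN, hd⟩ := hdata V hV
    have h1 := injective_at A K t L a hL hK j V d N hN hd (n + N) (by omega)
    have h2 : Function.Injective
        (((T O).map (H.map ((CohCx.transition K t n N)⟦j⟧'))).hom.app (op V)) := by
      have := hτ N
      have h3 : IsIso (((T O).map (H.map ((CohCx.transition K t n N)⟦j⟧'))).hom.app (op V)) :=
        inferInstanceAs (IsIso ((T O ⋙ sheafToPresheaf J _ ⋙ (evaluation _ _).obj (op V)).map
          (H.map ((CohCx.transition K t n N)⟦j⟧'))))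
      exact (ConcreteCategory.bijective_of_isIso _).1
    have h4 : φ.hom.app (op V) = ((T O).map (H.map ((a (n + N))⟦j⟧'))).hom.app (op V) ≫
        ((T O).map (H.map ((CohCx.transition K t n N)⟦j⟧'))).hom.app (op V) := by
      change ((T O).map (H.map ((a n)⟦j⟧'))).hom.app (op V) = _
      rw [← hfac N, Functor.map_comp]
      rfl
    rw [h4]
    exact h2.comp h1
  have hmono : Mono φ := by
    rw [Sheaf.Hom.mono_iff_presheaf_mono, NatTrans.mono_iff_mono_app]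
    intro U
    induction U using Opposite.rec with | _ U => ?_
    rw [AddCommGrpCat.mono_iff_injective, injective_iff_map_eq_zero]
    intro s hs
    obtain ⟨ι, Yc, g, hcov, hY⟩ := hB U
    apply eq_of_equalizerSieve_mem' ((T O).obj (H.obj (L⟦j⟧))) s 0
    refine J.superset_covering ?_ hcov
    rw [Sieve.ofArrows, Sieve.generate_le_iff]
    rintro W' k ⟨i⟩
    change (((T O).obj (H.obj (L⟦j⟧))).obj.map (g i).op).hom s =
      (((T O).obj (H.obj (L⟦j⟧))).obj.map (g i).op).hom 0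
    rw [map_zero]
    apply (injective_iff_map_eq_zero _).1 (hinjB (Yc i) (hY i))
    have h2 := ConcreteCategory.congr_hom (φ.hom.naturality (g i).op) s
    rw [ConcreteCategory.comp_apply, ConcreteCategory.comp_apply] at h2
    refine Eq.trans h2 ?_
    erw [hs]
    exact map_zero _
  have hsurjB : ∀ V ∈ B, ∀ s : ((T O).obj (H.obj ((K n)⟦j⟧))).obj.obj (op V),
      Presheaf.imageSieve φ.hom s ∈ J V := by
    intro V hV s
    obtain ⟨d, N, hN, hd⟩ := hdata V hV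
    have := hτ N
    let τ := (T O).map (H.map ((CohCx.transition K t n N)⟦j⟧'))
    have hτiso : IsIso τ := inferInstance
    have h3 : IsIso (τ.hom.app (op V)) :=
      inferInstanceAs (IsIso ((sheafToPresheaf J _ ⋙ (evaluation _ _).obj (op V)).map τ))
    obtain ⟨s', hs'⟩ := (ConcreteCategory.bijective_of_isIso (τ.hom.app (op V))).2 s
    have h1 := imageSieve_mem A K t L a hL hK j V d N hN hd (n + N) (by omega) s'
    refine J.superset_covering ?_ h1
    rintro W g ⟨σ, hσ⟩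
    refine ⟨σ, ?_⟩
    have h4 : φ = (T O).map (H.map ((a (n + N))⟦j⟧')) ≫ τ := by
      change (T O).map (H.map ((a n)⟦j⟧')) = _
      rw [← hfac N, Functor.map_comp]
    rw [h4]
    change (τ.hom.app (op W)).hom ((((T O).map (H.map ((a (n + N))⟦j⟧'))).hom.app (op W)).hom σ) = _
    erw [hσ]
    have h5 := ConcreteCategory.congr_hom (τ.hom.naturality g.op) s'
    rw [ConcreteCategory.comp_apply, ConcreteCategory.comp_apply] at h5
    refine h5.trans ?_
    erw [hs']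
  have hepi : Epi φ := by
    rw [← Sheaf.isLocallySurjective_iff_epi']
    constructor
    intro U s
    obtain ⟨ι, Yc, g, hcov, hY⟩ := hB U
    refine J.transitive hcov _ ?_
    intro V' k hk
    obtain ⟨V'', k', g', hg', rfl⟩ := hk
    obtain ⟨i⟩ := hg'
    have h1 := hsurjB (Yc i) (hY i) ((((T O).obj (H.obj ((K n)⟦j⟧))).obj.map (g i).op).hom s)
    have h2 := J.pullback_stable k' h1
    refine J.superset_covering ?_ h2
    rintro W l ⟨σ, hσ⟩
    refine ⟨σ, ?_⟩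
    refine hσ.trans ?_
    change (((T O).obj (H.obj ((K n)⟦j⟧))).obj.map (l ≫ k').op).hom
      ((((T O).obj (H.obj ((K n)⟦j⟧))).obj.map (g i).op).hom s) =
      (((T O).obj (H.obj ((K n)⟦j⟧))).obj.map (l ≫ k' ≫ g i).op).hom s
    rw [← Category.assoc, op_comp (f := l ≫ k') (g := g i), Functor.map_comp]
    rfl
  have hiso : IsIso φ := isIso_of_mono_of_epi _
  exact isIso_of_reflects_iso _ (T O)

include hL in
theorem main (B : Set C)
    (hB : ∀ U : C, ∃ (ι : Type u) (Y : ι → C) (g : ∀ i, Y i ⟶ U),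
      Sieve.ofArrows Y g ∈ J U ∧ ∀ i, Y i ∈ B)
    (hA : ∀ V ∈ B, ∃ d : ℕ, ∀ T' ∈ J V, ∃ (ι : Type u) (Y : ι → C) (g : ∀ i, Y i ⟶ V),
      (∀ i, T'.arrows (g i)) ∧ Sieve.ofArrows Y g ∈ J V ∧
      ∀ (i : ι) (F : Mod O), A F → ∀ k : ℕ, d < k → Subsingleton (ModSite.HU O F k (Y i)))
    (hK : ∀ n, WSerre.cohInPlus A (K n))
    (hconst : ∀ j : ℤ, ∃ n₀ : ℕ, ∀ n, n₀ ≤ n → IsIso ((homologyFunctor (Mod O) j).map (t n)))
    (j : ℤ) :
    ∃ n₀ : ℕ, ∀ n, n₀ ≤ n → IsIso ((homologyFunctor (Mod O) j).map (a n)) := by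
  obtain ⟨n₀, hn₀⟩ := hconst j
  refine ⟨n₀, fun n hn => ?_⟩
  let e := (homologyFunctor (Mod O) 0).shiftIso j 0 j (add_zero j)
  have hshift : ∀ {X Y : DerivedCategory (Mod O)} (f : X ⟶ Y),
      IsIso ((homologyFunctor (Mod O) j).map f) → IsIso (H.map (f⟦j⟧')) := by
    intro X Y f hf
    let eX : H.obj (X⟦j⟧) ≅ (homologyFunctor _ j).obj X := e.app X
    let eY : H.obj (Y⟦j⟧) ≅ (homologyFunctor _ j).obj Y := e.app Y
    have hnat : H.map (f⟦j⟧') ≫ eY.hom = eX.hom ≫ (homologyFunctor _ j).map f :=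
      e.hom.naturality f
    have : H.map (f⟦j⟧') = (eX.hom ≫ (homologyFunctor _ j).map f) ≫ eY.inv := by
      rw [← hnat, Category.assoc, Iso.hom_inv_id, Category.comp_id]
    rw [this]
    infer_instance
  have h1 : IsIso (H.map ((a n)⟦j⟧')) :=
    isIso_H_shift A K t L a hL B hB hA hK hconst j n
      (fun m hm => hshift (t m) (hn₀ m (le_trans hn hm)))
  let eL : H.obj (L⟦j⟧) ≅ (homologyFunctor _ j).obj L := e.app L
  let eK : H.obj ((K n)⟦j⟧) ≅ (homologyFunctor _ j).obj (K n) := e.app (K n)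
  have hnat : H.map ((a n)⟦j⟧') ≫ eK.hom = eL.hom ≫ (homologyFunctor _ j).map (a n) :=
    e.hom.naturality (a n)
  have : (homologyFunctor (Mod O) j).map (a n) = eL.inv ≫ H.map ((a n)⟦j⟧') ≫ eK.hom := by
    rw [hnat, Iso.inv_hom_id_assoc]
  rw [this]
  infer_instance

end Groth.Agent.Lib.Helper34.ModRlimConst
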