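import Groth.Agent.Lib.Helper34.ModHZero
import Groth.Agent.Lib.Helper68.TruncRlim3

/-!
# `E = R lim τ_{≥ -n} E` on ringed sites (port of helper68's `TruncRlim2/3` to `Mod O`)
-/

set_option autoImplicit false
universe w u
open CategoryTheory Limits Pretriangulated DerivedCategory Opposite

namespace Groth.Agent.Lib.Helper34.ModTruncRlim

open ModSite Groth.Agent.Lib.Helper68.HZeroLocal Groth.Agent.Lib.Helper34.ModFree
  Groth.Agent.Lib.Helper34.ModHZero
open Groth.Agent.Lib.Helper68.RlimMilnor Groth.Agent.Lib.Helper68.DerLimSh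
  Groth.Agent.Lib.Helper68.TruncRlim

variable {C : Type u} [SmallCategory C] {J : GrothendieckTopology C} {O : Sheaf J CommRingCat.{u}}
  [HasDerivedCategory.{w} (Mod O)]

lemma hom_single_shift_neg (A B : Mod O) (q : ℤ) (hq : q < 0)
    (f : S.obj A ⟶ (S.obj B)⟦q⟧) : f = 0 := by
  have : TStructure.t.IsGE ((S.obj B)⟦q⟧) (-q) :=
    TStructure.t.isGE_shift (S.obj B) 0 q (-q) (by omega)
  exact TStructure.t.zero f 0 (-q) (by omega)

lemma subsingleton_hom_single_shift (Y : Mod O) (V : C) (a : ℤ)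
    (h : ∀ k : ℕ, (k : ℤ) = a → Subsingleton (ModSite.HU O Y k V)) :
    Subsingleton (S.obj (P O V) ⟶ (S.obj Y)⟦a⟧) := by
  by_cases ha : a < 0
  · exact ⟨fun f g => (hom_single_shift_neg _ _ a ha f).trans
      (hom_single_shift_neg _ _ a ha g).symm⟩
  · obtain ⟨k, rfl⟩ : ∃ k : ℕ, a = (k : ℤ) := ⟨a.toNat, by omega⟩
    haveI : EnoughInjectives (Mod O) := Groth.Agent.S0485.result J (ringSh O)
    haveI : HasExt.{u} (Mod O) := hasExt_of_enoughInjectives.{u} _
    have h1 := subsingleton_ext_of_HU O V Y k (h k rfl)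
    have e : Abelian.Ext.{u} (P O V) Y k ≃ (S.obj (P O V) ⟶ (S.obj Y)⟦(k : ℤ)⟧) :=
      Abelian.Ext.homEquiv
    exact e.symm.subsingleton

lemma subsingleton_hom_of_iso {A M M' : DerivedCategory (Mod O)} (e : M ≅ M')
    (h : Subsingleton (A ⟶ M)) : Subsingleton (A ⟶ M') :=
  ⟨fun f g => by
    rw [← cancel_mono e.inv]
    exact h.elim _ _⟩

lemma subsingleton_hom_fiber (Y : Mod O) (V : C) (a j : ℤ)
    (h : ∀ k : ℕ, (k : ℤ) = a + j → Subsingleton (ModSite.HU O Y k V)) :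
    Subsingleton (S.obj (P O V) ⟶ ((S.obj Y)⟦a⟧)⟦j⟧) :=
  subsingleton_hom_of_iso ((shiftFunctorAdd' _ a j (a + j) rfl).app (S.obj Y))
    (subsingleton_hom_single_shift Y V (a + j) h)

lemma subsingleton_hom_fiber' (Y : Mod O) (V : C) (a j : ℤ)
    (h : ∀ k : ℕ, (k : ℤ) = a + (j + 1) → Subsingleton (ModSite.HU O Y k V)) :
    Subsingleton (S.obj (P O V) ⟶ (((S.obj Y)⟦a⟧)⟦(1 : ℤ)⟧)⟦j⟧) :=
  subsingleton_hom_of_iso ((shiftFunctorAdd' _ 1 j (j + 1) (by omega)).app ((S.obj Y)⟦a⟧))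
    (subsingleton_hom_fiber Y V a (j + 1) h)

omit [HasDerivedCategory.{w} (Mod O)] in
/-- a sieve is covering as soon as it contains, for the arrows `j` of a covering sieve, all
composites `f ≫ j` with source in `B` -/
lemma covering_of_B' (B : Set C)
    (hB : ∀ U : C, ∃ (ι : Type u) (Y : ι → C) (f : ∀ i, Y i ⟶ U),
      Sieve.ofArrows Y f ∈ J U ∧ ∀ i, Y i ∈ B) {V : C} (T' : Sieve V) (hT : T' ∈ J V) (R : Sieve V)
    (h : ∀ ⦃W : C⦄ (j : W ⟶ V), T' j → ∀ ⦃Y : C⦄ (f : Y ⟶ W), Y ∈ B → R (f ≫ j)) : R ∈ J V := by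
  refine J.transitive hT R (fun W j hj => ?_)
  obtain ⟨ι, Y, f, hcov, hY⟩ := hB W
  refine J.superset_covering ?_ hcov
  rw [Sieve.ofArrows, Sieve.generate_le_iff]
  rintro W' k ⟨i⟩
  exact h j hj (f i) (hY i)

variable (E : DerivedCategory (Mod O))

lemma bijective_transition (n : ℕ) (j : ℤ) (V : C)
    (hv1 : ∀ k : ℕ, (k : ℤ) = (n : ℤ) + 1 + j →
      Subsingleton (ModSite.HU O ((homologyFunctor (Mod O) (-(n : ℤ) - 1)).obj E) k V))
    (hv2 : ∀ k : ℕ, (k : ℤ) = (n : ℤ) + 1 + (j + 1) →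
      Subsingleton (ModSite.HU O ((homologyFunctor (Mod O) (-(n : ℤ) - 1)).obj E) k V)) :
    Function.Bijective (Preadditive.rightComp (S.obj (P O V))
      ((CohCx.truncTowerMap E n)⟦j⟧')) := by
  obtain ⟨f, h, hT⟩ := exists_fiber_single E n
  have s1 := subsingleton_hom_fiber ((homologyFunctor (Mod O) (-(n : ℤ) - 1)).obj E) V
    ((n : ℤ) + 1) j hv1
  have s2 := subsingleton_hom_fiber' ((homologyFunctor (Mod O) (-(n : ℤ) - 1)).obj E) V
    ((n : ℤ) + 1) j hv2
  constructor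
  · rw [injective_iff_map_eq_zero]
    intro ψ hψ
    obtain ⟨φ, hφ⟩ := co_exact₂ hT _ j ψ hψ
    rw [← hφ, s1.elim φ 0, zero_comp]
  · intro χ
    have hT' := rot_of_distTriang _ hT
    obtain ⟨ψ, hψ⟩ := co_exact₂ (f := CohCx.truncTowerMap E n) (g := h) hT' _ j χ (s2.elim _ _)
    exact ⟨ψ, hψ⟩

/-- the vanishing condition at an object `V` -/
def Van (p : ℤ → ℤ) (V : C) : Prop :=
  ∀ (m : ℤ) (k : ℕ), p m < k →
    Subsingleton (ModSite.HU O ((homologyFunctor (Mod O) (m - k)).obj E) k V)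

variable {E}

lemma bijective_transition_of_van {p : ℤ → ℤ} {V : C} (hV : Van E p V) (j : ℤ) (n : ℕ)
    (hn : Nj p j ≤ n) :
    Function.Bijective (Preadditive.rightComp (S.obj (P O V))
      ((CohCx.truncTowerMap E n)⟦j⟧')) := by
  have h1 : p j - j ≤ n := by
    have : p j - j ≤ (Nj p j : ℤ) := by
      unfold Nj
      omega
    omega
  have h2 : p (j + 1) - j - 1 ≤ n := by
    have : p (j + 1) - j - 1 ≤ (Nj p j : ℤ) := by
      unfold Nj
      omega
    omega
  apply bijective_transition E n j V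
  · intro k hk
    have h3 := hV j k (by omega)
    have h4 : j - (k : ℤ) = -(n : ℤ) - 1 := by omega
    rw [h4] at h3
    exact h3
  · intro k hk
    have h3 := hV (j + 1) k (by omega)
    have h4 : j + 1 - (k : ℤ) = -(n : ℤ) - 1 := by omega
    rw [h4] at h3
    exact h3

lemma injective_transition_of_van {p : ℤ → ℤ} {V : C} (hV : Van E p V) (m : ℤ) (nV : ℕ)
    (hn : Nj p m ≤ nV) (k : ℕ) :
    Function.Injective (Preadditive.rightComp (S.obj (P O V))
      ((CohCx.transition (CohCx.truncTower E) (CohCx.truncTowerMap E) nV k)⟦m⟧')) := by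
  induction k with
  | zero =>
    intro x y hxy
    change x ≫ (𝟙 _)⟦m⟧' = y ≫ (𝟙 _)⟦m⟧' at hxy
    simpa using hxy
  | succ k ih =>
    intro x y hxy
    change x ≫ (CohCx.truncTowerMap E (nV + k) ≫
      CohCx.transition (CohCx.truncTower E) (CohCx.truncTowerMap E) nV k)⟦m⟧' =
      y ≫ (CohCx.truncTowerMap E (nV + k) ≫
      CohCx.transition (CohCx.truncTower E) (CohCx.truncTowerMap E) nV k)⟦m⟧' at hxy
    rw [Functor.map_comp, ← Category.assoc, ← Category.assoc] at hxy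
    exact (bijective_transition_of_van hV m (nV + k) (by omega)).1 (ih hxy)

lemma good_of_van {p : ℤ → ℤ} {V : C} (hV : Van E p V) (m : ℤ) (nV : ℕ) (hn : Nj p m ≤ nV) :
    Good (CohCx.truncTower E) (CohCx.truncTowerMap E) m nV V := by
  refine ⟨?_, injective_transition_of_van hV m nV hn⟩
  apply limOneIsZero_of_eventually_surjective (Nj p (m - 1))
  intro n hn'
  exact (bijective_transition_of_van hV (m - 1) n hn').2

variable (E)

section Site

variable [HasProduct (CohCx.truncTower E)]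
  {Z : DerivedCategory (Mod O)} (b : ∀ n, Z ⟶ CohCx.truncTower E n)
  (hZ : CohCx.IsRlimVia (CohCx.truncTower E) (CohCx.truncTowerMap E) Z b)
  (θ : E ⟶ Z) (hθ : ∀ n, θ ≫ b n = CohCx.toTruncTower E n)

include hZ hθ in
/-- local criterion at an object `V` -/
lemma isIso_app_of_van (m : ℤ) (V : C) (p : ℤ → ℤ)
    (h : ∀ T' ∈ J V, ∃ (ι : Type u) (Y : ι → C) (f : ∀ i, Y i ⟶ V), (∀ i, T'.arrows (f i)) ∧
      Sieve.ofArrows Y f ∈ J V ∧ ∀ i, Van E p (Y i)) :
    IsIso (((T O).map ((DerivedCategory.homologyFunctor _ m).map θ)).hom.app (op V)) := by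
  let nV : ℕ := max (Nj p m) (-m).toNat
  have hinj : Function.Injective
      (((T O).map ((DerivedCategory.homologyFunctor _ m).map (b nV))).hom.app (op V)) := by
    apply injective_Hm _ _ Z b hZ m nV V
    intro T' hT
    obtain ⟨ι, Y, f, hf, hcov, hvan⟩ := h T' hT
    exact ⟨ι, Y, f, hf, hcov, fun i => good_of_van (hvan i) m nV (le_max_left _ _)⟩
  have hmono : Mono (((T O).map ((DerivedCategory.homologyFunctor _ m).map (b nV))).hom.app (op V)) :=
    (AddCommGrpCat.mono_iff_injective _).2 hinj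
  have hiso : IsIso ((DerivedCategory.homologyFunctor _ m).map (CohCx.toTruncTower E nV)) :=
    isIso_homology_toTruncTower E nV m (by
      have : (-m).toNat ≤ nV := le_max_right _ _
      omega)
  let ev : Mod O ⥤ AddCommGrpCat.{u} :=
    T O ⋙ sheafToPresheaf J _ ⋙ (evaluation _ _).obj (op V)
  have hiso' : IsIso (ev.map ((DerivedCategory.homologyFunctor _ m).map (CohCx.toTruncTower E nV))) :=
    inferInstance
  have hfac : ev.map ((DerivedCategory.homologyFunctor _ m).map θ) ≫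
      ev.map ((DerivedCategory.homologyFunctor _ m).map (b nV)) =
      ev.map ((DerivedCategory.homologyFunctor _ m).map (CohCx.toTruncTower E nV)) := by
    rw [← Functor.map_comp, ← Functor.map_comp, hθ]
  have hmono' : Mono (ev.map ((DerivedCategory.homologyFunctor _ m).map (b nV))) := hmono
  exact isIso_of_fac (ev.map ((DerivedCategory.homologyFunctor _ m).map θ))
    (ev.map ((DerivedCategory.homologyFunctor _ m).map (b nV))) _ hfac

include hθ in
lemma mono_homology_theta (m : ℤ) : Mono ((DerivedCategory.homologyFunctor _ m).map θ) := by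
  have hiso : IsIso ((DerivedCategory.homologyFunctor _ m).map (CohCx.toTruncTower E (-m).toNat)) :=
    isIso_homology_toTruncTower E _ m (by omega)
  have hfac : (DerivedCategory.homologyFunctor _ m).map θ ≫
      (DerivedCategory.homologyFunctor _ m).map (b (-m).toNat) =
      (DerivedCategory.homologyFunctor _ m).map (CohCx.toTruncTower E (-m).toNat) := by
    rw [← Functor.map_comp, hθ]
  have : Mono ((DerivedCategory.homologyFunctor _ m).map θ ≫
      (DerivedCategory.homologyFunctor _ m).map (b (-m).toNat)) := by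
    rw [hfac]
    infer_instance
  exact mono_of_mono _ ((DerivedCategory.homologyFunctor _ m).map (b (-m).toNat))

include hZ hθ in
theorem isIso_theta_site (B : Set C)
    (hB : ∀ U : C, ∃ (ι : Type u) (Y : ι → C) (f : ∀ i, Y i ⟶ U),
      Sieve.ofArrows Y f ∈ J U ∧ ∀ i, Y i ∈ B)
    (h : ∀ V ∈ B, ∃ p : ℤ → ℤ, ∀ T' ∈ J V, ∃ (ι : Type u) (Y : ι → C) (f : ∀ i, Y i ⟶ V),
      (∀ i, T'.arrows (f i)) ∧ Sieve.ofArrows Y f ∈ J V ∧ ∀ i, Van E p (Y i)) :
    IsIso θ := by
  rw [DerivedCategory.isIso_iff]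
  intro m
  have hmono := mono_homology_theta E b θ hθ m
  haveI := Groth.Agent.Lib.Helper94.ModSiteBasic.toSheaf_preservesFiniteColimits (ringSh O)
  have hmono' : Mono ((T O).map ((DerivedCategory.homologyFunctor _ m).map θ)) := inferInstance
  have hepi : Epi ((T O).map ((DerivedCategory.homologyFunctor _ m).map θ)) := by
    rw [← Sheaf.isLocallySurjective_iff_epi']
    constructor
    intro W s
    refine covering_of_B' B hB ⊤ (J.top_mem W) _ ?_
    intro W' j _ V f hV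
    obtain ⟨p, hp⟩ := h V hV
    have hiso := isIso_app_of_van E b hZ θ hθ m V p hp
    obtain ⟨x, hx⟩ := (ConcreteCategory.bijective_of_isIso
      (((T O).map ((DerivedCategory.homologyFunctor _ m).map θ)).hom.app (op V))).2
      ((((T O).obj ((DerivedCategory.homologyFunctor _ m).obj Z)).obj.map (f ≫ j).op).hom s)
    exact ⟨x, hx⟩
  have hiso : IsIso ((T O).map ((DerivedCategory.homologyFunctor _ m).map θ)) :=
    isIso_of_mono_of_epi _
  exact isIso_of_reflects_iso _ (T O)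

end Site

theorem main_site [HasProduct (CohCx.truncTower E)] (B : Set C)
    (hB : ∀ U : C, ∃ (ι : Type u) (Y : ι → C) (f : ∀ i, Y i ⟶ U),
      Sieve.ofArrows Y f ∈ J U ∧ ∀ i, Y i ∈ B)
    (h : ∀ V ∈ B, ∃ p : ℤ → ℤ, ∀ T' ∈ J V, ∃ (ι : Type u) (Y : ι → C) (f : ∀ i, Y i ⟶ V),
      (∀ i, T'.arrows (f i)) ∧ Sieve.ofArrows Y f ∈ J V ∧
      ∀ (i : ι) (m : ℤ) (k : ℕ), p m < k →
        Subsingleton (ModSite.HU O ((homologyFunctor (Mod O) (m - k)).obj E) k (Y i))) :
    CohCx.IsRlimVia (CohCx.truncTower E) (CohCx.truncTowerMap E) E (CohCx.toTruncTower E) := by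
  obtain ⟨Z, b, hZ⟩ := exists_rlim (CohCx.truncTower E) (CohCx.truncTowerMap E)
  obtain ⟨θ, hθ⟩ := exists_lift_zero hZ E (CohCx.toTruncTower E) (toTruncTower_succ E)
  have hiso : IsIso θ := isIso_theta_site E b hZ θ hθ B hB h
  exact isRlimVia_of_iso b hZ (asIso θ) _ hθ

omit [HasDerivedCategory.{w} (Mod O)] in
/-- every covering sieve is refined by a covering family of members of `B`. -/
lemma refine_cover (B : Set C)
    (hB : ∀ U : C, ∃ (ι : Type u) (Y : ι → C) (f : ∀ i, Y i ⟶ U),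
      Sieve.ofArrows Y f ∈ J U ∧ ∀ i, Y i ∈ B) {V : C} (T' : Sieve V) (hT : T' ∈ J V) :
    ∃ (ι : Type u) (Y : ι → C) (f : ∀ i, Y i ⟶ V), (∀ i, T'.arrows (f i)) ∧
      Sieve.ofArrows Y f ∈ J V ∧ ∀ i, Y i ∈ B := by
  choose ιW YW fW hcovW hYW using hB
  refine ⟨Σ (W : C) (_ : {g : W ⟶ V // T'.arrows g}), ιW W, fun x => YW x.1 x.2.2,
    fun x => fW x.1 x.2.2 ≫ x.2.1.1, fun x => T'.downward_closed x.2.1.2 _, ?_,
    fun x => hYW x.1 x.2.2⟩
  refine J.transitive hT _ (fun W g hg => ?_)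
  refine J.superset_covering ?_ (hcovW W)
  rw [Sieve.ofArrows, Sieve.generate_le_iff]
  rintro W' k ⟨i⟩
  change (Sieve.ofArrows _ _).arrows (fW W i ≫ g)
  exact Sieve.ofArrows_mk _ _ (⟨W, ⟨g, hg⟩, i⟩ : Σ (W : C) (_ : {g : W ⟶ V // T'.arrows g}), ιW W)

end Groth.Agent.Lib.Helper34.ModTruncRlim
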