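import Groth.Agent.Lib.Helper34.ModTruncRlim
import Groth.Agent.Lib.Helper32.DevissageDer

/-!
# Vanishing of maps out of free modules into complexes with cohomology of bounded
cohomological dimension, and stabilisation of `Hom(P_W, K_n[i])` along towers.
-/

set_option autoImplicit false
universe w u
open CategoryTheory Limits Pretriangulated DerivedCategory Opposite

namespace Groth.Agent.Lib.Helper34.ModVL

open ModSite Groth.Agent.Lib.Helper68.HZeroLocal Groth.Agent.Lib.Helper34.ModFree
  Groth.Agent.Lib.Helper34.ModHZero Groth.Agent.Lib.Helper34.ModTruncRlim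
open Groth.Agent.Lib.Helper68.RlimMilnor Groth.Agent.Lib.Helper68.DerLimSh
  Groth.Agent.Lib.Helper68.TruncRlim Groth.Agent.Lib.Helper32 Groth.Agent.Lib.Helper32.Devissage

variable {C : Type u} [SmallCategory C] {J : GrothendieckTopology C} {O : Sheaf J CommRingCat.{u}}
  [HasDerivedCategory.{w} (Mod O)]
  (A : ObjectProperty (Mod O)) [WSerre.IsWeakSerre A] (W : C) (d : ℕ)

/-- objects of `A` have cohomological dimension `≤ d` on `W`. -/
def CD : Prop := ∀ F : Mod O, A F → ∀ k : ℕ, d < k → Subsingleton (ModSite.HU O F k W)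

variable {A W d}

lemma hom_single_eq_zero (hW : CD A W d) (M : Mod O) (hM : A M) (b i : ℤ) (hi : b + d < i)
    (f : S.obj (P O W) ⟶ ((singleFunctor (Mod O) b).obj M)⟦i⟧) : f = 0 := by
  have e : ((singleFunctor (Mod O) 0).obj M)⟦-b⟧ ≅ (singleFunctor (Mod O) b).obj M :=
    ((singleFunctors (Mod O)).shiftIso (-b) b 0 (by omega)).app M
  have hs : Subsingleton (S.obj (P O W) ⟶ ((S.obj M)⟦-b⟧)⟦i⟧) :=
    subsingleton_hom_fiber M W (-b) i (fun k hk => hW M hM k (by omega))
  have hs' := subsingleton_hom_of_iso ((shiftFunctor _ i).mapIso e) hs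
  exact hs'.elim _ _

theorem VL_bdd (hW : CD A W d) (n : ℕ) :
    ∀ (a b : ℤ) (K : DerivedCategory (Mod O)), b < a + n → WSerre.cohIn A K →
    (∀ i, i < a ∨ b < i → IsZero ((homologyFunctor (Mod O) i).obj K)) →
    ∀ i : ℤ, b + d < i → ∀ f : S.obj (P O W) ⟶ K⟦i⟧, f = 0 := by
  induction n with
  | zero =>
    intro a b K hab hK hz i hi f
    have h1 : K.IsGE a := (isGE_iff _ _).2 (fun i hi => hz i (Or.inl hi))
    have h2 : K.IsLE b := (isLE_iff _ _).2 (fun i hi => hz i (Or.inr hi))
    have hK0 : IsZero K := TStructure.t.isZero _ b a (by simpa using hab)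
    exact ((shiftFunctor _ i).map_isZero hK0).eq_of_tgt _ _
  | succ n ih =>
    intro a b K hab hP hz i hi f
    have hT := TStructure.t.triangleLTGE_distinguished b K
    have z' : ∀ i, i < a ∨ b - 1 < i →
        IsZero ((homologyFunctor (Mod O) i).obj ((TStructure.t.truncLT b).obj K)) :=
      fun i hi => ProIsoDer.isZero_homology_truncLT K a b i hz hi
    have iso' : ∀ i, i < b → ((homologyFunctor (Mod O) i).obj ((TStructure.t.truncLT b).obj K) ≅
        (homologyFunctor (Mod O) i).obj K) := fun i hi => by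
      have := EssConstDer.isIso_homology_truncLTι K b i hi
      exact asIso ((homologyFunctor (Mod O) i).map ((TStructure.t.truncLTι b).app K))
    have hK' : WSerre.cohIn A ((TStructure.t.truncLT b).obj K) := fun i => by
      by_cases hi : i < b
      · exact A.prop_of_iso (iso' i hi).symm (hP i)
      · exact A.prop_of_isZero (z' i (by omega))
    have z'' : ∀ i, i ≠ b →
        IsZero ((homologyFunctor (Mod O) i).obj ((TStructure.t.truncGE b).obj K)) := by
      intro i hi
      rcases lt_or_gt_of_ne hi with h | h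
      · exact isZero_of_isGE ((TStructure.t.truncGE b).obj K) b i h
      · exact EssConstDer.isZero_homology_truncGE K b i h (hz i (Or.inr h))
    have iso'' : (homologyFunctor (Mod O) b).obj K ≅
        (homologyFunctor (Mod O) b).obj ((TStructure.t.truncGE b).obj K) := by
      have := EssConstDer.isIso_homology_truncGEπ K b
      exact asIso ((homologyFunctor (Mod O) b).map ((TStructure.t.truncGEπ b).app K))
    have hLE'' : ((TStructure.t.truncGE b).obj K).IsLE b :=
      (isLE_iff _ _).2 (fun i hi => z'' i (by omega))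
    obtain ⟨M, ⟨eM⟩⟩ := exists_iso_singleFunctor_obj_of_isGE_of_isLE
      ((TStructure.t.truncGE b).obj K) b
    have eM' : M ≅ (homologyFunctor (Mod O) b).obj K :=
      ((singleFunctorCompHomologyFunctorIso (Mod O) b).app M).symm ≪≫
        (homologyFunctor (Mod O) b).mapIso eM.symm ≪≫ iso''.symm
    have hM : A M := A.prop_of_iso eM'.symm (hP b)
    have h3 : ∀ g : S.obj (P O W) ⟶ ((TStructure.t.truncGE b).obj K)⟦i⟧, g = 0 := by
      intro g
      have hs : Subsingleton (S.obj (P O W) ⟶ ((singleFunctor (Mod O) b).obj M)⟦i⟧) :=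
        ⟨fun x y => (hom_single_eq_zero hW M hM b i hi x).trans
          (hom_single_eq_zero hW M hM b i hi y).symm⟩
      have := subsingleton_hom_of_iso ((shiftFunctor _ i).mapIso eM.symm) hs
      exact this.elim _ _
    obtain ⟨φ, hφ⟩ := co_exact₂ (f := (TStructure.t.truncLTι b).app K)
      (g := (TStructure.t.truncGEπ b).app K) (h := (TStructure.t.truncGEδLT b).app K) hT _ i f
      (h3 _)
    rw [← hφ, ih a (b - 1) _ (by omega) hK' z' i (by omega) φ, zero_comp]

theorem VL (hW : CD A W d) (K : DerivedCategory (Mod O)) (hK : WSerre.cohIn A K) (a : ℤ)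
    (ha : ∀ q, q < a → IsZero ((homologyFunctor (Mod O) q).obj K)) (i : ℤ)
    (hz : ∀ q, i - d ≤ q → q ≤ i → IsZero ((homologyFunctor (Mod O) q).obj K))
    (f : S.obj (P O W) ⟶ K⟦i⟧) : f = 0 := by
  have hT := TStructure.t.triangleLTGE_distinguished (i - d) K
  have hGE : ((TStructure.t.truncGE (i - d)).obj K).IsGE (i + 1) := by
    rw [isGE_iff]
    intro q hq
    by_cases hqb : q < i - d
    · exact isZero_of_isGE _ (i - d) q hqb
    · have := isIso_homology_truncGEπ K (i - d) q (by omega)
      exact (hz q (by omega) (by omega)).of_iso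
        (asIso ((homologyFunctor (Mod O) q).map ((TStructure.t.truncGEπ (i - d)).app K))).symm
  have h3 : ∀ g : S.obj (P O W) ⟶ ((TStructure.t.truncGE (i - d)).obj K)⟦i⟧, g = 0 := by
    intro g
    have : TStructure.t.IsGE (((TStructure.t.truncGE (i - d)).obj K)⟦i⟧) 1 :=
      TStructure.t.isGE_shift _ (i + 1) i 1 (by omega)
    exact TStructure.t.zero g 0 1 (by omega)
  obtain ⟨φ, hφ⟩ := co_exact₂ (f := (TStructure.t.truncLTι (i - d)).app K)
    (g := (TStructure.t.truncGEπ (i - d)).app K) (h := (TStructure.t.truncGEδLT (i - d)).app K)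
    hT _ i f (h3 _)
  have iso' : ∀ q, q < i - d →
      ((homologyFunctor (Mod O) q).obj ((TStructure.t.truncLT (i - d)).obj K) ≅
        (homologyFunctor (Mod O) q).obj K) := fun q hq => by
    have := EssConstDer.isIso_homology_truncLTι K (i - d) q hq
    exact asIso ((homologyFunctor (Mod O) q).map ((TStructure.t.truncLTι (i - d)).app K))
  have z' : ∀ q, q < a ∨ i - d - 1 < q →
      IsZero ((homologyFunctor (Mod O) q).obj ((TStructure.t.truncLT (i - d)).obj K)) := by
    intro q hq
    by_cases hqb : q < i - d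
    · rcases hq with h | h
      · exact (ha q h).of_iso (iso' q hqb)
      · omega
    · exact isZero_of_isLE ((TStructure.t.truncLT (i - d)).obj K) (i - d - 1) q (by omega)
  have hK' : WSerre.cohIn A ((TStructure.t.truncLT (i - d)).obj K) := fun q => by
    by_cases hq : q < i - d
    · exact A.prop_of_iso (iso' q hq).symm (hK q)
    · exact A.prop_of_isZero (z' q (by omega))
  obtain ⟨n, hn⟩ : ∃ n : ℕ, i - d - 1 < a + n := ⟨(i - d - a).toNat, by omega⟩
  rw [← hφ, VL_bdd hW n a (i - d - 1) _ hn hK' z' i (by omega) φ, zero_comp]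

section Tower

variable (K : ℕ → DerivedCategory (Mod O)) (t : ∀ n, K (n + 1) ⟶ K n)

include A in
lemma bijective_transition (hW : CD A W d) (hK : ∀ n, WSerre.cohInPlus A (K n)) (n : ℕ) (i : ℤ)
    (hiso : ∀ q, i - d - 1 ≤ q → q ≤ i + 1 → IsIso ((homologyFunctor (Mod O) q).map (t n))) :
    Function.Bijective (Preadditive.rightComp (S.obj (P O W)) ((t n)⟦i⟧')) := by
  obtain ⟨F, f, h, hT⟩ := distinguished_cocone_triangle₁ (t n)
  obtain ⟨hA1, ⟨a1, ha1⟩⟩ := hK (n + 1)
  obtain ⟨hA0, ⟨a0, ha0⟩⟩ := hK n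
  have hF : WSerre.cohIn A F :=
    (WSerre.cohIn A).ext_of_isTriangulatedClosed₁ _ hT hA1 hA0
  have hzero : ∀ q, i - d ≤ q → q ≤ i + 1 → IsZero ((homologyFunctor (Mod O) q).obj F) := by
    intro q h1 h2
    have hmono : Mono ((homologyFunctor (Mod O) q).map (t n)) := by
      have := hiso q (by omega) h2
      infer_instance
    have hepi : Epi ((homologyFunctor (Mod O) (q - 1)).map (t n)) := by
      have := hiso (q - 1) (by omega) (by omega)
      infer_instance
    have hδ : HomologySequence.δ (Triangle.mk f (t n) h) (q - 1) q (by omega) = 0 :=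
      (HomologySequence.epi_homologyMap_mor₂_iff _ hT (q - 1) q (by omega)).1 hepi
    have hf0 : (homologyFunctor (Mod O) q).map f = 0 :=
      (HomologySequence.mono_homologyMap_mor₂_iff _ hT q).1 hmono
    have hmono' : Mono ((homologyFunctor (Mod O) q).map f) :=
      (HomologySequence.mono_homologyMap_mor₁_iff _ hT (q - 1) q (by omega)).2 hδ
    rw [IsZero.iff_id_eq_zero, ← cancel_mono ((homologyFunctor (Mod O) q).map f), hf0, comp_zero,
      zero_comp]
  have hbelow : ∀ q, q < min a0 a1 → IsZero ((homologyFunctor (Mod O) q).obj F) := by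
    intro q hq
    haveI := ha1
    haveI := ha0
    refine (HomologySequence.exact₁ _ hT (q - 1) q (by omega)).isZero_of_both_isZero ?_ ?_
    · exact isZero_of_isGE (K n) a0 (q - 1) (by
        have := min_le_left a0 a1
        omega)
    · exact isZero_of_isGE (K (n + 1)) a1 q (by
        have := min_le_right a0 a1
        omega)
  have s1 : ∀ φ : S.obj (P O W) ⟶ F⟦i⟧, φ = 0 :=
    VL hW F hF (min a0 a1) hbelow i (fun q h1 h2 => hzero q h1 (by omega))
  have hF1 : WSerre.cohIn A (F⟦(1 : ℤ)⟧) := (WSerre.cohIn A).le_shift (1 : ℤ) _ hF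
  have e1 : ∀ q, (homologyFunctor (Mod O) q).obj (F⟦(1 : ℤ)⟧) ≅
      (homologyFunctor (Mod O) (1 + q)).obj F := fun q =>
    ((homologyFunctor (Mod O) 0).shiftIso 1 q (1 + q) rfl).app F
  have s2 : ∀ φ : S.obj (P O W) ⟶ (F⟦(1 : ℤ)⟧)⟦i⟧, φ = 0 :=
    VL hW (F⟦(1 : ℤ)⟧) hF1 (min a0 a1 - 1)
      (fun q hq => (hbelow (1 + q) (by omega)).of_iso (e1 q)) i
      (fun q h1 h2 => (hzero (1 + q) (by omega) (by omega)).of_iso (e1 q))
  constructor
  · rw [injective_iff_map_eq_zero]
    intro ψ hψ
    obtain ⟨φ, hφ⟩ := co_exact₂ hT _ i ψ hψ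
    rw [← hφ, s1 φ, zero_comp]
  · intro χ
    have hT' := rot_of_distTriang _ hT
    obtain ⟨ψ, hψ⟩ := co_exact₂ (f := t n) (g := h) hT' _ i χ (s2 _)
    exact ⟨ψ, hψ⟩

include A in
lemma good_of_threshold (hW : CD A W d) (hK : ∀ n, WSerre.cohInPlus A (K n)) (j : ℤ) (N : ℕ)
    (hN : ∀ n, N ≤ n → ∀ q, j - d - 2 ≤ q → q ≤ j + 1 →
      IsIso ((homologyFunctor (Mod O) q).map (t n)))
    (nV : ℕ) (hnV : N ≤ nV) : Good K t j nV W := by
  have hb : ∀ n, N ≤ n → Function.Bijective
      (Preadditive.rightComp (S.obj (P O W)) ((t n)⟦j⟧')) := fun n hn =>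
    bijective_transition K t hW hK n j (fun q h1 h2 => hN n hn q (by omega) h2)
  have hb' : ∀ n, N ≤ n → Function.Bijective
      (Preadditive.rightComp (S.obj (P O W)) ((t n)⟦j - 1⟧')) := fun n hn =>
    bijective_transition K t hW hK n (j - 1) (fun q h1 h2 => hN n hn q (by omega) (by omega))
  refine ⟨?_, ?_⟩
  · apply limOneIsZero_of_eventually_surjective N
    intro n hn
    exact (hb' n hn).2
  · intro k
    induction k with
    | zero =>
      intro x y hxy
      change x ≫ (𝟙 _)⟦j⟧' = y ≫ (𝟙 _)⟦j⟧' at hxy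
      simpa using hxy
    | succ k ih =>
      intro x y hxy
      change x ≫ (t (nV + k) ≫ CohCx.transition K t nV k)⟦j⟧' =
        y ≫ (t (nV + k) ≫ CohCx.transition K t nV k)⟦j⟧' at hxy
      rw [Functor.map_comp, ← Category.assoc, ← Category.assoc] at hxy
      exact (hb (nV + k) (by omega)).1 (ih hxy)

end Tower

end Groth.Agent.Lib.Helper34.ModVL
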