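import Groth.Agent.Lib.Helper34.NullLocal
import Groth.Agent.Lib.Helper94.JShriekHom

/-!
# Sections with support commute with the internal hom (helper34)
-/

set_option autoImplicit false
universe u
open CategoryTheory CategoryTheory.Limits Opposite

namespace Groth.Agent.Lib.Helper34.NullHom

open ModSite Groth.Agent.Lib.Helper94.JShriek Groth.Agent.Lib.Helper94.ModTensorW
  Groth.Agent.Lib.Helper94.ModTensor Groth.Agent.Lib.Helper94.ModOver
  Groth.Agent.Lib.Helper94.ModFlat Groth.Agent.Lib.Helper34.NullTorsion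

variable {C : Type u} [SmallCategory C] {J : GrothendieckTopology C} {O : Sheaf J CommRingCat.{u}}
  {U : C}

/-- `A ⊗ M` is null on `U` if `A` is. -/
theorem isNullOn_tensR {A : Mod O} (hA : IsNullOn O U A) (M : Mod O) :
    IsNullOn O U ((tensR O M).obj A) := by
  have h1 : IsZero ((tensR (O.over U) ((restr O U).obj M)).obj ((restr O U).obj A)) :=
    (tensR (O.over U) ((restr O U).obj M)).map_isZero hA
  exact IsZero.of_iso h1 (restrTensorIso O U A M)

/-- maps from `j_! G` to `ℋom(M, B)` vanish if `B` is null on `U`. -/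
lemma extZero_hom_sheafHom_eq_zero {B : Mod O} (hB : IsNullOn O U B) (M : Mod O) [HasSheafHom M]
    {G : Mod (O.over U)} (f : (extZero O U).obj G ⟶ (sheafHom M).obj B) : f = 0 := by
  let e := (extZeroTensRIso O U M).app G
  let f' : (tensR O M).obj ((extZero O U).obj G) ⟶ B := ((sheafHomAdj M).homEquiv _ _).symm f
  have h1 : e.hom ≫ f' = 0 := extZero_hom_eq_zero hB _
  have h2 : f' = 0 := by
    have : f' = e.inv ≫ e.hom ≫ f' := by rw [e.inv_hom_id_assoc]
    rw [this, h1, comp_zero]
  have h3 : f = (sheafHomAdj M).homEquiv _ _ f' := (Equiv.apply_symm_apply _ _).symm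
  rw [h3, h2, Adjunction.homEquiv_unit, Functor.map_zero, comp_zero]

/-- `ℋom(M, B)` is null on `U` if `B` is. -/
theorem isNullOn_sheafHom {B : Mod O} (hB : IsNullOn O U B) (M : Mod O) [HasSheafHom M] :
    IsNullOn O U ((sheafHom M).obj B) := by
  rw [IsNullOn, IsZero.iff_id_eq_zero]
  apply ((extZeroAdj O U).homEquiv _ _).symm.injective
  exact (extZero_hom_sheafHom_eq_zero hB M _).trans (extZero_hom_sheafHom_eq_zero hB M _).symm

variable [HasPushOver O U] (M : Mod O) [HasSheafHom M]

instance (N : Mod O) : Mono ((sheafHom M).map (sι O U N)) := by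
  haveI : PreservesLimitsOfSize.{0, 0} (sheafHom M) :=
    (sheafHomAdj M).rightAdjoint_preservesLimits
  infer_instance

/-- `ℋom(M, Γ_Z N) ⟶ Γ_Z ℋom(M, N)` -/
noncomputable def α (N : Mod O) :
    (sheafHom M).obj ((sectOn O U).obj N) ⟶ (sectOn O U).obj ((sheafHom M).obj N) :=
  sectOnLift (isNullOn_sheafHom (isNullOn_sectOn O U N) M) ((sheafHom M).map (sι O U N))

lemma α_ι (N : Mod O) : α M N ≫ sι O U _ = (sheafHom M).map (sι O U N) :=
  sectOnLift_ι _ _

/-- `Γ_Z ℋom(M, N) ⟶ ℋom(M, Γ_Z N)` -/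
noncomputable def β (N : Mod O) :
    (sectOn O U).obj ((sheafHom M).obj N) ⟶ (sheafHom M).obj ((sectOn O U).obj N) :=
  (sheafHomAdj M).homEquiv _ _
    (sectOnLift (isNullOn_tensR (isNullOn_sectOn O U _) M)
      (((sheafHomAdj M).homEquiv _ _).symm (sι O U ((sheafHom M).obj N))))

lemma β_map (N : Mod O) : β (U := U) M N ≫ (sheafHom M).map (sι O U N) = sι O U _ := by
  unfold β
  rw [← Adjunction.homEquiv_naturality_right, sectOnLift_ι, Equiv.apply_symm_apply]

lemma β_α (N : Mod O) : β (U := U) M N ≫ α M N = 𝟙 _ := by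
  apply sectOn_hom_ext
  rw [Category.assoc, α_ι, β_map, Category.id_comp]

lemma α_β (N : Mod O) : α (U := U) M N ≫ β M N = 𝟙 _ := by
  rw [← cancel_mono ((sheafHom M).map (sι O U N)), Category.assoc, β_map, α_ι, Category.id_comp]

/-- `ℋom(M, Γ_Z -) ≅ Γ_Z ℋom(M, -)` -/
noncomputable def sheafHomSectOnIso :
    sectOn O U ⋙ sheafHom M ≅ sheafHom M ⋙ sectOn O U :=
  NatIso.ofComponents (fun N => ⟨α M N, β M N, α_β M N, β_α M N⟩) (by
    intro N N' g
    apply sectOn_hom_ext
    dsimp only [Functor.comp_obj, Functor.comp_map]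
    rw [Category.assoc, α_ι, Category.assoc, sι_naturality, ← Category.assoc, α_ι,
      ← Functor.map_comp, ← Functor.map_comp, sι_naturality])

end Groth.Agent.Lib.Helper34.NullHom
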