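import Groth.Prelude.Def_ExtSupp
import Groth.Agent.Lib.Helper94.JShriek

/-!
# The torsion theory of modules null on an object of a ringed site (helper34)

`sectOn` is the coreflection into modules null on `U`, `quotOn` the reflection.
-/

set_option autoImplicit false
universe u
open CategoryTheory CategoryTheory.Limits Opposite

namespace Groth.Agent.Lib.Helper34.NullTorsion

open ModSite

variable {C : Type u} [SmallCategory C] {J : GrothendieckTopology C} (O : Sheaf J CommRingCat.{u})
  (U : C)

variable {O U}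

/-- maps from `j_! G` to a module null on `U` vanish -/
lemma extZero_hom_eq_zero {A : Mod O} (hA : IsNullOn O U A) {G : Mod (O.over U)}
    (f : (extZero O U).obj G ⟶ A) : f = 0 :=
  ((extZeroAdj O U).homEquiv _ _).injective (hA.eq_of_tgt _ _)

/-- maps from a module null on `U` to `j_* G` vanish -/
lemma hom_pushOver_eq_zero [HasPushOver O U] {A : Mod O} (hA : IsNullOn O U A)
    {G : Mod (O.over U)} (f : A ⟶ (pushOver O U).obj G) : f = 0 :=
  ((restrPushOverAdj O U).homEquiv _ _).symm.injective (hA.eq_of_src _ _)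

variable (O U)

/-- `Γ_Z F` is null on `U`. -/
theorem isNullOn_sectOn [HasPushOver O U] (F : Mod O) : IsNullOn O U ((sectOn O U).obj F) := by
  let adj := restrPushOverAdj O U
  let η := adj.unit.app F
  let ι : (sectOn O U).obj F ⟶ F := kernel.ι η
  have h0 : (restr O U).map ι ≫ (restr O U).map η = 0 := by
    have hc : ι ≫ η = 0 := kernel.condition η
    rw [← Functor.map_comp, hc, Functor.map_zero]
  have hsplit : (restr O U).map η ≫ adj.counit.app ((restr O U).obj F) = 𝟙 _ :=
    adj.left_triangle_components F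
  have h1 : (restr O U).map ι = 0 := by
    have := congrArg (fun t => t ≫ adj.counit.app ((restr O U).obj F)) h0
    simpa [Category.assoc, hsplit] using this
  have hm : Mono ι := inferInstanceAs (Mono (kernel.ι η))
  haveI : PreservesLimitsOfSize.{0, 0} (restr O U) :=
    (extZeroAdj O U).rightAdjoint_preservesLimits
  have : Mono ((restr O U).map ι) := inferInstance
  exact IsZero.of_mono_eq_zero _ h1

variable {O U}

section

variable [HasPushOver O U]

variable (O U) in
/-- the inclusion `Γ_Z F ⟶ F` with clean type -/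
noncomputable def sι (F : Mod O) : (sectOn O U).obj F ⟶ F := (sectOnι O U).app F

lemma sι_eq (F : Mod O) : sι O U F = (sectOnι O U).app F := rfl

instance (F : Mod O) : Mono (sι O U F) :=
  inferInstanceAs (Mono (kernel.ι _))

lemma sι_naturality {F G : Mod O} (g : F ⟶ G) :
    (sectOn O U).map g ≫ sι O U G = sι O U F ≫ g :=
  (sectOnι O U).naturality g

/-- lift a map from a null module to `Γ_Z` -/
noncomputable def sectOnLift {A F : Mod O} (hA : IsNullOn O U A) (f : A ⟶ F) :
    A ⟶ (sectOn O U).obj F :=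
  kernel.lift _ f (hom_pushOver_eq_zero hA _)

@[reassoc (attr := simp)]
lemma sectOnLift_ι {A F : Mod O} (hA : IsNullOn O U A) (f : A ⟶ F) :
    sectOnLift hA f ≫ sι O U F = f :=
  kernel.lift_ι _ _ _

lemma sectOn_hom_ext {A F : Mod O} {f g : A ⟶ (sectOn O U).obj F}
    (h : f ≫ sι O U F = g ≫ sι O U F) : f = g :=
  (cancel_mono (sι O U F)).1 h

end

variable (O U) in
/-- the projection `M ⟶ M/M_U` with clean type -/
noncomputable def qπ (M : Mod O) : M ⟶ (quotOn O U).obj M := (quotOnπ O U).app M

lemma qπ_eq (M : Mod O) : qπ O U M = (quotOnπ O U).app M := rfl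

instance (M : Mod O) : Epi (qπ O U M) :=
  inferInstanceAs (Epi (cokernel.π _))

lemma qπ_naturality {M M' : Mod O} (f : M ⟶ M') :
    f ≫ qπ O U M' = qπ O U M ≫ (quotOn O U).map f :=
  (quotOnπ O U).naturality f

/-- descend a map to a null module to `quotOn` -/
noncomputable def quotOnDesc {M B : Mod O} (hB : IsNullOn O U B) (f : M ⟶ B) :
    (quotOn O U).obj M ⟶ B :=
  cokernel.desc _ f (extZero_hom_eq_zero hB _)

@[reassoc (attr := simp)]
lemma quotOnπ_desc {M B : Mod O} (hB : IsNullOn O U B) (f : M ⟶ B) :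
    qπ O U M ≫ quotOnDesc hB f = f :=
  cokernel.π_desc _ _ _

lemma quotOn_hom_ext {M B : Mod O} {f g : (quotOn O U).obj M ⟶ B}
    (h : qπ O U M ≫ f = qπ O U M ≫ g) : f = g :=
  (cancel_epi (qπ O U M)).1 h

section

variable [HasPushOver O U]

/-- `Hom(M/M_U, N) ≃ Hom(M, Γ_Z N)`. -/
noncomputable def homEquiv (M N : Mod O) :
    ((quotOn O U).obj M ⟶ N) ≃+ (M ⟶ (sectOn O U).obj N) where
  toFun φ := qπ O U M ≫ sectOnLift (ExtSupp.isNullOn_quotOn O U M) φ
  invFun ψ := quotOnDesc (isNullOn_sectOn O U N) ψ ≫ sι O U N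
  left_inv φ := by
    apply quotOn_hom_ext
    dsimp only
    rw [quotOnπ_desc_assoc, Category.assoc, sectOnLift_ι]
  right_inv ψ := by
    apply sectOn_hom_ext
    dsimp only
    rw [Category.assoc, sectOnLift_ι, quotOnπ_desc_assoc]
  map_add' φ φ' := by
    apply sectOn_hom_ext
    simp only [Category.assoc, sectOnLift_ι, Preadditive.add_comp, Preadditive.comp_add]

lemma homEquiv_ι {M N : Mod O} (φ : (quotOn O U).obj M ⟶ N) :
    homEquiv M N φ ≫ sι O U N = qπ O U M ≫ φ := by
  change (qπ O U M ≫ sectOnLift _ φ) ≫ _ = _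
  rw [Category.assoc, sectOnLift_ι]

lemma π_homEquiv_symm {M N : Mod O} (ψ : M ⟶ (sectOn O U).obj N) :
    qπ O U M ≫ (homEquiv M N).symm ψ = ψ ≫ sι O U N := by
  change _ ≫ quotOnDesc _ ψ ≫ _ = _
  rw [quotOnπ_desc_assoc]

lemma homEquiv_comp {M N N' : Mod O} (φ : (quotOn O U).obj M ⟶ N) (g : N ⟶ N') :
    homEquiv M N' (φ ≫ g) = homEquiv M N φ ≫ (sectOn O U).map g := by
  apply sectOn_hom_ext
  rw [homEquiv_ι, Category.assoc, sι_naturality, ← Category.assoc, ← Category.assoc, homEquiv_ι]

lemma homEquiv_precomp {M M' N : Mod O} (f : M' ⟶ M) (φ : (quotOn O U).obj M ⟶ N) :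
    homEquiv M' N ((quotOn O U).map f ≫ φ) = f ≫ homEquiv M N φ := by
  apply sectOn_hom_ext
  rw [homEquiv_ι, Category.assoc, homEquiv_ι, ← Category.assoc, ← Category.assoc, qπ_naturality]

/-- `Hom(M/M_U, -) ≅ Hom(M, Γ_Z -)`. -/
noncomputable def coyonedaQuotOnIso (M : Mod O) :
    preadditiveCoyoneda.obj (op ((quotOn O U).obj M)) ≅
      sectOn O U ⋙ preadditiveCoyoneda.obj (op M) :=
  NatIso.ofComponents (fun N => (homEquiv M N).toAddCommGrpIso) (by
    intro N N' g
    ext φ
    exact homEquiv_comp φ g)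

end

end Groth.Agent.Lib.Helper34.NullTorsion

namespace Groth.Agent.Lib.Helper34.NullTorsion

open ModSite

variable {C : Type u} [SmallCategory C] {J : GrothendieckTopology C} (O : Sheaf J CommRingCat.{u})
  (U : C) [HasPushOver O U]

/-- the adjunction `M ↦ M/M_U ⊣ Γ_Z`. -/
noncomputable def quotOnSectOnAdj : quotOn O U ⊣ sectOn O U :=
  Adjunction.mkOfHomEquiv
    { homEquiv := fun M N => (homEquiv M N).toEquiv
      homEquiv_naturality_left_symm := by
        intro M' M N f g
        apply (homEquiv M' N).injective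
        change homEquiv M' N ((homEquiv M' N).symm (f ≫ g)) =
          homEquiv M' N ((quotOn O U).map f ≫ (homEquiv M N).symm g)
        rw [AddEquiv.apply_symm_apply, homEquiv_precomp, AddEquiv.apply_symm_apply]
      homEquiv_naturality_right := by
        intro M N N' φ g
        exact homEquiv_comp φ g }

instance : PreservesLimitsOfSize.{u, u} (sectOn O U) :=
  (quotOnSectOnAdj O U).rightAdjoint_preservesLimits

instance : PreservesFiniteLimits (sectOn O U) :=
  PreservesLimitsOfSize.preservesFiniteLimits _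

end Groth.Agent.Lib.Helper34.NullTorsion
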