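import Groth.Agent.Lib.Helper34.LocCohSS
import Groth.Agent.Lib.Cohomology.helper5_SiteRpushSheafify
import Groth.Agent.Lib.Cohomology.helper5_SiteCechInj
import Mathlib.CategoryTheory.Sites.Adjunction

/-!
# Ingredients for the spectral sequence `H^p(R, ℋ^q(M)) ⇒ H^{p+q}(aR, M)`
-/

set_option autoImplicit false
universe u
open CategoryTheory CategoryTheory.Limits Opposite

namespace Groth.Agent.Lib.Helper34.PshCohSS

variable {C : Type u} [SmallCategory C] (J : GrothendieckTopology C)

instance isContinuous_id_bot : (𝟭 C).IsContinuous (⊥ : GrothendieckTopology C) J where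
  op_comp_isSheaf_of_types _ := Presieve.isSheaf_bot

/-- The forgetful functor from `J`-sheaves to presheaves viewed as sheaves for the trivial
topology. -/
noncomputable abbrev T : Sheaf J AddCommGrpCat.{u} ⥤ Sheaf (⊥ : GrothendieckTopology C) AddCommGrpCat.{u} :=
  CohSite.push J (⊥ : GrothendieckTopology C) (𝟭 C)

/-- `T` preserves injectives. -/
lemma injective_T_obj (I : Sheaf J AddCommGrpCat.{u}) [Injective I] : Injective ((T J).obj I) := by
  have hI : Injective I.obj :=
    Groth.Agent.Lib.Cohomology.SiteCech.injective_presheaf_of_injective_sheaf J I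
  constructor
  intro A B g f hf
  have hm : Mono f.hom := (Sheaf.Hom.mono_iff_presheaf_mono _ _ f).1 hf
  let h : B.obj ⟶ I.obj := Injective.factorThru (show A.obj ⟶ I.obj from g.hom) f.hom
  refine ⟨⟨h⟩, ?_⟩
  apply Sheaf.hom_ext
  exact Injective.comp_factorThru (show A.obj ⟶ I.obj from g.hom) f.hom

/-- `R^q T (M)` is the presheaf `ℋ^q(M)`. -/
theorem nonempty_rightDerived_T_iso (q : ℕ) (M : Sheaf J AddCommGrpCat.{u}) :
    Nonempty (((T J).rightDerived q).obj M ≅
      (⟨M.cohomologyPresheaf q, Presheaf.isSheaf_bot _⟩ :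
        Sheaf (⊥ : GrothendieckTopology C) AddCommGrpCat.{u})) := by
  obtain ⟨e⟩ := Groth.Agent.Lib.Cohomology.SiteRpushSh.rpush_iso_sheafify J
    (⊥ : GrothendieckTopology C) (𝟭 C) q M
  exact ⟨e ≪≫ Groth.Agent.Lib.Cohomology.SiteRpushSh.counitIso (⊥ : GrothendieckTopology C)
    (⟨M.cohomologyPresheaf q, Presheaf.isSheaf_bot _⟩ :
      Sheaf (⊥ : GrothendieckTopology C) AddCommGrpCat.{u})⟩

variable (R : Cᵒᵖ ⥤ Type u)

/-- the free abelian sheaf on the sheafification of `R` -/
noncomputable abbrev PJ : Sheaf J AddCommGrpCat.{u} :=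
  (presheafToSheaf J AddCommGrpCat.{u}).obj
    (((presheafToSheaf J (Type u)).obj R).obj ⋙ AddCommGrpCat.free.{u})

/-- the sheafification of the free abelian presheaf on `R` -/
noncomputable abbrev PJ' : Sheaf J AddCommGrpCat.{u} :=
  (presheafToSheaf J AddCommGrpCat.{u}).obj (R ⋙ AddCommGrpCat.free.{u})

/-- the free abelian presheaf on `R`, as a sheaf for the trivial topology -/
noncomputable abbrev PBot : Sheaf (⊥ : GrothendieckTopology C) AddCommGrpCat.{u} :=
  (presheafToSheaf (⊥ : GrothendieckTopology C) AddCommGrpCat.{u}).obj (R ⋙ AddCommGrpCat.free.{u})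

/-- sheafification commutes with the free abelian group functor -/
noncomputable def pjIso : PJ J R ≅ PJ' J R :=
  have : J.PreservesSheafification AddCommGrpCat.free.{u} :=
    Sheaf.preservesSheafification_of_adjunction J AddCommGrpCat.adj
  (presheafToSheafCompComposeAndSheafifyIso J AddCommGrpCat.free.{u}).app R

/-- precomposition with an isomorphism, additively -/
def precompAddEquiv {A : Type*} [Category A] [Preadditive A] {X Y : A} (e : X ≅ Y) (Z : A) :
    (X ⟶ Z) ≃+ (Y ⟶ Z) where
  toFun φ := e.inv ≫ φ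
  invFun ψ := e.hom ≫ ψ
  left_inv φ := by simp
  right_inv ψ := by simp
  map_add' φ φ' := Preadditive.comp_add _ _ _ _ _ _

/-- `Hom(ℤ[aR], F) ≃ Hom_{PSh}(ℤ[R], F)`. -/
noncomputable def homEquiv (F : Sheaf J AddCommGrpCat.{u}) :
    (PJ J R ⟶ F) ≃+ (PBot R ⟶ (T J).obj F) :=
  (precompAddEquiv (pjIso J R) F).trans
    (((sheafificationAdjunction J AddCommGrpCat.{u}).homAddEquiv
        (R ⋙ AddCommGrpCat.free.{u}) F).trans
      ((sheafificationAdjunction (⊥ : GrothendieckTopology C) AddCommGrpCat.{u}).homAddEquiv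
        (R ⋙ AddCommGrpCat.free.{u}) ((T J).obj F)).symm)

lemma homEquiv_comp {F G : Sheaf J AddCommGrpCat.{u}} (φ : PJ J R ⟶ F) (g : F ⟶ G) :
    homEquiv J R G (φ ≫ g) = homEquiv J R F φ ≫ (T J).map g := by
  change ((sheafificationAdjunction (⊥ : GrothendieckTopology C) AddCommGrpCat.{u}).homEquiv _ _).symm
      ((sheafificationAdjunction J AddCommGrpCat.{u}).homEquiv _ _ ((pjIso J R).inv ≫ φ ≫ g)) =
    ((sheafificationAdjunction (⊥ : GrothendieckTopology C) AddCommGrpCat.{u}).homEquiv _ _).symm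
      ((sheafificationAdjunction J AddCommGrpCat.{u}).homEquiv _ _ ((pjIso J R).inv ≫ φ)) ≫ (T J).map g
  rw [← Adjunction.homEquiv_naturality_right_symm, ← Category.assoc,
    Adjunction.homEquiv_naturality_right]
  rfl

/-- The natural isomorphism `Hom(ℤ[aR], -) ≅ Hom_{PSh}(ℤ[R], T -)`. -/
noncomputable def coyonedaIso :
    preadditiveCoyoneda.obj (op (PJ J R)) ≅ T J ⋙ preadditiveCoyoneda.obj (op (PBot R)) :=
  NatIso.ofComponents (fun F => (homEquiv J R F).toAddCommGrpIso) (by
    intro F G g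
    ext φ
    exact homEquiv_comp J R φ g)

end Groth.Agent.Lib.Helper34.PshCohSS
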