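import Groth.Agent.Lib.Helper34.ModDerLim
import Groth.Agent.Lib.Helper68.HLimSeq3
import Groth.Agent.Lib.Helper68.QCohTower
import Groth.Agent.Lib.Helper68.DerProdGroth
import Groth.Agent.Lib.Helper68.DerLimSh5
import Groth.Agent.Lib.Helper6.DerSmall
import Groth.Agent.Lib.Cohomology.Helper1_HUTop

/-!
# `R lim` of a tower of quasi-coherent modules with eventually surjective transition maps
-/

set_option autoImplicit false
universe w u
open CategoryTheory CategoryTheory.Limits AlgebraicGeometry Opposite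

namespace Groth.Agent.Lib.Helper34.QCohRlim

open Groth.Agent.Lib.Helper68.QCohTower Groth.Agent.Lib.Helper68.HLimSeq
  Groth.Agent.Lib.Helper68.DerLimSh Groth.Agent.Lib.Helper68.HZeroLocal

/-- an epimorphism of quasi-coherent modules is surjective on sections over affine opens. -/
lemma surjective_app_of_epi {Y : Scheme.{u}} {M N : Y.Modules} (τ : M ⟶ N) [hτ : Epi τ]
    (hM : M.IsQuasicoherent) (hN : N.IsQuasicoherent) (V : Y.Opens) (hV : IsAffineOpen V) :
    Function.Surjective (((TY Y).map τ).hom.app (op V)).hom := by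
  have : (kernel τ).IsQuasicoherent := Groth.Agent.Lib.QCoh.isQuasicoherent_kernel τ
  let S : ShortComplex Y.Modules := ShortComplex.mk (kernel.ι τ) τ (kernel.condition τ)
  have hS : S.ShortExact :=
    ShortComplex.ShortExact.mk' (ShortComplex.exact_of_f_is_kernel S (kernelIsKernel τ))
      (inferInstanceAs (Mono (kernel.ι τ))) hτ
  have hS' : (S.map (Groth.Agent.Lib.QCoh.toAbFunctor Y)).ShortExact := hS.map_of_exact _
  have h3 := Groth.Agent.Lib.Cohomology.Leray.sections_surjective_of_H1 hS' V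
    (Groth.Agent.Lib.Cohomology.HU_succ_subsingleton_of_isAffineOpen (kernel τ) V hV 0)
  intro y
  obtain ⟨x, hx⟩ := h3 y
  exact ⟨x, hx⟩

/-- vanishing of `lim^1` of sections over affine opens. -/
lemma limOne_sections {Y : Scheme.{u}} (F : ℕ → Y.Modules) (hF : ∀ n, (F n).IsQuasicoherent)
    (t : ∀ n, F (n + 1) ⟶ F n) (ht : ∀ n, 1 ≤ n → Epi (t n)) (V : Y.Opens) (hV : IsAffineOpen V) :
    CohCx.LimOneIsZero (fun n => ((TY Y).obj (F n)).obj.obj (op V))
      (fun n => (((TY Y).map (t n)).hom.app (op V)).hom) :=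
  Groth.Agent.Lib.Helper68.TruncRlim.limOneIsZero_of_eventually_surjective 1 _ _ (fun n hn => by
    haveI := ht n hn
    exact surjective_app_of_epi (t n) (hF (n + 1)) (hF n) V hV)

section Ab

variable {C : Type u} [SmallCategory C] {J : GrothendieckTopology C}
  [HasDerivedCategory.{u} (Sheaf J AddCommGrpCat.{u})]
  (F : ℕᵒᵖ ⥤ Sheaf J AddCommGrpCat.{u})
  (B : Set C)
  (hB : ∀ U : C, ∃ (ι : Type u) (Y : ι → C) (f : ∀ i, Y i ⟶ U),
    Sieve.ofArrows Y f ∈ J U ∧ ∀ i, Y i ∈ B)
  (h1 : ∀ U ∈ B, ∀ (p n : ℕ), Subsingleton (CohSite.HU (F.obj (op n)) (p + 1) U))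
  (h2 : ∀ U ∈ B, CohCx.LimOneIsZero (fun n => (Fobj F n).obj.obj (op U))
    (fun n => ((Ftr F n).hom.app (op U)).hom))
  [HasProduct (KK (Fobj F))] (c : Cone F) (hc : IsLimit c)

include hB h1 h2 hc in
theorem isRlimVia_of_isLimit' :
    CohCx.IsRlimVia (KK (Fobj F)) (tt (Fobj F) (Ftr F)) (S.obj c.pt)
      (fun n => S.map (c.π.app (op n))) := by
  let α : F ⟶ CohCx.opSequence (Fobj F) (Ftr F) := NatTrans.ofOpSequence (fun n => 𝟙 _) (fun n => by
    have h1 : (CohCx.opSequence (Fobj F) (Ftr F)).map (homOfLE (n.le_add_right 1)).op = Ftr F n :=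
      Functor.ofOpSequence_map_homOfLE_succ (Ftr F) n
    exact (Category.comp_id _).trans (h1.symm.trans (Category.id_comp _).symm))
  have : IsIso α := by
    have : ∀ k, IsIso (α.app k) := fun k => by
      change IsIso (𝟙 _)
      infer_instance
    exact NatIso.isIso_of_isIso_app α
  let e : c.pt ≅ Flim (Fobj F) (Ftr F) :=
    IsLimit.conePointsIsoOfNatIso hc (limit.isLimit _) (asIso α)
  have he : ∀ n, e.hom ≫ proj (Fobj F) (Ftr F) n = c.π.app (op n) := by
    intro n
    have h := IsLimit.conePointsIsoOfNatIso_hom_comp hc (limit.isLimit _) (asIso α) (op n)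
    refine h.trans ?_
    exact Category.comp_id _
  exact isRlimVia_of_iso_Flim (Fobj F) (Ftr F) B hB h1 h2
    (fun n => c.π.app (op n)) e he

include hB h1 h2 hc in
theorem subsingleton_HU_of_isLimit' (U : C) (hU : U ∈ B) (q : ℕ) :
    Subsingleton (CohSite.HU c.pt (q + 1) U) := by
  have hL := isRlimVia_of_isLimit' F B hB h1 h2 c hc
  have e1 : CohSite.HU c.pt (q + 1) U ≃
      (S.obj (CohCx.freeSheaf J U) ⟶ (S.obj c.pt)⟦((q + 1 : ℕ) : ℤ)⟧) :=
    Abelian.Ext.homEquiv
  refine e1.subsingleton_congr.2 ⟨fun x y => ?_⟩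
  have hx : ∀ x : S.obj (CohCx.freeSheaf J U) ⟶ (S.obj c.pt)⟦((q + 1 : ℕ) : ℤ)⟧, x = 0 := by
    intro x
    exact hom_Z_eq_zero (Fobj F) (Ftr F) B h1 h2 hL U hU
      ((q + 1 : ℕ) : ℤ) (by omega) x
  rw [hx x, hx y]

end Ab

section Sch

variable {X : Scheme.{u}} (F : ℕ → X.Modules) (hF : ∀ n, Coh.IsQCoh (F n))
  (t : ∀ n, F (n + 1) ⟶ F n) (ht : ∀ n, 1 ≤ n → Epi (t n))

/-- `X.Modules`, in the form the site-level library sees. -/
abbrev MS (X : Scheme.{u}) : Type (u + 1) :=
  ModSite.Mod (J := Opens.grothendieckTopology X) X.sheaf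

include hF ht in
/-- part (A): `lim F_n` in degree `0` is a derived limit of the `F_n[0]`. -/
theorem isRlim [HasDerivedCategory.{w} (MS X)]
    [HasProduct fun n => (DerivedCategory.singleFunctor (MS X) 0).obj (F n)] :
    DCoh.IsRlim (fun n => (DerivedCategory.singleFunctor (MS X) 0).obj (F n))
      (fun n => (DerivedCategory.singleFunctor (MS X) 0).map (t n))
      ((DerivedCategory.singleFunctor (MS X) 0).obj
        (limit (C := MS X) (CohCx.opSequence F t))) := by
  refine Groth.Agent.Lib.Helper34.ModDerLim.main (O := X.sheaf) F t X.affineOpens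
    (Groth.Agent.Lib.Helper68.DerLimSh.hB_site (X := X.toTopCat) X.affineOpens
      X.isBasis_affineOpens) ?_ ?_
  · intro U hU p n
    haveI : (F n).IsQuasicoherent := hF n
    exact Groth.Agent.Lib.Cohomology.HU_succ_subsingleton_of_isAffineOpen (F n) U hU p
  · intro U hU
    exact limOne_sections F hF t ht U hU

include hF ht in
/-- part (B): `lim F_n` has no higher cohomology on affine opens. -/
theorem subsingleton_HHon (U : X.Opens) (hU : IsAffineOpen U) (p : ℕ) (hp : 0 < p) :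
    Subsingleton (Coh.HHon X (limit (Functor.ofOpSequence t)) U p) := by
  classical
  obtain ⟨q, rfl⟩ : ∃ q, p = q + 1 := ⟨p - 1, by omega⟩
  let G : ℕᵒᵖ ⥤ X.Modules := Functor.ofOpSequence t
  let Y : Scheme.{u} := ↑U
  let R : X.Modules ⥤ Y.Modules := Scheme.Modules.restrictFunctor U.ι
  let G' : ℕᵒᵖ ⥤ Y.Modules := G ⋙ R
  let _ : HasDerivedCategory.{u} (Sheaf (Opens.grothendieckTopology Y) AddCommGrpCat.{u}) :=
    Groth.Agent.Lib.Helper6.DerSmall.hasDerivedCategory _
  let Fab : ℕᵒᵖ ⥤ Sheaf (Opens.grothendieckTopology Y) AddCommGrpCat.{u} := G' ⋙ TY Y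
  have : HasProduct (KK (Fobj Fab)) := Groth.Agent.Lib.Helper68.DerProd.hasProduct _
  let c : Cone Fab := (RT U.ι).mapCone (limit.cone G)
  have hc : IsLimit c := isLimitMapCone U.ι G
  have hq' : ∀ n : ℕ, (G'.obj (op n)).IsQuasicoherent := by
    intro n
    have : (F n).IsQuasicoherent := hF n
    change ((Scheme.Modules.restrictFunctor U.ι).obj (F n)).IsQuasicoherent
    infer_instance
  have hmap : ∀ n : ℕ, G'.map (homOfLE (Nat.le_succ n)).op = R.map (t n) := by
    intro n
    change R.map (G.map (homOfLE (Nat.le_succ n)).op) = _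
    rw [Functor.ofOpSequence_map_homOfLE_succ]
    rfl
  have hepi' : ∀ n : ℕ, 1 ≤ n → Epi (G'.map (homOfLE (Nat.le_succ n)).op) := by
    intro n hn
    rw [hmap]
    haveI : Epi (t n) := ht n hn
    exact (Scheme.Modules.restrictFunctor U.ι).map_epi (t n)
  have hYaff : (⊤ : Y.Opens) ∈ (Y.affineOpens : Set Y.Opens) := by
    have : IsAffine Y := hU
    exact isAffineOpen_top Y
  have key := subsingleton_HU_of_isLimit' Fab (Y.affineOpens : Set Y.Opens)
    (hB_site _ Y.isBasis_affineOpens) (Groth.Agent.Lib.Helper68.QCohTower.h1 G' hq')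
    (fun V hV => limOne_sections (fun n => G'.obj (op n)) hq'
      (fun n => G'.map (homOfLE (Nat.le_succ n)).op) hepi' V hV) c hc ⊤ hYaff q
  exact (Groth.Agent.Lib.Cohomology.HUTopEquiv _ c.pt (q + 1)).symm.subsingleton

end Sch

end Groth.Agent.Lib.Helper34.QCohRlim
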