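import Groth.Agent.Lib.Helper99.KInjDerK
import Mathlib.Algebra.Homology.DerivedCategory.RightDerivedFunctorPlus
import Mathlib.CategoryTheory.Abelian.GrothendieckCategory.EnoughInjectives

/-!
# The bounded below right derived functor agrees with the unbounded one
-/

set_option autoImplicit false
universe w w' v v' u u'
open CategoryTheory CategoryTheory.Limits

namespace Groth.Agent.Lib.Helper34.RDPlusCompare

variable {A : Type u} [Category.{v} A] [Abelian A] [IsGrothendieckAbelian.{v} A]
  [HasDerivedCategory.{w} A]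
  {A' : Type u'} [Category.{v'} A'] [Abelian A'] [HasDerivedCategory.{w'} A']
  (G : A ⥤ A') [G.Additive]
  (RG : DerivedCategory A ⥤ DerivedCategory A')
  (β : G.mapHomotopyCategory (ComplexShape.up ℤ) ⋙ DerivedCategory.Qh ⟶ DerivedCategory.Qh ⋙ RG)
  [RG.IsRightDerivedFunctor β (HomotopyCategory.quasiIso A (ComplexShape.up ℤ))]

include β in
theorem nonempty_iso (K : CochainComplex.Plus A) :
    Nonempty (DerivedCategory.Plus.ι.obj (G.rightDerivedFunctorPlus.obj
        (DerivedCategory.Plus.Qh.obj ((HomotopyCategory.Plus.quotient A).obj K))) ≅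
      RG.obj (DerivedCategory.Q.obj K.obj)) := by
  obtain ⟨n, hn⟩ := K.property
  haveI : K.obj.IsStrictlyGE n := hn
  obtain ⟨L, _, i, hi⟩ := CochainComplex.Plus.exists_quasiIso_injective K n
  let M : CochainComplex.Plus A := (InjectiveObject.ι A).mapCochainComplexPlus.obj L
  -- bounded below side
  have hi' : HomotopyCategory.quasiIso A (ComplexShape.up ℤ)
      ((HomotopyCategory.quotient A (ComplexShape.up ℤ)).map i.hom) := by
    rw [HomotopyCategory.quotient_map_mem_quasiIso_iff]
    exact hi
  have h1 : IsIso (DerivedCategory.Plus.Qh.map ((HomotopyCategory.Plus.quotient A).map i)) :=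
    Localization.inverts DerivedCategory.Plus.Qh (HomotopyCategory.Plus.quasiIso A) _ hi'
  let e1 : DerivedCategory.Plus.Qh.obj ((HomotopyCategory.Plus.quotient A).obj K) ≅
      DerivedCategory.Plus.Qh.obj ((HomotopyCategory.Plus.quotient A).obj M) :=
    asIso (DerivedCategory.Plus.Qh.map ((HomotopyCategory.Plus.quotient A).map i))
  have h2 : IsIso (G.rightDerivedFunctorPlusUnit.app ((HomotopyCategory.Plus.quotient A).obj M)) :=
    inferInstance
  let e2 := asIso (G.rightDerivedFunctorPlusUnit.app ((HomotopyCategory.Plus.quotient A).obj M))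
  -- unbounded side
  have h3 : IsIso (DerivedCategory.Qh.map
      ((HomotopyCategory.quotient A (ComplexShape.up ℤ)).map i.hom)) :=
    Localization.inverts DerivedCategory.Qh (HomotopyCategory.quasiIso A (ComplexShape.up ℤ)) _ hi'
  let e3 : DerivedCategory.Q.obj K.obj ≅ DerivedCategory.Q.obj M.obj :=
    @asIso _ _ _ _ (DerivedCategory.Qh.map
      ((HomotopyCategory.quotient A (ComplexShape.up ℤ)).map i.hom)) h3
  have hM : CochainComplex.IsKInjective M.obj :=
    inferInstanceAs (CochainComplex.IsKInjective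
      (((InjectiveObject.ι A).mapHomologicalComplex (.up ℤ)).obj L.obj))
  have h4 : IsIso (β.app ((HomotopyCategory.quotient A (ComplexShape.up ℤ)).obj M.obj)) :=
    Groth.Agent.Lib.Helper99.KInj.isIso_app_of_kInjK _ RG β _ hM
  let e4 := asIso (β.app ((HomotopyCategory.quotient A (ComplexShape.up ℤ)).obj M.obj))
  exact ⟨DerivedCategory.Plus.ι.mapIso (G.rightDerivedFunctorPlus.mapIso e1 ≪≫ e2.symm) ≪≫
    e4 ≪≫ RG.mapIso e3.symm⟩

end Groth.Agent.Lib.Helper34.RDPlusCompare
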