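import Groth.Agent.Lib.Helper34.RDBdd
import Groth.Agent.Lib.Helper34.RDPlusCompare
import Groth.Agent.Lib.Helper34.ModUnbdd
import Groth.Agent.Lib.Helper32.DevissageDer
import Groth.Agent.Lib.Helper32.AdjDevissage
import Groth.Agent.Lib.Helper6.InjRes

/-!
# Right derived functors on `D⁺` and weak Serre classes (helper34)

If `Rᵖ F` maps a weak Serre class `P` into a weak Serre class `P'` for all `p`, then `R⁺F` maps
bounded below complexes with cohomology in `P` to complexes with cohomology in `P'`.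
-/

set_option autoImplicit false
universe w w' v' u u'
open CategoryTheory Limits Pretriangulated DerivedCategory

namespace Groth.Agent.Lib.Helper34.RDPlusSerre

open Groth.Agent.Lib.Helper32 Groth.Agent.Lib.Helper34.ModUnbdd

variable {A : Type (u + 1)} [Category.{u} A] [Abelian A] [HasDerivedCategory.{w} A]
  [IsGrothendieckAbelian.{u} A]
  {B : Type u'} [Category.{v'} B] [Abelian B] [HasDerivedCategory.{w'} B]
  (F : A ⥤ B) [F.Additive]

section Tri

variable (R : DerivedCategory A ⥤ DerivedCategory B) [R.CommShift ℤ] [R.IsTriangulated]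
  (β : F.mapHomotopyCategory (ComplexShape.up ℤ) ⋙ DerivedCategory.Qh ⟶ DerivedCategory.Qh ⋙ R)
  [R.IsRightDerivedFunctor β (HomotopyCategory.quasiIso A (ComplexShape.up ℤ))]
  [HasInjectiveResolutions A]

include β in
/-- `RF` is left t-exact. -/
lemma isGE_R (Y : DerivedCategory A) (a : ℤ) [Y.IsGE a] : (R.obj Y).IsGE a := by
  obtain ⟨K, hK, ⟨e⟩⟩ := DerivedCategory.exists_iso_Q_obj_of_isGE Y a
  obtain ⟨L, j, hL, hinj, -, hq⟩ := Groth.Agent.Lib.Helper6.InjRes.exists_mono_quasiIso_injective K a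
  haveI : L.IsKInjective := CochainComplex.isKInjective_of_injective _ a
  haveI := Groth.Agent.Lib.Helper6.RFAcyc.isIso_bC_of_isKInjective F R β L
  haveI : IsIso (Q.map j) := by
    rw [isIso_Q_map_iff_quasiIso]
    exact hq
  let e1 : Y ≅ Q.obj L := e ≪≫ asIso (Q.map j)
  let e2 : Q.obj ((F.mapHomologicalComplex (ComplexShape.up ℤ)).obj L) ≅ R.obj (Q.obj L) :=
    asIso ((Groth.Agent.Lib.Helper6.RFAcyc.bC F R β).app L)
  haveI : CochainComplex.IsStrictlyGE ((F.mapHomologicalComplex (ComplexShape.up ℤ)).obj L) a :=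
    inferInstance
  haveI : (Q.obj ((F.mapHomologicalComplex (ComplexShape.up ℤ)).obj L)).IsGE a := by
    rw [isGE_Q_obj_iff]
    infer_instance
  exact TStructure.t.isGE_of_iso (e2 ≪≫ R.mapIso e1.symm) a

variable (P : ObjectProperty A) [WSerre.IsWeakSerre P] (P' : ObjectProperty B)
  [WSerre.IsWeakSerre P']
  (h3 : ∀ M : A, P M → ∀ p : ℕ, P' ((F.rightDerived p).obj M))

include β h3 in
lemma cohIn_R_single (M : A) (hM : P M) :
    WSerre.cohIn P' (R.obj ((singleFunctor A 0).obj M)) := by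
  intro j
  by_cases hj : j < 0
  · exact P'.prop_of_isZero (RDBdd.isZero_homology_single_neg F R β M 0 j hj)
  · obtain ⟨p, rfl⟩ : ∃ p : ℕ, j = (p : ℤ) := ⟨j.toNat, by omega⟩
    obtain ⟨e⟩ := RDBdd.nonempty_homology_single_iso F R β M 0 p p (by omega)
    exact P'.prop_of_iso e.symm (h3 M hM p)

include β h3 in
theorem cohIn_R_plus (Y : DerivedCategory A) (hY : WSerre.cohIn P Y) (a : ℤ) [Y.IsGE a] :
    WSerre.cohIn P' (R.obj Y) := by
  intro j
  have hT := TStructure.t.triangleLTGE_distinguished (j + 2) Y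
  have hT' := R.map_distinguished _ hT
  have hGE : (R.obj ((TStructure.t.truncGE (j + 2)).obj Y)).IsGE (j + 2) := isGE_R F R β _ (j + 2)
  have hiso : IsIso ((homologyFunctor B j).map
      (R.map ((TStructure.t.truncLTι (j + 2)).app Y))) :=
    @AdjDevissage.isIso_homology_mor₁_of_isGE _ _ _ _ _ hT' (j + 2) j (by omega) hGE
  have hb : WSerre.cohIn P' (R.obj ((TStructure.t.truncLT (j + 2)).obj Y)) := by
    obtain ⟨n, hn⟩ : ∃ n : ℕ, j + 2 - 1 < a + n := ⟨(j + 2 - a).toNat, by omega⟩
    refine Devissage.gen_aux P ((WSerre.cohIn P').inverseImage R)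
      (fun M hM => cohIn_R_single F R β P P' h3 M hM) n a (j + 2 - 1) _ hn
      (cohIn_truncLT P hY (j + 2)) ?_
    intro i hi
    by_cases him : i < j + 2
    · have := EssConstDer.isIso_homology_truncLTι Y (j + 2) i him
      exact (isZero_of_isGE Y a i (by omega)).of_iso
        (asIso ((homologyFunctor A i).map ((TStructure.t.truncLTι (j + 2)).app Y)))
    · exact isZero_of_isLE ((TStructure.t.truncLT (j + 2)).obj Y) (j + 2 - 1) i (by omega)
  exact P'.prop_of_iso (asIso ((homologyFunctor B j).map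
    (R.map ((TStructure.t.truncLTι (j + 2)).app Y)))) (hb j)

end Tri

section Plus

variable [HasInjectiveResolutions A]
  (P : ObjectProperty A) [WSerre.IsWeakSerre P] (P' : ObjectProperty B) [WSerre.IsWeakSerre P']
  (h3 : ∀ M : A, P M → ∀ p : ℕ, P' ((F.rightDerived p).obj M))

/-- comparison of `R⁺F` with any total right derived functor, on an arbitrary object of `D⁺`. -/
theorem nonempty_plus_iso (R : DerivedCategory A ⥤ DerivedCategory B)
    (β : F.mapHomotopyCategory (ComplexShape.up ℤ) ⋙ DerivedCategory.Qh ⟶ DerivedCategory.Qh ⋙ R)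
    [R.IsRightDerivedFunctor β (HomotopyCategory.quasiIso A (ComplexShape.up ℤ))]
    (E : DerivedCategory.Plus A) :
    Nonempty ((F.rightDerivedFunctorPlus.obj E).obj ≅ R.obj E.obj) := by
  let H := (DerivedCategory.Plus.Qh (C := A)).objPreimage E
  let K := (HomotopyCategory.Plus.quotient A).objPreimage H
  let e : DerivedCategory.Plus.Qh.obj ((HomotopyCategory.Plus.quotient A).obj K) ≅ E :=
    DerivedCategory.Plus.Qh.mapIso ((HomotopyCategory.Plus.quotient A).objObjPreimageIso H) ≪≫
      (DerivedCategory.Plus.Qh (C := A)).objObjPreimageIso E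
  obtain ⟨c⟩ := RDPlusCompare.nonempty_iso F R β K
  let e' : Q.obj K.obj ≅ E.obj := DerivedCategory.Plus.ι.mapIso e
  exact ⟨(DerivedCategory.Plus.ι.mapIso (F.rightDerivedFunctorPlus.mapIso e)).symm ≪≫ c ≪≫
    R.mapIso e'⟩

include h3 in
/-- `R⁺F` maps `D⁺_P` to `D_{P'}`. -/
theorem cohIn_rightDerivedFunctorPlus (E : DerivedCategory.Plus A) (hE : WSerre.cohIn P E.obj) :
    WSerre.cohIn P' (F.rightDerivedFunctorPlus.obj E).obj := by
  obtain ⟨R, _, β, _, _⟩ := RDBdd.exists_model F
  obtain ⟨c⟩ := nonempty_plus_iso F R β E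
  obtain ⟨a, ha⟩ := E.property
  have key := cohIn_R_plus F R β P P' h3 E.obj hE a
  intro i
  exact P'.prop_of_iso ((homologyFunctor B i).mapIso c.symm) (key i)

end Plus

end Groth.Agent.Lib.Helper34.RDPlusSerre
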