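import Mathlib
import Groth.Prelude.Def_DRing3
import Groth.Agent.Lib.Helper99.KInjDerK

/-!
# `RΓ_I` on `D(A)` through K-injective resolutions
-/

set_option autoImplicit false
universe u
open CategoryTheory CategoryTheory.Limits ZeroObject

attribute [local instance] HasDerivedCategory.standard

namespace Groth.Agent.Lib.Helper34.RGammaI

open Groth.Agent.Lib.Helper99.KInj

variable {A : Type u} [CommRing A] (I : Ideal A)

/-- termwise `Γ_I` of a complex -/
noncomputable abbrev gammaCx (J : CochainComplex (ModuleCat.{u} A) ℤ) :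
    CochainComplex (ModuleCat.{u} A) ℤ :=
  ((DRing.gammaI I).mapHomologicalComplex (ComplexShape.up ℤ)).obj J

/-- `RΓ_I (Q J) ≅ Q (Γ_I J)` for `J` K-injective -/
theorem nonempty_iso_of_kInj [DRing.HasRgammaI I] (J : CochainComplex (ModuleCat.{u} A) ℤ)
    [J.IsKInjective] :
    Nonempty ((DRing.RgammaI I).obj (DerivedCategory.Q.obj J) ≅
      DerivedCategory.Q.obj (gammaCx I J)) := by
  have h := isIso_app_of_kInjK (DRing.gammaIKh I) (DRing.RgammaI I)
    ((DRing.gammaIKh I).totalRightDerivedUnit DerivedCategory.Qh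
      (HomotopyCategory.quasiIso (ModuleCat.{u} A) (ComplexShape.up ℤ)))
    ((HomotopyCategory.quotient _ _).obj J) (inferInstanceAs J.IsKInjective)
  let e1 := asIso (((DRing.gammaIKh I).totalRightDerivedUnit DerivedCategory.Qh
      (HomotopyCategory.quasiIso (ModuleCat.{u} A) (ComplexShape.up ℤ))).app
      ((HomotopyCategory.quotient _ _).obj J))
  let e2 : (DRing.gammaIKh I).obj ((HomotopyCategory.quotient _ _).obj J) ≅
      DerivedCategory.Q.obj (gammaCx I J) :=
    DerivedCategory.Qh.mapIso (((DRing.gammaI I).mapHomotopyCategoryFactors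
      (ComplexShape.up ℤ)).app J) ≪≫
      (DerivedCategory.quotientCompQhIso (ModuleCat.{u} A)).app (gammaCx I J)
  let e3 : (DRing.RgammaI I).obj (DerivedCategory.Qh.obj ((HomotopyCategory.quotient _ _).obj J)) ≅
      (DRing.RgammaI I).obj (DerivedCategory.Q.obj J) :=
    (DRing.RgammaI I).mapIso ((DerivedCategory.quotientCompQhIso (ModuleCat.{u} A)).app J)
  exact ⟨e3.symm ≪≫ e1.symm ≪≫ e2⟩

/-- `RΓ_I (Q K) ≅ Q (Γ_I J)` for a K-injective resolution `K ⟶ J` -/
theorem nonempty_iso_of_resolution [DRing.HasRgammaI I] {K J : CochainComplex (ModuleCat.{u} A) ℤ}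
    [J.IsKInjective] (i : K ⟶ J) [QuasiIso i] :
    Nonempty ((DRing.RgammaI I).obj (DerivedCategory.Q.obj K) ≅
      DerivedCategory.Q.obj (gammaCx I J)) := by
  obtain ⟨e⟩ := nonempty_iso_of_kInj I J
  exact ⟨(DRing.RgammaI I).mapIso (asIso (DerivedCategory.Q.map i)) ≪≫ e⟩

/-- `Q L` is zero for `L` acyclic -/
theorem isZero_Q_obj_of_acyclic (L : CochainComplex (ModuleCat.{u} A) ℤ)
    (h : ∀ n, IsZero (L.homology n)) : IsZero (DerivedCategory.Q.obj L) := by
  have hq : QuasiIso (0 : L ⟶ 0) := by
    rw [quasiIso_iff]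
    intro n
    rw [quasiIsoAt_iff_isIso_homologyMap]
    refine ⟨⟨0, (h n).eq_of_src _ _, IsZero.eq_of_src ?_ _ _⟩⟩
    exact (HomologicalComplex.homologyFunctor _ _ n).map_isZero (isZero_zero _)
  have : IsIso (DerivedCategory.Q.map (0 : L ⟶ 0)) := inferInstance
  exact IsZero.of_iso (DerivedCategory.Q.map_isZero (isZero_zero _))
    (asIso (DerivedCategory.Q.map (0 : L ⟶ 0)))

/-- a quasi-isomorphism between K-injective complexes is an isomorphism in the homotopy category -/
theorem isIso_quotient_map_of_quasiIso {J J' : CochainComplex (ModuleCat.{u} A) ℤ}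
    [J.IsKInjective] [J'.IsKInjective] (φ : J ⟶ J') [QuasiIso φ] :
    IsIso ((HomotopyCategory.quotient (ModuleCat.{u} A) (ComplexShape.up ℤ)).map φ) := by
  let X : (kInjK (ModuleCat.{u} A)).FullSubcategory :=
    ⟨(HomotopyCategory.quotient _ _).obj J, inferInstanceAs J.IsKInjective⟩
  let X' : (kInjK (ModuleCat.{u} A)).FullSubcategory :=
    ⟨(HomotopyCategory.quotient _ _).obj J', inferInstanceAs J'.IsKInjective⟩
  let φ' : X ⟶ X' := ObjectProperty.homMk ((HomotopyCategory.quotient _ _).map φ)
  have h1 : IsIso (((kInjK (ModuleCat.{u} A)).ι ⋙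
      (DerivedCategory.Qh : _ ⥤ DerivedCategory (ModuleCat.{u} A))).map φ') := by
    have h2 : IsIso (DerivedCategory.Q.map φ) := inferInstance
    have h3 := (DerivedCategory.quotientCompQhIso (ModuleCat.{u} A)).hom.naturality φ
    have h4 : IsIso (DerivedCategory.Qh.map ((HomotopyCategory.quotient _ _).map φ)) := by
      have : DerivedCategory.Qh.map ((HomotopyCategory.quotient _ _).map φ) =
          (DerivedCategory.quotientCompQhIso (ModuleCat.{u} A)).hom.app J ≫
            DerivedCategory.Q.map φ ≫ (DerivedCategory.quotientCompQhIso (ModuleCat.{u} A)).inv.app J' := by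
        rw [← Category.assoc, ← h3]
        simp
      rw [this]
      infer_instance
    exact h4
  have h5 : IsIso φ' := isIso_of_fully_faithful ((kInjK (ModuleCat.{u} A)).ι ⋙
      (DerivedCategory.Qh : _ ⥤ DerivedCategory (ModuleCat.{u} A))) φ'
  exact (inferInstance : IsIso ((kInjK (ModuleCat.{u} A)).ι.map φ'))

lemma gammaCx_map_smul (f : A) (J : CochainComplex (ModuleCat.{u} A) ℤ) :
    ((DRing.gammaI I).mapHomologicalComplex (ComplexShape.up ℤ)).map (f • 𝟙 J) =
      f • 𝟙 (gammaCx I J) := by
  ext n x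
  rfl

lemma homologyMap_smul_id (f : A) (L : CochainComplex (ModuleCat.{u} A) ℤ) (n : ℤ) :
    HomologicalComplex.homologyMap (f • 𝟙 L) n = f • 𝟙 (L.homology n) := by
  have h1 : (HomologicalComplex.shortComplexFunctor (ModuleCat.{u} A) (ComplexShape.up ℤ) n).map
      (f • 𝟙 L) = f • 𝟙 _ := by
    ext <;> simp <;> rfl
  change ShortComplex.homologyMap
    ((HomologicalComplex.shortComplexFunctor (ModuleCat.{u} A) (ComplexShape.up ℤ) n).map (f • 𝟙 L)) = _
  rw [h1, ShortComplex.homologyMap_smul, ShortComplex.homologyMap_id]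
  rfl

/-- if `f ∈ I` acts invertibly (up to homotopy) on `J`, then `Γ_I J` is acyclic -/
theorem isZero_homology_gammaCx_of_isIso (f : A) (hf : f ∈ I)
    (J : CochainComplex (ModuleCat.{u} A) ℤ)
    (h : IsIso ((HomotopyCategory.quotient (ModuleCat.{u} A) (ComplexShape.up ℤ)).map (f • 𝟙 J)))
    (n : ℤ) : IsZero ((gammaCx I J).homology n) := by
  -- `f` acts invertibly on the homology of `Γ_I J`
  have h1 : IsIso (((DRing.gammaI I).mapHomotopyCategory (ComplexShape.up ℤ)).map
      ((HomotopyCategory.quotient (ModuleCat.{u} A) (ComplexShape.up ℤ)).map (f • 𝟙 J))) :=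
    inferInstance
  have h2 : IsIso ((HomotopyCategory.quotient (ModuleCat.{u} A) (ComplexShape.up ℤ)).map
      (((DRing.gammaI I).mapHomologicalComplex (ComplexShape.up ℤ)).map (f • 𝟙 J))) :=
    (NatIso.isIso_map_iff ((DRing.gammaI I).mapHomotopyCategoryFactors (ComplexShape.up ℤ))
      (f • 𝟙 J)).1 h1
  rw [gammaCx_map_smul] at h2
  have h3 : IsIso ((HomotopyCategory.homologyFunctor (ModuleCat.{u} A) (ComplexShape.up ℤ) n).map
      ((HomotopyCategory.quotient (ModuleCat.{u} A) (ComplexShape.up ℤ)).map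
        (f • 𝟙 (gammaCx I J)))) := inferInstance
  have h4 : IsIso (HomologicalComplex.homologyMap (f • 𝟙 (gammaCx I J)) n) :=
    (NatIso.isIso_map_iff (HomotopyCategory.homologyFunctorFactors (ModuleCat.{u} A)
      (ComplexShape.up ℤ) n) (f • 𝟙 (gammaCx I J))).1 h3
  rw [homologyMap_smul_id] at h4
  -- every class is killed by a power of `f`
  have hinj : Function.Injective (fun x : (gammaCx I J).homology n => f • x) := by
    have := ((ModuleCat.mono_iff_injective (f • 𝟙 ((gammaCx I J).homology n))).1 inferInstance)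
    intro x y hxy
    exact this hxy
  have hinj' : ∀ k : ℕ, Function.Injective (fun x : (gammaCx I J).homology n => f ^ k • x) := by
    intro k
    induction k with
    | zero =>
      intro x y hxy
      have h0 : (f ^ 0 • x) = f ^ 0 • y := hxy
      rwa [pow_zero, one_smul, one_smul] at h0
    | succ k ih =>
      intro x y hxy
      apply ih
      apply hinj
      show f • (f ^ k • x) = f • (f ^ k • y)
      rw [smul_smul, smul_smul, ← pow_succ']
      exact hxy
  rw [ModuleCat.isZero_iff_subsingleton]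
  refine ⟨fun x y => ?_⟩
  suffices ∀ x : (gammaCx I J).homology n, x = 0 by rw [this x, this y]
  intro x
  obtain ⟨z, rfl⟩ := (ModuleCat.epi_iff_surjective ((gammaCx I J).homologyπ n)).1 inferInstance x
  obtain ⟨k, hk⟩ := ((gammaCx I J).iCycles n z).2
  have hz : f ^ k • z = 0 := by
    apply (ModuleCat.mono_iff_injective ((gammaCx I J).iCycles n)).1 inferInstance
    rw [map_smul, map_zero]
    apply Subtype.ext
    exact hk (f ^ k) (Ideal.pow_mem_pow hf k)
  apply hinj' k
  change f ^ k • ((gammaCx I J).homologyπ n) z = f ^ k • 0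
  rw [← map_smul, hz, map_zero, smul_zero]

end Groth.Agent.Lib.Helper34.RGammaI
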