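import Groth.Agent.Lib.Helper75.ComodModule

/-!
# Normalised integral and Reynolds operator for a finite-dimensional bialgebra whose regular
comodule is semisimple (helper34)
-/

set_option autoImplicit false
set_option linter.unusedSectionVars false
universe u v w w'

open TensorProduct Groth.Agent.Lib.Helper75

namespace Groth.Agent.Lib.Helper34.Reynolds

attribute [local instance] comodModule

variable {k : Type u} [Field k] {H : Type v} [Ring H] [Bialgebra k H]

/-- evaluation at `1` is multiplicative for convolution -/
theorem convMul_apply_one (f g : H →ₗ[k] k) : convMul f g 1 = f 1 * g 1 := by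
  simp [convMul, LinearMap.convMul_apply, Bialgebra.comul_one, Algebra.TensorProduct.one_def]

/-- on the regular comodule, `ε (f ⇀ h) = f h` -/
theorem counit_act_regular (f : H →ₗ[k] k) (h : H) :
    CoalgebraStruct.counit (R := k) (act (V := H) f h) = f h := by
  have h1 : (CoalgebraStruct.counit (R := k) (A := H)) ∘ₗ hitR f = convMul CoalgebraStruct.counit f :=
    comp_hitR _ _
  have h2 : convMul (CoalgebraStruct.counit (R := k) (A := H)) f = f := by
    have : (1 : DualAlg k H) * WithConv.toConv f = WithConv.toConv f := one_mul _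
    have h3 := congrArg WithConv.ofConv this
    rw [← one_ofConv]
    exact h3
  have h4 := LinearMap.congr_fun h1 h
  rw [h2] at h4
  exact h4

variable [Module.Finite k H]

/-- the dual algebra is a semisimple module over itself when the regular comodule is semisimple -/
theorem isSemisimpleModule_dualAlg (hss : HopfRep.IsSemisimpleComod k H H) :
    IsSemisimpleModule (DualAlg k H) (DualAlg k H) := by
  have h1 : IsSemisimpleModule (DualAlg k H) H := isSemisimpleComod_iff.mp hss
  obtain ⟨n, s, hs⟩ := Module.Finite.exists_fin (R := k) (M := H)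
  have h2 : IsSemisimpleModule (DualAlg k H) (Fin n → H) :=
    (LinearEquiv.isSemisimpleModule_iff
      (Finsupp.linearEquivFunOnFinite (DualAlg k H) H (Fin n))).mp inferInstance
  let Φ : DualAlg k H →ₗ[DualAlg k H] (Fin n → H) :=
    LinearMap.pi (fun i => LinearMap.toSpanSingleton (DualAlg k H) H (s i))
  have hΦ : Function.Injective Φ := by
    rw [← LinearMap.ker_eq_bot, LinearMap.ker_eq_bot']
    intro f hf
    have h3 : ∀ i, act (V := H) f.ofConv (s i) = 0 := by
      intro i
      have := congrFun hf i
      simpa [Φ, smul_def] using this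
    have h4 : act (V := H) f.ofConv = 0 := by
      apply LinearMap.ext_on_range hs
      intro i
      rw [h3 i, LinearMap.zero_apply]
    apply WithConv.ofConv_injective
    apply LinearMap.ext
    intro h
    rw [← counit_act_regular, h4]
    simp
  exact IsSemisimpleModule.of_injective Φ hΦ

/-- a normalised (right-)integral on `H` -/
theorem exists_integral (hss : HopfRep.IsSemisimpleComod k H H) :
    ∃ l : H →ₗ[k] k, l 1 = 1 ∧ ∀ f : H →ₗ[k] k, convMul f l = f 1 • l := by
  have := isSemisimpleModule_dualAlg hss
  -- the augmentation ideal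
  let I : Submodule (DualAlg k H) (DualAlg k H) :=
    { carrier := {f | f.ofConv 1 = 0}
      add_mem' := by
        intro f g hf hg
        simp only [Set.mem_ofPred_eq] at hf hg ⊢
        rw [WithConv.ofConv_add, LinearMap.add_apply, hf, hg, add_zero]
      zero_mem' := by simp
      smul_mem' := by
        intro g f hf
        simp only [Set.mem_ofPred_eq, smul_eq_mul] at hf ⊢
        have : (g * f).ofConv = convMul g.ofConv f.ofConv := rfl
        rw [this, convMul_apply_one, hf, mul_zero] }
  obtain ⟨L, hL⟩ := exists_isCompl I
  obtain ⟨i₀, hi₀, l, hl, hsum⟩ : ∃ i₀ ∈ I, ∃ l ∈ L, i₀ + l = (1 : DualAlg k H) := by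
    have : (1 : DualAlg k H) ∈ I ⊔ L := by rw [hL.sup_eq_top]; trivial
    exact Submodule.mem_sup.mp this
  have hl1 : l.ofConv 1 = 1 := by
    have h1 := congrArg (fun f : DualAlg k H => f.ofConv 1) hsum
    simp only [WithConv.ofConv_add, LinearMap.add_apply] at h1
    have h2 : i₀.ofConv 1 = 0 := hi₀
    rw [h2, zero_add, one_ofConv, Bialgebra.counit_one] at h1
    exact h1
  refine ⟨l.ofConv, hl1, fun f => ?_⟩
  -- f * l - f(1) l ∈ I ∩ L
  set x : DualAlg k H := WithConv.toConv f * l - WithConv.toConv (f 1 • CoalgebraStruct.counit (R := k) (A := H)) * l with hx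
  have hxL : x ∈ L := L.sub_mem (L.smul_mem _ hl) (L.smul_mem _ hl)
  have hxI : x ∈ I := by
    show x.ofConv 1 = 0
    have e1 : (WithConv.toConv f * l).ofConv = convMul f l.ofConv := rfl
    have e2 : (WithConv.toConv (f 1 • CoalgebraStruct.counit (R := k) (A := H)) * l).ofConv =
        convMul (f 1 • CoalgebraStruct.counit (R := k) (A := H)) l.ofConv := rfl
    rw [hx, WithConv.ofConv_sub, LinearMap.sub_apply, e1, e2, convMul_apply_one, convMul_apply_one]
    simp [Bialgebra.counit_one]
  have hx0 : x = 0 := by
    have : x ∈ I ⊓ L := ⟨hxI, hxL⟩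
    rw [hL.inf_eq_bot] at this
    exact (Submodule.mem_bot _).mp this
  have e3 : WithConv.toConv (f 1 • CoalgebraStruct.counit (R := k) (A := H)) * l = f 1 • l := by
    have : (WithConv.toConv (f 1 • CoalgebraStruct.counit (R := k) (A := H)) : DualAlg k H) =
        f 1 • (1 : DualAlg k H) := by
      apply WithConv.ofConv_injective
      rw [WithConv.ofConv_smul, one_ofConv]
    rw [this, smul_mul_assoc, one_mul]
  have e4 : WithConv.toConv f * l = f 1 • l := by
    rw [← e3]
    exact sub_eq_zero.mp hx0
  have := congrArg WithConv.ofConv e4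
  rw [WithConv.ofConv_smul] at this
  exact this


section Reynolds

variable {V : Type w} [AddCommGroup V] [Module k V] [HopfRep.Comod k H V]

omit [Module.Finite k H] in
/-- the Reynolds operator lands in the invariants -/
theorem act_mem_fixedPts (l : H →ₗ[k] k) (hl : ∀ f : H →ₗ[k] k, convMul f l = f 1 • l) (v : V) :
    act l v ∈ HopfRep.fixedPts k H V := by
  show HopfRep.Comod.coact (k := k) (A := H) (act l v) = act l v ⊗ₜ[k] (1 : H)
  apply eq_of_contractR_eq
  intro f
  have : contractR V f (HopfRep.Comod.coact (k := k) (A := H) (act l v)) = act f (act l v) := rfl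
  rw [this, act_act, hl, act_smul, contractR_tmul]

omit [Module.Finite k H] in
/-- the Reynolds operator fixes the invariants -/
theorem act_of_mem_fixedPts (l : H →ₗ[k] k) (hl1 : l 1 = 1) (v : V)
    (hv : v ∈ HopfRep.fixedPts k H V) : act l v = v := by
  have h1 : coactMap k H V v = v ⊗ₜ[k] (1 : H) := hv
  rw [act_apply, h1, contractR_tmul, hl1, one_smul]

end Reynolds

end Groth.Agent.Lib.Helper34.Reynolds
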