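import Groth.Agent.S0031
import Groth.Agent.S0048
import Groth.Agent.Lib.Helper34.ModPushCoh
import Groth.Agent.Lib.Helper34.ModPushLow
import Groth.Agent.S0028
import Groth.Agent.Lib.Helper22.QCohLoc
import Groth.Agent.Lib.QCoh.Helper66_ZeroLocal
import Groth.Agent.Lib.QCoh.Local
import Groth.Agent.Lib.QCoh.Extension
import Groth.Agent.Lib.Cohomology.Helper1_SerreVanishing
import Groth.Agent.Lib.Cohomology.Helper1_UniformBound
import Groth.Agent.Lib.Helper68.DerLimSh5

/-!
# The site-level pushforward theorems applied to morphisms of schemes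

`QC X` (quasi-coherent modules) is a weak Serre subcategory of `X.Modules`; the hypotheses of
`ModPushFinal.main` for a quasi-compact quasi-separated morphism to a quasi-compact base.
-/

set_option autoImplicit false
universe w w' u
open CategoryTheory Limits AlgebraicGeometry Opposite TopologicalSpace ZeroObject

namespace Groth.Agent.Lib.Helper34.SchPush

open Groth.Agent.Lib.QCoh Groth.Agent.Lib.Cohomology

variable {X : Scheme.{u}}

/-- `X.Modules`, in the form the site-level library sees. -/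
abbrev MS (X : Scheme.{u}) : Type (u + 1) :=
  ModSite.Mod (J := Opens.grothendieckTopology X) X.sheaf

/-- quasi-coherent modules, as an object property. -/
def QC (X : Scheme.{u}) : ObjectProperty (MS X) := fun M => Coh.IsQCoh (X := X) M

instance : (QC X).ContainsZero where
  exists_zero := ⟨0, isZero_zero _, Groth.Agent.S0048.isQuasicoherent_of_isZero (isZero_zero _)⟩

instance : (QC X).IsClosedUnderKernels where
  kernels_le := by
    rintro _ ⟨φ, k, hk, ⟨h1, h2⟩⟩
    have h1' : Coh.IsQCoh _ := h1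
    have h2' : Coh.IsQCoh _ := h2
    exact isQuasicoherent_of_iso (IsLimit.conePointUniqueUpToIso hk (kernelIsKernel φ)).symm
      (isQuasicoherent_kernel φ)

instance : (QC X).IsClosedUnderCokernels where
  cokernels_le := by
    rintro _ ⟨φ, k, hk, ⟨h1, h2⟩⟩
    have h1' : Coh.IsQCoh _ := h1
    have h2' : Coh.IsQCoh _ := h2
    exact isQuasicoherent_of_iso (IsColimit.coconePointUniqueUpToIso hk (cokernelIsCokernel φ)).symm
      (isQuasicoherent_cokernel φ)

instance : (QC X).IsClosedUnderExtensions where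
  prop_X₂_of_shortExact {S} hS h1 h3 := by
    haveI : Coh.IsQCoh S.X₁ := h1
    haveI : Coh.IsQCoh S.X₃ := h3
    exact isQuasicoherent_of_shortExact S hS

instance : WSerre.IsWeakSerre (QC X) where


variable {S : Scheme.{u}} (f : X ⟶ S)

/-- a basis of `S` over whose members the cohomology of quasi-coherent modules on the preimage
vanishes uniformly (after helper1's `S0031.aux`). -/
theorem exists_basis [QuasiCompact f] [QuasiSeparated f] [CompactSpace S] :
    ∃ (B' : Set S.Opens) (d : ℕ), Opens.IsBasis B' ∧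
      ∀ O ∈ B', ∀ (M : X.Modules), Coh.IsQCoh M → ∀ k : ℕ, d ≤ k →
        Subsingleton (CohTop.HU (Coh.toAb M) k (f ⁻¹ᵁ O)) := by
  classical
  have hx : ∀ y : S, ∃ V : S.Opens, IsAffineOpen V ∧ y ∈ V := by
    intro y
    obtain ⟨_, ⟨V, hV, rfl⟩, hyV, -⟩ :=
      S.isBasis_affineOpens.exists_subset_of_mem_open (Set.mem_univ y) isOpen_univ
    exact ⟨V, hV, hyV⟩
  choose V hV hyV using hx
  obtain ⟨t, ht⟩ := CompactSpace.elim_nhds_subcover (fun y : S => ((V y : S.Opens) : Set S))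
    (fun y => (V y).isOpen.mem_nhds (hyV y))
  have hcov : ∀ y : S, ∃ (r : ℕ) (U : Fin (r + 1) → X.Opens), (∀ i, IsAffineOpen (U i)) ∧
      (∀ i, U i ≤ f ⁻¹ᵁ V y) ∧ ⨆ i, U i = f ⁻¹ᵁ V y := fun y =>
    Groth.Agent.S0031.exists_fin_affine_cover (f ⁻¹ᵁ V y)
      (QuasiCompact.isCompact_preimage (f := f) _ (V y).isOpen (hV y).isCompact)
  choose r U hU hUle hUsup using hcov
  have hqs : ∀ y : S, IsQuasiSeparated ((f ⁻¹ᵁ V y : X.Opens) : Set X) := fun y =>
    f.isQuasiSeparated_preimage (hV y).isQuasiSeparated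
  have hbound : ∀ y : S, ∃ d : ℕ, ∀ (B : X.Opens),
      (∀ i, ∃ φ : Γ(X, U y i), U y i ⊓ B = X.basicOpen φ) →
      ∀ (M : X.Modules), M.IsQuasicoherent → ∀ p, d ≤ p →
      Subsingleton (CohTop.HU (Coh.toAb M) p ((⨆ i, U y i) ⊓ B)) := fun y =>
    exists_bound_iSup_affine_inf (r y) (U y) (hU y) (fun i j => by
      rw [Opens.coe_inf]
      exact hqs y _ _ (hUle y i) (U y i).isOpen (hU y i).isCompact (hUle y j) (U y j).isOpen
        (hU y j).isCompact)
  choose d hd using hbound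
  refine ⟨{O : S.Opens | ∃ y ∈ t, ∃ g : Γ(S, V y), O = S.basicOpen g}, t.sup d, ?_, ?_⟩
  · rw [Opens.isBasis_iff_nbhd]
    intro O x hxO
    have hxu : x ∈ ⋃ y ∈ t, ((V y : S.Opens) : Set S) := ht ▸ Set.mem_univ x
    obtain ⟨y, hy⟩ := Set.mem_iUnion.1 hxu
    obtain ⟨hyt, hxy⟩ := Set.mem_iUnion.1 hy
    obtain ⟨g, hg1, hg2⟩ := (hV y).exists_basicOpen_le (V := O) ⟨x, hxO⟩ hxy
    exact ⟨S.basicOpen g, ⟨y, hyt, g, rfl⟩, hg2, hg1⟩
  · rintro O ⟨y, hyt, g, rfl⟩ M hM p hp
    have hle : f ⁻¹ᵁ S.basicOpen g ≤ ⨆ i, U y i := by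
      rw [hUsup y]
      exact (Opens.map f.base).monotone (S.basicOpen_le g)
    have hdp : d y ≤ p := le_trans (Finset.le_sup hyt) hp
    have key := hd y (f ⁻¹ᵁ S.basicOpen g) (fun i => by
      refine ⟨X.presheaf.map (homOfLE (hUle y i)).op (f.app (V y) g), ?_⟩
      rw [Scheme.basicOpen_res, Scheme.preimage_basicOpen]) M hM p hdp
    rw [inf_eq_right.2 hle] at key
    exact key


section Main

open DerivedCategory ModSite Groth.Agent.Lib.Helper34.ModHZero

lemma isZero_of_isZero_toSheaf {C : Type u} [SmallCategory C] {J : GrothendieckTopology C}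
    {O : Sheaf J CommRingCat.{u}} (M : Mod O) (h : IsZero ((T O).obj M)) : IsZero M := by
  rw [IsZero.iff_id_eq_zero]
  apply (T O).map_injective
  rw [Functor.map_zero]
  exact h.eq_of_src _ _

lemma HU_affine (M : X.Modules) (hE : Coh.IsQCoh M) (U : X.Opens) (hU : IsAffineOpen U)
    (k : ℕ) (hk : 0 < k) :
    Subsingleton (CohTop.HU (Coh.toAb M) k U) := by
  obtain ⟨k, rfl⟩ : ∃ k' : ℕ, k = k' + 1 := ⟨k - 1, by omega⟩
  have : Coh.IsQCoh M := hE
  exact HU_succ_subsingleton_of_isAffineOpen M U hU k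

variable [HasDerivedCategory.{w} (MS X)] [HasDerivedCategory.{w'} (MS S)]

/-- **Uniform bound for `Rf_*` on `D^{≤ 0}_{QCoh}`** for `f` quasi-compact quasi-separated with
quasi-compact target, for any total right derived functor `R` of `f_*`. -/
theorem exists_bound [QuasiCompact f] [QuasiSeparated f] [CompactSpace S]
    (R : DerivedCategory (MS X) ⥤ DerivedCategory (MS S))
    (β : (ModSite.RMor.ofScheme f).push.mapHomotopyCategory (ComplexShape.up ℤ) ⋙
      DerivedCategory.Qh ⟶ DerivedCategory.Qh ⋙ R)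
    [R.IsRightDerivedFunctor β (HomotopyCategory.quasiIso (MS X) (ComplexShape.up ℤ))] :
    ∃ N : ℤ, ∀ (E : DerivedCategory (MS X)), WSerre.cohIn (QC X) E → E.IsLE 0 →
      ∀ m : ℤ, N ≤ m → IsZero ((homologyFunctor (MS S) m).obj (R.obj E)) := by
  haveI : EnoughInjectives (MS X) :=
    Groth.Agent.S0485.result (Opens.grothendieckTopology X) (ringSh X.sheaf)
  haveI : HasInjectiveResolutions (MS X) := inferInstance
  haveI : IsGrothendieckAbelian.{u} (MS X) :=
    Groth.Agent.S0484.result (Opens.grothendieckTopology X) (ringSh X.sheaf)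
  obtain ⟨B', d, hbasis, hvan⟩ := exists_basis f
  obtain ⟨n0, hn0⟩ := Groth.Agent.S0031.result f
  let fR : RMor X.sheaf S.sheaf := ModSite.RMor.ofScheme f
  have hB := Groth.Agent.Lib.Helper68.DerLimSh.hB_site (X := X.toTopCat) X.affineOpens
    X.isBasis_affineOpens
  have hB' := Groth.Agent.Lib.Helper68.DerLimSh.hB_site (X := S.toTopCat) B' hbasis
  have hA : ∀ V ∈ X.affineOpens, ∃ d : ℕ, ∀ T ∈ Opens.grothendieckTopology X V,
      ∃ (ι : Type u) (Y : ι → X.Opens) (g : ∀ i, Y i ⟶ V),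
      (∀ i, T.arrows (g i)) ∧ Sieve.ofArrows Y g ∈ Opens.grothendieckTopology X V ∧
      ∀ (i : ι) (F : X.Modules), QC X F → ∀ k : ℕ, d < k →
        Subsingleton (ModSite.HU X.sheaf F k (Y i)) := by
    intro V _
    refine ⟨0, fun T hT => ?_⟩
    obtain ⟨ι, Y, g, hg, hcov, hY⟩ :=
      Groth.Agent.Lib.Helper34.ModTruncRlim.refine_cover X.affineOpens hB T hT
    exact ⟨ι, Y, g, hg, hcov, fun i F hF k hk => HU_affine F hF (Y i) (hY i) k hk⟩
  have hA' : ∀ V ∈ B', ∃ d : ℕ, ∀ T ∈ Opens.grothendieckTopology S V,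
      ∃ (ι : Type u) (Y : ι → S.Opens) (g : ∀ i, Y i ⟶ V),
      (∀ i, T.arrows (g i)) ∧ Sieve.ofArrows Y g ∈ Opens.grothendieckTopology S V ∧
      ∀ (i : ι) (F : X.Modules), QC X F → ∀ k : ℕ, d < k →
        Subsingleton (ModSite.HU X.sheaf F k (fR.fn.obj (Y i))) := by
    intro V _
    refine ⟨d, fun T hT => ?_⟩
    obtain ⟨ι, Y, g, hg, hcov, hY⟩ :=
      Groth.Agent.Lib.Helper34.ModTruncRlim.refine_cover B' hB' T hT
    exact ⟨ι, Y, g, hg, hcov, fun i F hF k hk => hvan (Y i) (hY i) F hF k hk.le⟩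
  have h3 : ∀ F : X.Modules, QC X F → ∀ p : ℕ, ((n0 : ℤ) - 1) < (p : ℤ) →
      IsZero ((fR.Rpush p).obj F) := by
    intro F hF p hp
    obtain ⟨e⟩ := Groth.Agent.Lib.Helper34.ModLeray.nonempty_toAb_Rpush_iso fR F p
    have hz : IsZero ((Coh.RpushAb f p).obj (Coh.toAb F)) := hn0 F hF p (by omega)
    apply isZero_of_isZero_toSheaf
    exact IsZero.of_iso hz e.symm
  refine ⟨max (n0 : ℤ) 1, fun E hE hLE m hm => ?_⟩
  have hiso := Groth.Agent.Lib.Helper34.ModPushFinal.main fR (QC X) X.affineOpens B' hB hA hB' hA'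
    ((n0 : ℤ) - 1) h3 R β E hE 0 m (by
      have := le_max_left (n0 : ℤ) 1
      simp only [Nat.cast_zero, sub_zero]
      omega)
  refine IsZero.of_iso ?_ (asIso ((homologyFunctor (MS S) m).map
    (R.map ((TStructure.t.truncGEπ (-((0 : ℕ) : ℤ))).app E))))
  set Y := (TStructure.t.truncGE (-((0 : ℕ) : ℤ))).obj E with hYdef
  have hYc : WSerre.cohIn (QC X) Y :=
    Groth.Agent.Lib.Helper34.ModUnbdd.cohIn_truncGE (QC X) hE _
  haveI : Y.IsGE 0 := TStructure.t.isGE_of_ge Y 0 (-((0 : ℕ) : ℤ)) (by simp)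
  haveI : Y.IsLE 0 := by
    haveI : TStructure.t.IsLE E 0 := hLE
    exact inferInstanceAs (TStructure.t.IsLE ((TStructure.t.truncGE (-((0 : ℕ) : ℤ))).obj E) 0)
  obtain ⟨A, ⟨e⟩⟩ := exists_iso_singleFunctor_obj_of_isGE_of_isLE Y 0
  have hA0 : QC X A := by
    have h0 := hYc 0
    exact (QC X).prop_of_iso ((homologyFunctor (MS X) 0).mapIso e ≪≫
      (singleFunctorCompHomologyFunctorIso (MS X) 0).app A) h0
  refine IsZero.of_iso ?_ ((homologyFunctor (MS S) m).mapIso (R.mapIso e))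
  obtain ⟨p, rfl⟩ : ∃ p : ℕ, m = (p : ℤ) := ⟨m.toNat, by
    have := le_max_right (n0 : ℤ) 1
    omega⟩
  obtain ⟨e'⟩ := Groth.Agent.Lib.Helper34.RDSingle.nonempty_homology_single_iso
    fR.push R β A p
  refine IsZero.of_iso (h3 A hA0 p ?_) e'
  have := le_max_left (n0 : ℤ) 1
  omega

end Main

section Affine

open DerivedCategory ModSite Groth.Agent.Lib.Helper34.ModHZero Pretriangulated

/-- for `f` affine, `f_*` is conservative on quasi-coherent modules. -/
theorem isZero_of_isZero_push [IsAffineHom f] (M : X.Modules) (hM : Coh.IsQCoh M)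
    (h : IsZero ((Scheme.Modules.pushforward f).obj M)) : IsZero M := by
  haveI : M.IsQuasicoherent := hM
  have key : ∀ (V : S.Opens) (_ : IsAffineOpen V) (g : Γ(X, f ⁻¹ᵁ V))
      (y : Γ(M, X.basicOpen g)), y = 0 := by
    intro V hV g y
    have hU : IsAffineOpen (f ⁻¹ᵁ V) := hV.preimage f
    obtain ⟨n, x, hx⟩ :=
      Groth.Agent.Lib.Helper22.exists_pow_smul_eq_map_of_isAffineOpen M hU g y
    have hx0 : x = 0 := sections_eq_zero_of_isZero h V x
    rw [hx0, map_zero] at hx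
    have hunit : IsUnit (X.presheaf.map (homOfLE (X.basicOpen_le g)).op g) :=
      RingedSpace.isUnit_res_basicOpen _ g
    obtain ⟨u, hu⟩ := hunit.pow n
    have h1 : (↑u⁻¹ : Γ(X, X.basicOpen g)) • ((u : Γ(X, X.basicOpen g)) • y) = 0 := by
      rw [hu, ← hx, smul_zero]
    rwa [smul_smul, Units.inv_mul, one_smul] at h1
  refine isZero_of_sections_eq_zero fun O t => ?_
  have hx : ∀ x : O, ∃ (V : S.Opens) (_ : IsAffineOpen V) (g : Γ(X, f ⁻¹ᵁ V)),
      X.basicOpen g ≤ O ∧ (x : X) ∈ X.basicOpen g := by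
    intro x
    obtain ⟨_, ⟨V, hV, rfl⟩, hyV, -⟩ :=
      S.isBasis_affineOpens.exists_subset_of_mem_open (Set.mem_univ (f.base x.1)) isOpen_univ
    obtain ⟨g, hg1, hg2⟩ := (hV.preimage f).exists_basicOpen_le (V := O) x hyV
    exact ⟨V, hV, g, hg1, hg2⟩
  choose V hV g hg1 hg2 using hx
  refine TopCat.Sheaf.eq_of_locally_eq' (⟨M.presheaf, M.isSheaf⟩ : TopCat.Sheaf Ab X)
    (fun x : O => X.basicOpen (g x)) O (fun x => homOfLE (hg1 x)) ?_ t 0 fun x => ?_
  · intro y hy
    exact Opens.mem_iSup.2 ⟨⟨y, hy⟩, hg2 ⟨y, hy⟩⟩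
  · rw [map_zero]
    exact key (V x) (hV x) (g x) _

variable [HasDerivedCategory.{w} (MS X)] [HasDerivedCategory.{w'} (MS S)]

/-- **`Rf_*` reflects isomorphisms on `D_QCoh`** for `f` affine, for any total right derived
functor `R` of `f_*`. -/
theorem isIso_of_isIso_R [IsAffineHom f]
    (R : DerivedCategory (MS X) ⥤ DerivedCategory (MS S))
    (β : (ModSite.RMor.ofScheme f).push.mapHomotopyCategory (ComplexShape.up ℤ) ⋙
      DerivedCategory.Qh ⟶ DerivedCategory.Qh ⋙ R)
    [R.IsRightDerivedFunctor β (HomotopyCategory.quasiIso (MS X) (ComplexShape.up ℤ))]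
    {E F : DerivedCategory (MS X)} (hE : WSerre.cohIn (QC X) E) (hF : WSerre.cohIn (QC X) F)
    (α : E ⟶ F) (hα : IsIso (R.map α)) : IsIso α := by
  haveI : EnoughInjectives (MS X) :=
    Groth.Agent.S0485.result (Opens.grothendieckTopology X) (ringSh X.sheaf)
  haveI : HasInjectiveResolutions (MS X) := inferInstance
  let fR : RMor X.sheaf S.sheaf := ModSite.RMor.ofScheme f
  have hB := Groth.Agent.Lib.Helper68.DerLimSh.hB_site (X := X.toTopCat) X.affineOpens
    X.isBasis_affineOpens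
  have hB' := Groth.Agent.Lib.Helper68.DerLimSh.hB_site (X := S.toTopCat) S.affineOpens
    S.isBasis_affineOpens
  have hA : ∀ V ∈ X.affineOpens, ∃ d : ℕ, ∀ T ∈ Opens.grothendieckTopology X V,
      ∃ (ι : Type u) (Y : ι → X.Opens) (g : ∀ i, Y i ⟶ V),
      (∀ i, T.arrows (g i)) ∧ Sieve.ofArrows Y g ∈ Opens.grothendieckTopology X V ∧
      ∀ (i : ι) (F : MS X), QC X F → ∀ k : ℕ, d < k →
        Subsingleton (ModSite.HU X.sheaf F k (Y i)) := by
    intro V _
    refine ⟨0, fun T hT => ?_⟩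
    obtain ⟨ι, Y, g, hg, hcov, hY⟩ :=
      Groth.Agent.Lib.Helper34.ModTruncRlim.refine_cover X.affineOpens hB T hT
    exact ⟨ι, Y, g, hg, hcov, fun i F hF k hk => HU_affine F hF (Y i) (hY i) k hk⟩
  have hA' : ∀ V ∈ S.affineOpens, ∃ d : ℕ, ∀ T ∈ Opens.grothendieckTopology S V,
      ∃ (ι : Type u) (Y : ι → S.Opens) (g : ∀ i, Y i ⟶ V),
      (∀ i, T.arrows (g i)) ∧ Sieve.ofArrows Y g ∈ Opens.grothendieckTopology S V ∧
      ∀ (i : ι) (F : MS X), QC X F → ∀ k : ℕ, d < k →
        Subsingleton (ModSite.HU X.sheaf F k (fR.fn.obj (Y i))) := by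
    intro V _
    refine ⟨0, fun T hT => ?_⟩
    obtain ⟨ι, Y, g, hg, hcov, hY⟩ :=
      Groth.Agent.Lib.Helper34.ModTruncRlim.refine_cover S.affineOpens hB' T hT
    exact ⟨ι, Y, g, hg, hcov, fun i F hF k hk =>
      HU_affine F hF (f ⁻¹ᵁ (Y i)) (IsAffineOpen.preimage (hY i) f) k hk⟩
  have h3 : ∀ F : MS X, QC X F → ∀ p : ℕ, (0 : ℤ) < (p : ℤ) →
      IsZero ((fR.Rpush p).obj F) := by
    intro F hF p hp
    obtain ⟨e⟩ := Groth.Agent.Lib.Helper34.ModLeray.nonempty_toAb_Rpush_iso fR F p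
    haveI : Coh.IsQCoh (X := X) F := hF
    have hz : IsZero ((Coh.RpushAb f p).obj (Coh.toAb (X := X) F)) :=
      Groth.Agent.S0028.result f F p (by exact_mod_cast hp)
    apply isZero_of_isZero_toSheaf
    exact IsZero.of_iso hz e.symm
  have hcons : ∀ M : MS X, QC X M → IsZero ((fR.Rpush 0).obj M) → IsZero M := by
    intro M hM hz
    haveI : PreservesLimitsOfSize.{0, 0} fR.push := fR.adj.rightAdjoint_preservesLimits
    haveI : PreservesFiniteLimits fR.push := PreservesLimitsOfSize.preservesFiniteLimits _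
    have e : (fR.Rpush 0).obj M ≅ fR.push.obj M :=
      (Functor.rightDerivedZeroIsoSelf fR.push).app M
    exact isZero_of_isZero_push f M hM (hz.of_iso e.symm)
  obtain ⟨R', hs, β', htri, hder⟩ := Groth.Agent.Lib.Helper34.ModPushCoh.exists_model fR
  haveI hK : R.IsLeftKanExtension β :=
    Functor.IsRightDerivedFunctor.isLeftKanExtension _ _
      (HomotopyCategory.quasiIso (MS X) (ComplexShape.up ℤ))
  haveI hK' : R'.IsLeftKanExtension β' :=
    Functor.IsRightDerivedFunctor.isLeftKanExtension _ _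
      (HomotopyCategory.quasiIso (MS X) (ComplexShape.up ℤ))
  let e : R' ≅ R := Functor.leftKanExtensionUnique R' β' R β
  have hα' : IsIso (R'.map α) := (NatIso.isIso_map_iff e α).2 hα
  obtain ⟨C, g, h, hT⟩ := distinguished_cocone_triangle α
  have hC : WSerre.cohIn (QC X) C :=
    (WSerre.cohIn (QC X)).ext_of_isTriangulatedClosed₃ _ hT hE hF
  have hT' := R'.map_distinguished _ hT
  have hRC : IsZero (R'.obj C) := (Triangle.isZero₃_iff_isIso₁ _ hT').2 hα'
  have hHC := Groth.Agent.Lib.Helper34.ModPushLow.isZero_homology_of_isZero_R fR R' β' (QC X)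
    X.affineOpens S.affineOpens hB hA hB' hA' h3 hcons C hC
    (fun j => (homologyFunctor (MS S) j).map_isZero hRC)
  haveI : C.IsGE 1 := (isGE_iff C 1).2 (fun i _ => hHC i)
  haveI : C.IsLE 0 := (isLE_iff C 0).2 (fun i _ => hHC i)
  have hCz : IsZero C := TStructure.t.isZero C 0 1 (by omega)
  exact (Triangle.isZero₃_iff_isIso₁ _ hT).1 hCz

end Affine

end Groth.Agent.Lib.Helper34.SchPush
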