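import Groth.Agent.Lib.Helper34.RDPlusSerre
import Groth.Agent.Lib.Helper34.SchPush
import Groth.Agent.Lib.Helper34.ModLocCoh
import Groth.Agent.Lib.Helper99.RestrKInj
import Groth.Agent.S6030
import Groth.Agent.Lib.QCoh.Helper18_Stalk

/-!
# `RΓ_T` on `D⁺` preserves quasi-coherent cohomology, with support in `T` (helper34)
-/

set_option autoImplicit false
universe u
open CategoryTheory Limits AlgebraicGeometry ZeroObject

namespace Groth.Agent.Lib.Helper34.RgammaZPlusQC

open Groth.Agent.Lib.Helper34.SchPush

section Abstract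

variable {C D D' : Type*} [Category C] [Category D] [Category D'] [Abelian C] [Abelian D]
  [Abelian D'] [HasInjectiveResolutions C]

/-- if `E ∘ G` kills every object and `E` is exact, then `E` kills all `Rᵖ G`. -/
lemma isZero_map_rightDerived (G : C ⥤ D) [G.Additive] (E : D ⥤ D') [E.PreservesMonomorphisms]
    [E.PreservesEpimorphisms] (h : ∀ X, IsZero (E.obj (G.obj X))) (M : C) (p : ℕ) :
    IsZero (E.obj ((G.rightDerived p).obj M)) := by
  let I := injectiveResolution M
  let K := (G.mapHomologicalComplex _).obj I.cocomplex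
  have e := I.isoRightDerivedObj G p
  refine IsZero.of_iso ?_ (E.mapIso e)
  have m0 : Epi (K.pOpcycles p) := inferInstance
  have m1 : Epi (E.map (K.pOpcycles p)) := E.map_epi _
  have h1 : IsZero (E.obj (K.opcycles p)) :=
    @IsZero.of_epi _ _ _ _ _ (E.map (K.pOpcycles p)) m1 (h (I.cocomplex.X p))
  have m2 : Mono (K.homologyι p) := inferInstance
  have m3 : Mono (E.map (K.homologyι p)) := E.map_mono _
  have h2 : IsZero (E.obj (K.homology p)) :=
    @IsZero.of_mono _ _ _ _ _ (E.map (K.homologyι p)) m3 h1
  exact h2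

/-- objects killed by an exact functor form a weak Serre class. -/
def killedBy (E : D ⥤ D') : ObjectProperty D := fun M => IsZero (E.obj M)

instance (E : D ⥤ D') [E.Additive] [PreservesFiniteLimits E] [PreservesFiniteColimits E] :
    WSerre.IsWeakSerre (killedBy E) where
  exists_zero := ⟨0, isZero_zero _, E.map_isZero (isZero_zero _)⟩
  kernels_le := by
    rintro _ ⟨φ, k, hk, ⟨h1, h2⟩⟩
    have : Mono (Fork.ι k) := mono_of_isLimit_fork hk
    exact IsZero.of_mono (E.map (Fork.ι k)) h1
  cokernels_le := by
    rintro _ ⟨φ, k, hk, ⟨h1, h2⟩⟩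
    have : Epi (Cofork.π k) := epi_of_isColimit_cofork hk
    exact IsZero.of_epi (E.map (Cofork.π k)) h2
  prop_X₂_of_shortExact {S} hS h1 h3 := by
    have hS' := hS.map_of_exact E
    have hm : Mono (S.map E).g := hS'.exact.mono_g (IsZero.eq_of_src h1 _ _)
    have hm' : Mono (E.map S.g) := hm
    exact IsZero.of_mono (E.map S.g) h3

end Abstract

section Sch

attribute [local instance] HasDerivedCategory.standard

variable {X : Scheme.{u}} (U : X.Opens)

/-- `Γ_Z(F)` vanishes on the open complement of `Z` (after helper6's `RjUnit`) -/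
lemma isZero_restrict_gammaZ (F : X.Modules) :
    IsZero ((Scheme.Modules.restrictFunctor U.ι).obj ((DCoh.gammaZ U.ι).obj F)) := by
  have h := (Scheme.Modules.restrictAdjunction U.ι).left_triangle_components F
  have : Mono ((Scheme.Modules.restrictFunctor U.ι).map
      ((Scheme.Modules.restrictAdjunction U.ι).unit.app F)) := by
    have : Mono ((Scheme.Modules.restrictFunctor U.ι).map
        ((Scheme.Modules.restrictAdjunction U.ι).unit.app F) ≫
          (Scheme.Modules.restrictAdjunction U.ι).counit.app
            ((Scheme.Modules.restrictFunctor U.ι).obj F)) := by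
      rw [h]; infer_instance
    exact mono_of_mono _ ((Scheme.Modules.restrictAdjunction U.ι).counit.app
            ((Scheme.Modules.restrictFunctor U.ι).obj F))
  have e : (Scheme.Modules.restrictFunctor U.ι).obj
      (kernel ((Scheme.Modules.restrictAdjunction U.ι).unit.app F)) ≅
        kernel ((Scheme.Modules.restrictFunctor U.ι).map
          ((Scheme.Modules.restrictAdjunction U.ι).unit.app F)) :=
    PreservesKernel.iso _ _
  exact IsZero.of_iso (isZero_kernel_of_mono _) e

/-- modules vanishing on `U` -/
abbrev ZU : ObjectProperty (MS X) := killedBy (Scheme.Modules.restrictFunctor U.ι)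

theorem main [QuasiCompact U.ι] [EnoughInjectives X.Modules]
    (E : DerivedCategory.Plus X.Modules) (hE : DCoh.IsQCohD E.obj) :
    DCoh.IsQCohD ((DCoh.RgammaZPlus U.ι).obj E).obj ∧
    ∀ i : ℤ, CohB1.support (DCoh.HD ((DCoh.RgammaZPlus U.ι).obj E).obj i) ⊆ (U : Set X)ᶜ := by
  have : IsGrothendieckAbelian.{u} (MS X) :=
    Groth.Agent.Lib.Helper99.RestrKInj.isGrothendieckAbelian_modules X
  have : HasInjectiveResolutions (MS X) := inferInstance
  have : HasInjectiveResolutions X.Modules := inferInstanceAs (HasInjectiveResolutions (MS X))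
  have hadd : (DCoh.gammaZ U.ι).Additive := inferInstance
  have h1 := @RDPlusSerre.cohIn_rightDerivedFunctorPlus (MS X) _ _ (HasDerivedCategory.standard _) _
    (MS X) _ _ (HasDerivedCategory.standard _) (DCoh.gammaZ U.ι) hadd _
    (QC X) _ (QC X) _ (fun M hM p => Groth.Agent.S6030.result U.ι M hM p) E hE
  have hZ : WSerre.IsWeakSerre (killedBy (Scheme.Modules.restrictFunctor U.ι)) := inferInstance
  have h2 := @RDPlusSerre.cohIn_rightDerivedFunctorPlus (MS X) _ _ (HasDerivedCategory.standard _) _
    (MS X) _ _ (HasDerivedCategory.standard _) (DCoh.gammaZ U.ι) hadd _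
    (QC X) _ (ZU U) hZ (fun M _ p => isZero_map_rightDerived (DCoh.gammaZ U.ι)
      (Scheme.Modules.restrictFunctor U.ι) (isZero_restrict_gammaZ U) M p) E hE
  refine ⟨h1, fun i x hx hxU => ?_⟩
  exact hx (Groth.Agent.Lib.QCoh.stalk_subsingleton_of_isZero_restrict U (h2 i) x hxU)

end Sch

end Groth.Agent.Lib.Helper34.RgammaZPlusQC
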