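import Mathlib.Algebra.Homology.SpectralObject.SpectralSequence
import Mathlib.Algebra.Homology.SpectralObject.EpiMono
import Mathlib.Algebra.Homology.SpectralObject.FirstPage
import Groth.Prelude.Def_SpSeq
import Mathlib.Order.Interval.Finset.Defs
import Mathlib.Order.Interval.Set.Defs
import Mathlib.Data.Int.Interval
import Mathlib.Order.Interval.Finset.Basic

/-!
# Convergence of the `E₂` spectral sequence of a first quadrant spectral object

For a spectral object `Y` indexed by `EInt` in an abelian category satisfying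
`Y.IsFirstQuadrant`, we construct abutment data (in the sense of the prelude structure
`SpSeq.Abutment`) for the spectral sequence `Y.E₂SpectralSequence` on the objects
`H^n(⊥ → ⊤)` (or any family of objects isomorphic to them).
-/

set_option autoImplicit false

namespace Groth.Agent.Lib.Helper34.SS

open CategoryTheory Limits ComposableArrows Abelian

universe v u

variable {C : Type u} [Category.{v} C] [Abelian C]

section Subquot

/-- The cokernel of `B ⊆ Z` is computed by any epimorphism from `Z` with kernel `B`. -/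
noncomputable def subquotIso {X : C} (Z B : Subobject X) (h : B ≤ Z) {E : C}
    (π : (Z : C) ⟶ E) [Epi π] (w : B.ofLE Z h ≫ π = 0)
    (hex : (ShortComplex.mk _ _ w).Exact) : SpSeq.subquot Z B h ≅ E :=
  IsColimit.coconePointUniqueUpToIso (cokernelIsCokernel _) hex.gIsCokernel

lemma kernelSubobject_eq_top_of_isZero {X Y : C} (f : X ⟶ Y) (hY : IsZero Y) :
    kernelSubobject f = ⊤ := by
  obtain rfl : f = 0 := hY.eq_of_tgt _ _
  exact kernelSubobject_zero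

lemma kernelSubobject_eq_bot_of_mono {X Y : C} (f : X ⟶ Y) [Mono f] :
    kernelSubobject f = ⊥ := by
  rw [kernelSubobject, Subobject.mk_eq_bot_iff_zero]
  exact zero_of_comp_mono f (kernel.condition f)

end Subquot

variable (Y : SpectralObject C EInt)

/-- The canonical map `H^n(⊥ → ⊤) ⟶ H^n(j → ⊤)`. -/
noncomputable def toTop (n : ℤ) (j : EInt) :
    (Y.H n).obj (mk₁ (homOfLE (bot_le : (⊥ : EInt) ≤ ⊤))) ⟶
      (Y.H n).obj (mk₁ (homOfLE (le_top : j ≤ ⊤))) :=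
  (Y.H n).map (twoδ₁Toδ₀' ⊥ j ⊤ bot_le le_top)

lemma toTop_comp (n : ℤ) (j j' : EInt) (hjj' : j ≤ j') :
    toTop Y n j ≫ (Y.H n).map (twoδ₁Toδ₀' j j' ⊤ hjj' le_top) = toTop Y n j' := by
  dsimp only [toTop]
  rw [← Functor.map_comp]
  congr 1

lemma toTop_δ (n n' : ℤ) (hn : n + 1 = n') (j : EInt) :
    toTop Y n j ≫ Y.δ (homOfLE (bot_le : (⊥ : EInt) ≤ j)) (homOfLE (le_top : j ≤ ⊤)) n n' hn = 0 :=
  Y.zero₃ (homOfLE bot_le) (homOfLE le_top) _ rfl n n' hn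

section Filtration

variable {H' : ℤ → C}
  (e : ∀ n, H' n ≅ (Y.H n).obj (mk₁ (homOfLE (bot_le : (⊥ : EInt) ≤ ⊤))))

/-- The subobject `F_j H^n = ker (H^n ⟶ H^n(j → ⊤))` of the abutment. -/
noncomputable def Fsub (n : ℤ) (j : EInt) : Subobject (H' n) :=
  kernelSubobject ((e n).hom ≫ toTop Y n j)

lemma Fsub_mono (n : ℤ) {j j' : EInt} (h : j ≤ j') : Fsub Y e n j ≤ Fsub Y e n j' := by
  apply le_kernelSubobject
  have h0 : (Fsub Y e n j).arrow ≫ (e n).hom ≫ toTop Y n j = 0 := kernelSubobject_arrow_comp _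
  rw [← toTop_comp Y n j j' h, ← Category.assoc, ← Category.assoc, Category.assoc _ (e n).hom,
    h0, zero_comp]

lemma Fsub_arrow_comp (n : ℤ) (j : EInt) :
    (Fsub Y e n j).arrow ≫ (e n).hom ≫ toTop Y n j = 0 :=
  kernelSubobject_arrow_comp _

/-- Constructor for morphisms to `F_j H^n`. -/
noncomputable def FsubLift {A : C} (n : ℤ) (j : EInt) (x : A ⟶ H' n)
    (hx : x ≫ (e n).hom ≫ toTop Y n j = 0) : A ⟶ ((Fsub Y e n j : Subobject (H' n)) : C) :=
  factorThruKernelSubobject _ x hx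

@[reassoc (attr := simp)]
lemma FsubLift_arrow {A : C} (n : ℤ) (j : EInt) (x : A ⟶ H' n)
    (hx : x ≫ (e n).hom ≫ toTop Y n j = 0) :
    FsubLift Y e n j x hx ≫ (Fsub Y e n j).arrow = x :=
  factorThruKernelSubobject_comp_arrow _ _ _

variable (n : ℤ) (j j' : EInt) (hjj' : j ≤ j')

/-- The limit term `E^n(⊥ ≤ j ≤ j' ≤ ⊤)`. -/
noncomputable abbrev EInfty : C :=
  Y.E (homOfLE (bot_le : (⊥ : EInt) ≤ j)) (homOfLE hjj') (homOfLE (le_top : j' ≤ ⊤))
    (n - 1) n (n + 1) (by lia) rfl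

/-- The monomorphism `E^n(⊥ ≤ j ≤ j' ≤ ⊤) ⟶ H^n(j → ⊤)`. -/
noncomputable abbrev EInftyι : EInfty Y n j j' hjj' ⟶
    (Y.H n).obj (mk₁ (homOfLE (le_top : j ≤ ⊤))) :=
  (Y.kernelSequenceE (homOfLE (bot_le : (⊥ : EInt) ≤ j)) (homOfLE hjj')
    (homOfLE (le_top : j' ≤ ⊤)) (homOfLE le_top) rfl (n - 1) n (n + 1) (by lia) rfl).f

set_option backward.defeqAttrib.useBackward true in
instance : Mono (EInftyι Y n j j' hjj') := by
  dsimp only [EInftyι, SpectralObject.kernelSequenceE]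
  infer_instance

lemma EInftyι_map :
    EInftyι Y n j j' hjj' ≫ (Y.H n).map (twoδ₁Toδ₀' j j' ⊤ hjj' le_top) = 0 := by
  have := (Y.kernelSequenceE (homOfLE (bot_le : (⊥ : EInt) ≤ j)) (homOfLE hjj')
    (homOfLE (le_top : j' ≤ ⊤)) (homOfLE le_top) rfl (n - 1) n (n + 1) (by lia) rfl).zero =≫
      biprod.fst
  rw [Category.assoc, zero_comp] at this
  have hg : (Y.kernelSequenceE (homOfLE (bot_le : (⊥ : EInt) ≤ j)) (homOfLE hjj')
    (homOfLE (le_top : j' ≤ ⊤)) (homOfLE le_top) rfl (n - 1) n (n + 1) (by lia) rfl).g ≫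
      biprod.fst = (Y.H n).map (twoδ₁Toδ₀' j j' ⊤ hjj' le_top) := biprod.lift_fst _ _
  rw [hg] at this
  exact this

lemma EInftyι_δ :
    EInftyι Y n j j' hjj' ≫ Y.δ (homOfLE (bot_le : (⊥ : EInt) ≤ j))
      (homOfLE (le_top : j ≤ ⊤)) n (n + 1) rfl = 0 := by
  have := (Y.kernelSequenceE (homOfLE (bot_le : (⊥ : EInt) ≤ j)) (homOfLE hjj')
    (homOfLE (le_top : j' ≤ ⊤)) (homOfLE le_top) rfl (n - 1) n (n + 1) (by lia) rfl).zero =≫
      biprod.snd
  rw [Category.assoc, zero_comp] at this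
  have hg : (Y.kernelSequenceE (homOfLE (bot_le : (⊥ : EInt) ≤ j)) (homOfLE hjj')
    (homOfLE (le_top : j' ≤ ⊤)) (homOfLE le_top) rfl (n - 1) n (n + 1) (by lia) rfl).g ≫
      biprod.snd = Y.δ (homOfLE (bot_le : (⊥ : EInt) ≤ j))
      (homOfLE (le_top : j ≤ ⊤)) n (n + 1) rfl := biprod.lift_snd _ _
  rw [hg] at this
  exact this

/-- The epimorphism `F_{j'} H^n ⟶ E^n(⊥ ≤ j ≤ j' ≤ ⊤)`. -/
noncomputable def πInfty : ((Fsub Y e n j' : Subobject (H' n)) : C) ⟶ EInfty Y n j j' hjj' :=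
  Y.liftE (homOfLE (bot_le : (⊥ : EInt) ≤ j)) (homOfLE hjj') (homOfLE (le_top : j' ≤ ⊤))
    (homOfLE le_top) rfl (n - 1) n (n + 1)
    ((Fsub Y e n j').arrow ≫ (e n).hom ≫ toTop Y n j)
    (by
      have h1 := toTop_comp Y n j j' hjj'
      have h2 := Fsub_arrow_comp Y e n j'
      simp only [Category.assoc]
      erw [h1]
      exact h2) rfl
    (by
      simp only [Category.assoc]
      erw [toTop_δ Y n (n + 1) rfl j]
      simp) (by lia)

lemma πInfty_ι :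
    πInfty Y e n j j' hjj' ≫ EInftyι Y n j j' hjj' =
      (Fsub Y e n j').arrow ≫ (e n).hom ≫ toTop Y n j :=
  Y.liftE_ιE_fromOpcycles ..

instance : Epi (πInfty Y e n j j' hjj') := by
  rw [epi_iff_surjective_up_to_refinements]
  intro A y
  obtain ⟨A', π', hπ', w, hw'⟩ : ∃ (A' : C) (π' : A' ⟶ A) (_ : Epi π')
      (w : A' ⟶ (Y.H n).obj (mk₁ (homOfLE (bot_le : (⊥ : EInt) ≤ ⊤)))),
      π' ≫ y ≫ EInftyι Y n j j' hjj' = w ≫ toTop Y n j :=
    (Y.exact₃ (homOfLE (bot_le : (⊥ : EInt) ≤ j)) (homOfLE (le_top : j ≤ ⊤)) (homOfLE bot_le) rfl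
      n (n + 1) rfl).exact_up_to_refinements (y ≫ EInftyι Y n j j' hjj') (by
        show (y ≫ EInftyι Y n j j' hjj') ≫ Y.δ (homOfLE (bot_le : (⊥ : EInt) ≤ j))
          (homOfLE (le_top : j ≤ ⊤)) n (n + 1) rfl = 0
        rw [Category.assoc, EInftyι_δ Y n j j' hjj', comp_zero])
  have hw0 : (w ≫ (e n).inv) ≫ (e n).hom ≫ toTop Y n j' = 0 := by
    rw [Category.assoc, Iso.inv_hom_id_assoc, ← toTop_comp Y n j j' hjj', ← Category.assoc, ← hw',
      Category.assoc, Category.assoc, EInftyι_map, comp_zero, comp_zero]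
  refine ⟨A', π', hπ', FsubLift Y e n j' (w ≫ (e n).inv) hw0, ?_⟩
  rw [← cancel_mono (EInftyι Y n j j' hjj'), Category.assoc, Category.assoc, πInfty_ι, hw',
    FsubLift_arrow_assoc, Category.assoc, Iso.inv_hom_id_assoc]

lemma Fsub_ofLE_πInfty :
    (Fsub Y e n j).ofLE (Fsub Y e n j') (Fsub_mono Y e n hjj') ≫ πInfty Y e n j j' hjj' = 0 := by
  rw [← cancel_mono (EInftyι Y n j j' hjj'), Category.assoc, πInfty_ι, zero_comp,
    Subobject.ofLE_arrow_assoc, Fsub_arrow_comp]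

lemma Fsub_πInfty_exact :
    (ShortComplex.mk _ _ (Fsub_ofLE_πInfty Y e n j j' hjj')).Exact := by
  rw [ShortComplex.exact_iff_exact_up_to_refinements]
  intro A x₂ hx₂
  dsimp at x₂ hx₂
  have h0 : (x₂ ≫ (Fsub Y e n j').arrow) ≫ (e n).hom ≫ toTop Y n j = 0 := by
    rw [Category.assoc, ← πInfty_ι Y e n j j' hjj', reassoc_of% hx₂, zero_comp]
  refine ⟨A, 𝟙 A, inferInstance, FsubLift Y e n j (x₂ ≫ (Fsub Y e n j').arrow) h0, ?_⟩
  show 𝟙 A ≫ x₂ = FsubLift Y e n j (x₂ ≫ (Fsub Y e n j').arrow) h0 ≫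
    (Fsub Y e n j).ofLE (Fsub Y e n j') (Fsub_mono Y e n hjj')
  rw [Category.id_comp, ← cancel_mono (Fsub Y e n j').arrow, Category.assoc,
    Subobject.ofLE_arrow, FsubLift_arrow]

/-- The graded piece `F_{j'} H^n / F_j H^n` is the limit term `E^n(⊥ ≤ j ≤ j' ≤ ⊤)`. -/
noncomputable def grIso :
    SpSeq.subquot (Fsub Y e n j') (Fsub Y e n j) (Fsub_mono Y e n hjj') ≅ EInfty Y n j j' hjj' :=
  subquotIso _ _ _ (πInfty Y e n j j' hjj') (Fsub_ofLE_πInfty Y e n j j' hjj')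
    (Fsub_πInfty_exact Y e n j j' hjj')

end Filtration

section FirstQuadrant

variable [Y.IsFirstQuadrant]

lemma isZero_page_of_snd_neg (r : ℤ) (hr : 2 ≤ r) (pq : ℤ × ℤ) (h : pq.2 < 0) :
    IsZero ((Y.E₂SpectralSequence.page r hr).X pq) :=
  Y.isZero_spectralSequence_page_X_of_isZero_H' _ _ hr _
    (Y.isZero₁_of_isFirstQuadrant _ _ _ (by simp; lia) _)

lemma isZero_page_of_fst_neg (r : ℤ) (hr : 2 ≤ r) (pq : ℤ × ℤ) (h : pq.1 < 0) :
    IsZero ((Y.E₂SpectralSequence.page r hr).X pq) :=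
  Y.isZero_spectralSequence_page_X_of_isZero_H' _ _ hr _
    (Y.isZero₂_of_isFirstQuadrant _ _ _ _ (by simp; lia))

/-- A page from which the position `pq` is stationary. -/
def rk (pq : ℤ × ℤ) : ℤ := max 2 (max (pq.2 + 2) (pq.1 + 1))

lemma two_le_rk (pq : ℤ × ℤ) : 2 ≤ rk pq := le_max_left _ _

lemma snd_lt_rk (pq : ℤ × ℤ) : pq.2 + 2 ≤ rk pq :=
  (le_max_left _ _).trans (le_max_right _ _)

lemma fst_lt_rk (pq : ℤ × ℤ) : pq.1 + 1 ≤ rk pq :=
  (le_max_right _ _).trans (le_max_right _ _)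

lemma stationaryAt_rk (pq : ℤ × ℤ) : SpSeq.StationaryAt Y.E₂SpectralSequence pq (rk pq) := by
  refine ⟨two_le_rk pq, fun r' h₀ hr' => ⟨?_, ?_⟩⟩
  · apply IsZero.eq_of_src
    apply isZero_page_of_fst_neg
    have := fst_lt_rk pq
    simp
    lia
  · apply IsZero.eq_of_tgt
    apply isZero_page_of_snd_neg
    have := snd_lt_rk pq
    simp
    lia

lemma isBounded_E₂ : SpSeq.IsBounded Y.E₂SpectralSequence := by
  intro n
  refine (Set.finite_Icc (0 : ℤ) n).subset ?_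
  intro p hp
  simp only [Set.mem_setOf_eq] at hp
  by_contra hcon
  simp only [Set.mem_Icc, not_and_or, not_le] at hcon
  rcases hcon with h | h
  · exact hp (isZero_page_of_fst_neg Y 2 le_rfl (p, n - p) h)
  · exact hp (isZero_page_of_snd_neg Y 2 le_rfl (p, n - p) (by simp; lia))

variable {H' : ℤ → C}
  (e : ∀ n, H' n ≅ (Y.H n).obj (mk₁ (homOfLE (bot_le : (⊥ : EInt) ≤ ⊤))))

/-- The decreasing filtration on the abutment: `F^p H^n = ker (H^n ⟶ H^n(n - p + 1 → ⊤))`. -/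
noncomputable def fil (n p : ℤ) : Subobject (H' n) := Fsub Y e n ((n - p + 1 : ℤ) : EInt)

lemma fil_anti (n : ℤ) : Antitone (fil Y e n) := fun p p' h =>
  Fsub_mono Y e n (WithBotTop.coe_le_coe.2 (by lia))

omit [Y.IsFirstQuadrant] in
lemma coe_eq {a b : ℤ} (h : a = b) : ((a : ℤ) : EInt) = b := by rw [h]

/-- The identification of the limit term at `pq` with the graded piece of the abutment. -/
noncomputable def βIso (pq : ℤ × ℤ) :
    (Y.E₂SpectralSequence.page (rk pq) (two_le_rk pq)).X pq ≅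
      SpSeq.grPiece (fil Y e (pq.1 + pq.2)) (fil_anti Y e (pq.1 + pq.2)) pq.1 :=
  Y.spectralSequencePageXIso SpectralObject.coreE₂Cohomological (rk pq) (two_le_rk pq) pq
      ((pq.2 - rk pq + 2 : ℤ) : EInt) ((pq.1 + pq.2 - (pq.1 + 1) + 1 : ℤ) : EInt)
      ((pq.1 + pq.2 - pq.1 + 1 : ℤ) : EInt) ((pq.2 + rk pq - 1 : ℤ) : EInt)
      rfl (coe_eq (show pq.1 + pq.2 - (pq.1 + 1) + 1 = pq.2 by lia))
      (coe_eq (show pq.1 + pq.2 - pq.1 + 1 = pq.2 + 1 by lia)) rfl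
      (pq.1 + pq.2 - 1) (pq.1 + pq.2) (pq.1 + pq.2 + 1) rfl (by lia) rfl ≪≫
    (Y.isoMapFourδ₁Toδ₀' ⊥ ((pq.2 - rk pq + 2 : ℤ) : EInt)
      ((pq.1 + pq.2 - (pq.1 + 1) + 1 : ℤ) : EInt)
      ((pq.1 + pq.2 - pq.1 + 1 : ℤ) : EInt) ((pq.2 + rk pq - 1 : ℤ) : EInt) bot_le
      (WithBotTop.coe_le_coe.2 (by have := two_le_rk pq; lia))
      (WithBotTop.coe_le_coe.2 (by lia))
      (WithBotTop.coe_le_coe.2 (by have := two_le_rk pq; lia))
      (pq.1 + pq.2 - 1) (pq.1 + pq.2) (pq.1 + pq.2 + 1)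
      (Y.isZero₁_of_isFirstQuadrant _ _ _
        (WithBotTop.coe_le_coe.2 (by have := snd_lt_rk pq; lia)) _) (by lia) rfl).symm ≪≫
    Y.isoMapFourδ₄Toδ₃' ⊥ ((pq.1 + pq.2 - (pq.1 + 1) + 1 : ℤ) : EInt)
      ((pq.1 + pq.2 - pq.1 + 1 : ℤ) : EInt) ((pq.2 + rk pq - 1 : ℤ) : EInt) ⊤ bot_le
      (WithBotTop.coe_le_coe.2 (by lia))
      (WithBotTop.coe_le_coe.2 (by have := two_le_rk pq; lia)) le_top
      (pq.1 + pq.2 - 1) (pq.1 + pq.2) (pq.1 + pq.2 + 1)
      (Y.isZero₂_of_isFirstQuadrant _ _ _ _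
        (WithBotTop.coe_lt_coe.2 (by have := fst_lt_rk pq; lia))) (by lia) rfl ≪≫
    (grIso Y e (pq.1 + pq.2) ((pq.1 + pq.2 - (pq.1 + 1) + 1 : ℤ) : EInt)
      ((pq.1 + pq.2 - pq.1 + 1 : ℤ) : EInt) (WithBotTop.coe_le_coe.2 (by lia))).symm

/-- The abutment data of the `E₂` spectral sequence of a first quadrant spectral object. -/
noncomputable def abutment : SpSeq.Abutment Y.E₂SpectralSequence H' where
  fil n := fil Y e n
  anti n := fil_anti Y e n
  rk := rk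
  stat := stationaryAt_rk Y
  β pq := βIso Y e pq

lemma abutment_isFinite (n : ℤ) : (abutment Y e).IsFinite n := by
  refine ⟨⟨0, ?_⟩, ⟨n + 1, ?_⟩⟩
  · apply kernelSubobject_eq_top_of_isZero
    exact Y.isZero₂_of_isFirstQuadrant _ _ _ _ (WithBotTop.coe_lt_coe.2 (by lia))
  · have h1 : Mono (toTop Y n ((n - (n + 1) + 1 : ℤ) : EInt)) :=
      Y.mono_H_map_twoδ₁Toδ₀' n ⊥ _ ⊤ bot_le le_top
        (Y.isZero₁_of_isFirstQuadrant _ _ _ (WithBotTop.coe_le_coe.2 (by lia)) _)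
    have : Mono ((e n).hom ≫ toTop Y n ((n - (n + 1) + 1 : ℤ) : EInt)) := mono_comp _ _
    exact kernelSubobject_eq_bot_of_mono _

/-- The objects of the second page. -/
noncomputable def pageTwoIso (p q : ℤ) :
    (Y.E₂SpectralSequence.page 2 le_rfl).X (p, q) ≅
      (Y.H (p + q)).obj (mk₁ (homOfLE (WithBotTop.coe_le_coe.2 (by lia) :
        ((q : ℤ) : EInt) ≤ ((q + 1 : ℤ) : EInt)))) :=
  Y.spectralSequenceFirstPageXIso SpectralObject.coreE₂Cohomological (p, q) _ _ rfl rfl _ rfl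

include e in
/-- **Convergence** of the `E₂` spectral sequence of a first quadrant spectral object. -/
theorem exists_abutment :
    ∃ (a : SpSeq.Abutment Y.E₂SpectralSequence H'), (∀ n, a.IsFinite n) ∧
      SpSeq.IsBounded Y.E₂SpectralSequence :=
  ⟨abutment Y e, abutment_isFinite Y e, isBounded_E₂ Y⟩

end FirstQuadrant

end Groth.Agent.Lib.Helper34.SS
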