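import Groth.Agent.Lib.Helper34.SSRPlus
import Groth.Agent.Lib.Helper34.SSConv
import Mathlib.CategoryTheory.Triangulated.TStructure.SpectralObject

/-!
# The Grothendieck spectral sequence

Given a left exact functor `F : A ⥤ B` and an object `KK` of `D⁺(A)` which is `≥ 0`, the
truncations of `KK` form a spectral object in `D⁺(A)`; applying the homological functor
`Φ F = H⁰ ∘ RF` we get a first quadrant spectral object in `B`, hence a convergent spectral
sequence `E₂^{p,q} = R^pF(H^q(KK)) ⇒ Φ^{p+q}(KK)`.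
-/

set_option autoImplicit false

namespace Groth.Agent.Lib.Helper34.SS

open CategoryTheory Limits ComposableArrows

universe w v u

variable {A : Type u} [Category.{v} A] [Abelian A] [HasDerivedCategory.{w} A]

section TStructure

open DerivedCategory.Plus

/-- The canonical t-structure on `D⁺(A)`. -/
noncomputable abbrev tP : Triangulated.TStructure (DerivedCategory.Plus A) :=
  DerivedCategory.Plus.TStructure.t

lemma isIso_homology_map_truncGEπ (Z : DerivedCategory.Plus A) (m i : ℤ) (hi : m ≤ i) :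
    IsIso ((homologyFunctor A i).map ((tP.truncGEπ m).app Z)) := by
  have hT := tP.triangleLTGE_distinguished m Z
  have h1 : Mono ((homologyFunctor A i).map ((tP.truncGEπ m).app Z)) :=
    ((homologyFunctor A 0).homologySequence_mono_shift_map_mor₂_iff _ hT i).2
      ((isZero_homology_of_isLE ((tP.truncLT m).obj Z) (m - 1) i (by lia)).eq_of_src _ _)
  have h2 : Epi ((homologyFunctor A i).map ((tP.truncGEπ m).app Z)) :=
    ((homologyFunctor A 0).homologySequence_epi_shift_map_mor₂_iff _ hT i (i + 1) rfl).2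
      ((isZero_homology_of_isLE ((tP.truncLT m).obj Z) (m - 1) (i + 1) (by lia)).eq_of_tgt _ _)
  exact isIso_of_mono_of_epi _

lemma isIso_homology_map_truncLTι (Z : DerivedCategory.Plus A) (m i : ℤ) (hi : i < m) :
    IsIso ((homologyFunctor A i).map ((tP.truncLTι m).app Z)) := by
  have hT := tP.triangleLTGE_distinguished m Z
  have h1 : Mono ((homologyFunctor A i).map ((tP.truncLTι m).app Z)) :=
    ((homologyFunctor A 0).homologySequence_mono_shift_map_mor₁_iff _ hT (i - 1) i (by lia)).2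
      ((isZero_homology_of_isGE ((tP.truncGE m).obj Z) m (i - 1) (by lia)).eq_of_src _ _)
  have h2 : Epi ((homologyFunctor A i).map ((tP.truncLTι m).app Z)) :=
    ((homologyFunctor A 0).homologySequence_epi_shift_map_mor₁_iff _ hT i).2
      ((isZero_homology_of_isGE ((tP.truncGE m).obj Z) m i hi).eq_of_tgt _ _)
  exact isIso_of_mono_of_epi _

/-- `H^q(τ_{≥q} τ_{<q+1} Z) ≅ H^q(Z)`. -/
noncomputable def homologyTruncIso (Z : DerivedCategory.Plus A) (q : ℤ) :
    (homologyFunctor A q).obj ((tP.truncGE q).obj ((tP.truncLT (q + 1)).obj Z)) ≅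
      (homologyFunctor A q).obj Z :=
  have := isIso_homology_map_truncGEπ ((tP.truncLT (q + 1)).obj Z) q q le_rfl
  have := isIso_homology_map_truncLTι Z (q + 1) q (by lia)
  (asIso ((homologyFunctor A q).map ((tP.truncGEπ q).app ((tP.truncLT (q + 1)).obj Z)))).symm ≪≫
    asIso ((homologyFunctor A q).map ((tP.truncLTι (q + 1)).app Z))

/-- An object of `D⁺(A)` concentrated in degree `q` is a single. -/
theorem nonempty_iso_single (W : DerivedCategory.Plus A) (q : ℤ) [W.IsGE q] [W.IsLE q] :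
    Nonempty (W ≅ (singleFunctor A q).obj ((homologyFunctor A q).obj W)) := by
  obtain ⟨Y, ⟨e⟩⟩ := DerivedCategory.exists_iso_singleFunctor_obj_of_isGE_of_isLE (ι.obj W) q
  let e' : W ≅ (singleFunctor A q).obj Y := ι.preimageIso e
  let e'' : Y ≅ (homologyFunctor A q).obj W :=
    ((DerivedCategory.singleFunctorCompHomologyFunctorIso A q).app Y).symm ≪≫
      (DerivedCategory.homologyFunctor A q).mapIso e.symm
  exact ⟨e' ≪≫ (singleFunctor A q).mapIso e''⟩

end TStructure

variable [EnoughInjectives A] {B : Type u} [Category.{v} B] [Abelian B] (F : A ⥤ B) [F.Additive]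

/-- `Φⁿ(M[-q]) ≅ Φᵖ(M[0])` when `n = p + q`. -/
noncomputable def ΦSingleShiftIso (M : A) (p q n : ℤ) (h : n = p + q) :
    ((Φ F).shift n).obj ((DerivedCategory.Plus.singleFunctor A q).obj M) ≅
      ((Φ F).shift p).obj ((DerivedCategory.Plus.singleFunctor A 0).obj M) :=
  ((Φ F).shift n).mapIso
      (((DerivedCategory.Plus.singleFunctors A).shiftIso (-q) q 0 (by lia)).app M).symm ≪≫
    ((Φ F).shiftIso (-q) n p (by lia)).app _

/-- `Φⁿ(W) ≅ RᵏF(H^q(W))` when `W` is concentrated in degree `q` and `n = k + q`. -/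
theorem nonempty_Φ_iso_rightDerived (W : DerivedCategory.Plus A) (q : ℤ) [W.IsGE q] [W.IsLE q]
    (k : ℕ) (n : ℤ) (hn : n = k + q) :
    Nonempty (((Φ F).shift n).obj W ≅
      (F.rightDerived k).obj ((DerivedCategory.Plus.homologyFunctor A q).obj W)) := by
  obtain ⟨e⟩ := nonempty_iso_single W q
  obtain ⟨e2⟩ := nonempty_Φ_single_iso F ((DerivedCategory.Plus.homologyFunctor A q).obj W) k
  exact ⟨((Φ F).shift n).mapIso e ≪≫ ΦSingleShiftIso F _ k q n hn ≪≫ e2⟩

variable (KK : DerivedCategory.Plus A)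

/-- The spectral object in `B` attached to `KK : D⁺(A)` and the functor `F`. -/
noncomputable def specObj : Abelian.SpectralObject B EInt :=
  mapHomologicalFunctor (tP.spectralObject KK) (Φ F)

lemma coe_succ_le_of_lt (n : ℤ) (i : EInt) (h : (n : EInt) < i) : ((n + 1 : ℤ) : EInt) ≤ i := by
  induction i using WithBotTop.rec with
  | bot => simp at h
  | coe i =>
    simp only [WithBotTop.coe_lt_coe] at h
    simp only [WithBotTop.coe_le_coe]
    lia
  | top => exact le_top

instance [KK.IsGE 0] : (specObj F KK).IsFirstQuadrant where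
  isZero₁ i j hij hj n := by
    have hz : IsZero ((tP.eTruncLT.obj j).obj KK) := tP.isZero_eTruncLT_obj_obj KK 0 j hj
    exact ((Φ F).shift n).map_isZero ((tP.eTruncGE.obj i).map_isZero hz)
  isZero₂ i j hij n hi := by
    have : tP.IsGE ((tP.eTruncGE.obj i).obj ((tP.eTruncLT.obj j).obj KK)) (n + 1) :=
      tP.isGE_eTruncGE_obj_obj (n + 1) i (coe_succ_le_of_lt n i hi) _
    exact isZero_Φ_shift_of_isGE F
      ((tP.eTruncGE.obj i).obj ((tP.eTruncLT.obj j).obj KK)) (n + 1) n (by lia)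

/-- The abutment of the spectral object is `Φⁿ(KK)`. -/
noncomputable def specObjAbutmentIso (n : ℤ) :
    ((Φ F).shift n).obj KK ≅
      ((specObj F KK).H n).obj (mk₁ (homOfLE (bot_le : (⊥ : EInt) ≤ ⊤))) := Iso.refl _

/-- The `E₂` terms of the spectral object. -/
theorem nonempty_specObj_H_iso (q : ℤ) (k : ℕ) (n : ℤ) (hn : n = k + q) (hq : (q : EInt) ≤ (q + 1 : ℤ)) :
    Nonempty (((specObj F KK).H n).obj (mk₁ (homOfLE hq)) ≅
      (F.rightDerived k).obj ((DerivedCategory.Plus.homologyFunctor A q).obj KK)) := by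
  obtain ⟨e⟩ := nonempty_Φ_iso_rightDerived F
    ((tP.truncGE q).obj ((tP.truncLT (q + 1)).obj KK)) q k n hn
  exact ⟨e ≪≫ (F.rightDerived k).mapIso (homologyTruncIso KK q)⟩

/-- **The Grothendieck spectral sequence** `E₂^{p,q} = R^pF(H^q(KK)) ⇒ Φ^{p+q}(KK)` for an
object `KK` of `D⁺(A)` which is `≥ 0`. -/
theorem exists_spectralSequence [KK.IsGE 0] (H' : ℤ → B)
    (e : ∀ n, H' n ≅ ((Φ F).shift n).obj KK) (E2 : ℤ → ℤ → B)
    (h₁ : ∀ (k : ℕ) (q : ℤ), Nonempty (E2 k q ≅
      (F.rightDerived k).obj ((DerivedCategory.Plus.homologyFunctor A q).obj KK)))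
    (h₂ : ∀ p q : ℤ, p < 0 → IsZero (E2 p q)) :
    ∃ (E : E₂CohomologicalSpectralSequence B) (a : SpSeq.Abutment E H'),
      (∀ n, a.IsFinite n) ∧ SpSeq.IsBounded E ∧
      ∀ p q : ℤ, Nonempty ((E.page 2 le_rfl).X (p, q) ≅ E2 p q) := by
  let Y := specObj F KK
  let e' : ∀ n, H' n ≅ (Y.H n).obj (mk₁ (homOfLE (bot_le : (⊥ : EInt) ≤ ⊤))) :=
    fun n => e n ≪≫ specObjAbutmentIso F KK n
  refine ⟨Y.E₂SpectralSequence, abutment Y e', abutment_isFinite Y e', isBounded_E₂ Y,
    fun p q => ?_⟩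
  by_cases hp : p < 0
  · exact ⟨(isZero_page_of_fst_neg Y 2 le_rfl (p, q) hp).iso (h₂ p q hp)⟩
  · obtain ⟨k, rfl⟩ := Int.eq_ofNat_of_zero_le (not_lt.1 hp)
    obtain ⟨e1⟩ := nonempty_specObj_H_iso F KK q k (k + q) rfl (WithBotTop.coe_le_coe.2 (by lia))
    obtain ⟨e2⟩ := h₁ k q
    exact ⟨pageTwoIso Y k q ≪≫ e1 ≪≫ e2.symm⟩

end Groth.Agent.Lib.Helper34.SS
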