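import Mathlib.Algebra.Homology.SpectralObject.Basic
import Mathlib.CategoryTheory.Triangulated.SpectralObject
import Mathlib.CategoryTheory.Triangulated.HomologicalFunctor

/-!
# The abelian spectral object obtained by applying a homological functor to a
spectral object in a triangulated category
-/

set_option autoImplicit false

namespace Groth.Agent.Lib.Helper34.SS

open CategoryTheory Limits Pretriangulated ComposableArrows

variable {C ι A : Type*} [Category C] [Category ι] [HasZeroObject C] [HasShift C ℤ] [Preadditive C]
  [∀ n : ℤ, (shiftFunctor C n).Additive] [Pretriangulated C] [Category A] [Abelian A]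
  (X : Triangulated.SpectralObject C ι) (F : C ⥤ A) [F.IsHomological] [F.ShiftSequence ℤ]

/-- The spectral object in the abelian category `A` obtained by applying the homological
functor `F` to the spectral object `X` of the triangulated category `C`. -/
noncomputable def mapHomologicalFunctor : Abelian.SpectralObject A ι where
  H n := X.ω₁ ⋙ F.shift n
  δ' n₀ n₁ h :=
    { app := fun D => F.homologySequenceδ (X.ω₂.obj D) n₀ n₁ h
      naturality := fun D D' φ =>
        F.homologySequenceδ_naturality _ _ (X.ω₂.map φ) n₀ n₁ h }
  exact₁' n₀ n₁ h D :=
    (F.homologySequence_exact₁ _ (X.ω₂_obj_distinguished D) n₀ n₁ h).exact_toComposableArrows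
  exact₂' n D :=
    (F.homologySequence_exact₂ _ (X.ω₂_obj_distinguished D) n).exact_toComposableArrows
  exact₃' n₀ n₁ h D :=
    (F.homologySequence_exact₃ _ (X.ω₂_obj_distinguished D) n₀ n₁ h).exact_toComposableArrows

@[simp]
lemma mapHomologicalFunctor_H (n : ℤ) :
    (mapHomologicalFunctor X F).H n = X.ω₁ ⋙ F.shift n := rfl

end Groth.Agent.Lib.Helper34.SS
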