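import Groth.Agent.Lib.Helper6.RDPlus4
import Groth.Agent.Lib.Helper34.SSMapHom

/-!
# The homological functor `H⁰ ∘ RF` on the bounded below derived category

For an additive functor `F : A ⥤ B` between abelian categories (`A` with enough injectives) we
consider the equivalence `K⁺(Inj A) ≌ D⁺(A)` and define the triangulated functor
`RFι F : D⁺(A) ⥤ K(B)` (apply `F` termwise to an injective resolution) and the homological functor
`Φ F = H⁰ ∘ RFι F`.
-/

set_option autoImplicit false

namespace Groth.Agent.Lib.Helper34.SS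

open CategoryTheory Limits

universe w v u

variable (A : Type u) [Category.{v} A] [Abelian A] [HasDerivedCategory.{w} A] [EnoughInjectives A]

/-- The functor `K⁺(Inj A) ⥤ D⁺(A)`. -/
noncomputable abbrev Einj : HomotopyCategory.Plus (InjectiveObject A) ⥤ DerivedCategory.Plus A :=
  (InjectiveObject.ι A).mapHomotopyCategoryPlus ⋙ DerivedCategory.Plus.Qh

lemma Einj_map_bijective (X Y : HomotopyCategory.Plus (InjectiveObject A)) :
    Function.Bijective ((Einj A).map : (X ⟶ Y) → _) := by
  obtain ⟨K, rfl⟩ := HomotopyCategory.Plus.quotient_obj_surjective Y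
  have h1 := DerivedCategory.Plus.Qh_map_bijective_of_isKInjective
    ((InjectiveObject.ι A).mapHomotopyCategoryPlus.obj X)
    ((InjectiveObject.ι A).mapHomotopyCategoryPlus.obj
      ((HomotopyCategory.Plus.quotient (InjectiveObject A)).obj K))
    (inferInstanceAs (CochainComplex.IsKInjective
      (((InjectiveObject.ι A).mapHomologicalComplex (.up ℤ)).obj K.obj)))
  have h2 : Function.Bijective ((InjectiveObject.ι A).mapHomotopyCategoryPlus.map :
      (X ⟶ (HomotopyCategory.Plus.quotient (InjectiveObject A)).obj K) → _) :=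
    ⟨Functor.map_injective _, Functor.map_surjective _⟩
  exact h1.comp h2

instance : (Einj A).Full := ⟨fun f => (Einj_map_bijective A _ _).2 f⟩

instance : (Einj A).Faithful := ⟨fun h => (Einj_map_bijective A _ _).1 h⟩

instance : (Einj A).IsEquivalence where

/-- The equivalence `K⁺(Inj A) ≌ D⁺(A)`. -/
noncomputable def eqv : HomotopyCategory.Plus (InjectiveObject A) ≌ DerivedCategory.Plus A :=
  (Einj A).asEquivalence

noncomputable instance : (eqv A).functor.CommShift ℤ := inferInstanceAs ((Einj A).CommShift ℤ)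

instance : (eqv A).functor.IsTriangulated := inferInstanceAs ((Einj A).IsTriangulated)

noncomputable instance : (eqv A).inverse.CommShift ℤ := (eqv A).commShiftInverse ℤ

instance : (eqv A).CommShift ℤ := (eqv A).commShift_of_functor ℤ

instance : (eqv A).IsTriangulated := Equivalence.IsTriangulated.mk' _ inferInstance

variable {A} {B : Type u} [Category.{v} B] [Abelian B] (F : A ⥤ B) [F.Additive]

/-- The triangulated functor `D⁺(A) ⥤ K(B)`: apply `F` termwise to an injective resolution. -/
noncomputable def RFι : DerivedCategory.Plus A ⥤ HomotopyCategory B (ComplexShape.up ℤ) :=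
  (eqv A).inverse ⋙ (InjectiveObject.ι A ⋙ F).mapHomotopyCategoryPlus ⋙ HomotopyCategory.Plus.ι B

noncomputable instance : (RFι F).CommShift ℤ := by
  dsimp only [RFι]
  infer_instance

instance : (RFι F).IsTriangulated := by
  dsimp only [RFι]
  infer_instance

/-- The homological functor `H⁰ ∘ RF : D⁺(A) ⥤ B`. -/
noncomputable def Φ : DerivedCategory.Plus A ⥤ B :=
  RFι F ⋙ HomotopyCategory.homologyFunctor B (ComplexShape.up ℤ) 0

instance : (Φ F).IsHomological := by
  dsimp only [Φ]
  infer_instance

noncomputable instance : (Φ F).ShiftSequence ℤ := by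
  dsimp only [Φ]
  infer_instance

lemma Φ_shift (n : ℤ) :
    (Φ F).shift n = RFι F ⋙ HomotopyCategory.homologyFunctor B (ComplexShape.up ℤ) n := rfl

/-- If `Z` is represented by the bounded below complex of injectives `J`, then
`Φⁿ(Z) ≅ Hⁿ(F J)`. -/
noncomputable def ΦIsoOfIso (J : CochainComplex.Plus (InjectiveObject A))
    (Z : DerivedCategory.Plus A)
    (α : Z ≅ (Einj A).obj ((HomotopyCategory.Plus.quotient (InjectiveObject A)).obj J)) (n : ℤ) :
    ((Φ F).shift n).obj Z ≅
      (((InjectiveObject.ι A ⋙ F).mapHomologicalComplex (ComplexShape.up ℤ)).obj J.obj).homology n :=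
  ((Φ F).shift n).mapIso α ≪≫
    (HomotopyCategory.homologyFunctor B (ComplexShape.up ℤ) n).mapIso
      (((InjectiveObject.ι A ⋙ F).mapHomotopyCategoryPlus ⋙ HomotopyCategory.Plus.ι B).mapIso
        ((eqv A).unitIso.app ((HomotopyCategory.Plus.quotient (InjectiveObject A)).obj J)).symm) ≪≫
    (HomotopyCategory.homologyFunctorFactors B (ComplexShape.up ℤ) n).app
      (((InjectiveObject.ι A ⋙ F).mapHomologicalComplex (ComplexShape.up ℤ)).obj J.obj)

/-- A bounded below complex of injectives as an object of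
`CochainComplex.Plus (InjectiveObject A)`. -/
noncomputable def injPlus (L : CochainComplex A ℤ) (a : ℤ) [L.IsStrictlyGE a]
    (hL : ∀ n, Injective (L.X n)) : CochainComplex.Plus (InjectiveObject A) :=
  ⟨HomologicalComplex.liftObjectProperty _ L hL, a, by
    rwa [← CochainComplex.isStrictlyGE_mapHomologicalComplex_obj_iff _ (InjectiveObject.ι _)]⟩

open Groth.Agent.Lib.Helper6 in
/-- A quasi-isomorphism between bounded below complexes of `F`-acyclic objects remains a
quasi-isomorphism after applying `F`. -/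
theorem quasiIso_map_of_acyc [HasDerivedCategory.{w} B] [PreservesFiniteLimits F]
    {K L : CochainComplex A ℤ} (j : K ⟶ L) (a : ℤ) [K.IsStrictlyGE a] [L.IsStrictlyGE a]
    (hq : QuasiIso j) (hK : ∀ m, RDPlus.Acyc F (K.X m)) (hL : ∀ m, RDPlus.Acyc F (L.X m)) :
    QuasiIso ((F.mapHomologicalComplex (ComplexShape.up ℤ)).map j) := by
  rw [RDPlus.quasiIso_iff_acyclic_mappingCone]
  have hcone : (CochainComplex.mappingCone j).Acyclic :=
    (RDPlus.quasiIso_iff_acyclic_mappingCone j).1 hq
  have hge : (CochainComplex.mappingCone j).IsStrictlyGE (a - 1) := by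
    rw [CochainComplex.isStrictlyGE_iff]
    intro i hi
    rw [CochainComplex.mappingCone.isZero_X_iff]
    exact ⟨K.isZero_of_isStrictlyGE a _ (by lia), L.isZero_of_isStrictlyGE a _ (by lia)⟩
  have hterms : ∀ n, RDPlus.Acyc F ((CochainComplex.mappingCone j).X n) := fun n =>
    RDPlus.acyc_of_iso F (HomologicalComplex.homotopyCofiber.XIsoBiprod j n (n + 1) rfl).symm
      (RDPlus.acyc_biprod F (hK (n + 1)) (hL n))
  have := RDPlus.acyclic_map_of_acyc F (CochainComplex.mappingCone j) (a - 1) hcone hterms
  intro n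
  exact (this n).of_iso (CochainComplex.mappingCone.mapHomologicalComplexIso j F)

open Groth.Agent.Lib.Helper6 in
/-- `Φⁿ` of a bounded below complex of `F`-acyclic objects is computed by applying `F`
termwise. -/
theorem nonempty_Φ_iso_of_acyc [HasDerivedCategory.{w} B] [PreservesFiniteLimits F]
    (K : CochainComplex A ℤ) (a : ℤ) [K.IsStrictlyGE a]
    (hK : ∀ (m : ℤ) (q : ℕ), 0 < q → IsZero ((F.rightDerived q).obj (K.X m))) (n : ℤ) :
    Nonempty (((Φ F).shift n).obj (DerivedCategory.Plus.Q.obj ⟨K, a, inferInstance⟩) ≅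
      ((F.mapHomologicalComplex (ComplexShape.up ℤ)).obj K).homology n) := by
  obtain ⟨L, i, hL, hinj, -, hq⟩ := InjRes.exists_mono_quasiIso_injective K a
  let J := injPlus L a hinj
  let φ : (⟨K, a, inferInstance⟩ : CochainComplex.Plus A) ⟶ ⟨L, a, hL⟩ := ObjectProperty.homMk i
  have hφ : IsIso (DerivedCategory.Plus.Q.map φ) :=
    Localization.inverts (HomotopyCategory.Plus.quotient A ⋙ DerivedCategory.Plus.Qh)
      (CochainComplex.Plus.quasiIso A) φ hq
  let α : DerivedCategory.Plus.Q.obj (⟨K, a, inferInstance⟩ : CochainComplex.Plus A) ≅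
      (Einj A).obj ((HomotopyCategory.Plus.quotient (InjectiveObject A)).obj J) :=
    @asIso _ _ _ _ (DerivedCategory.Plus.Q.map φ) hφ
  have e1 := ΦIsoOfIso F J _ α n
  have hqi : QuasiIso ((F.mapHomologicalComplex (ComplexShape.up ℤ)).map i) :=
    quasiIso_map_of_acyc F i a hq
      (fun m => (RDPlus.acyc_iff_classical F _).2 (hK m))
      (fun m => by have := hinj m; exact RDPlus.acyc_of_injective F (L.X m))
  exact ⟨e1 ≪≫ (asIso (HomologicalComplex.homologyMap
    ((F.mapHomologicalComplex (ComplexShape.up ℤ)).map i) n)).symm⟩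

/-- `Φⁿ` vanishes on `D^{≥ a}` for `n < a`. -/
theorem isZero_Φ_shift_of_isGE (Z : DerivedCategory.Plus A) (a : ℤ) [Z.IsGE a] (n : ℤ)
    (hn : n < a) : IsZero (((Φ F).shift n).obj Z) := by
  obtain ⟨L, hL, ⟨e⟩⟩ := DerivedCategory.Plus.exists_injective_nonempty_iso Z a
  refine IsZero.of_iso ?_ (ΦIsoOfIso F L Z e.symm n)
  let FL : CochainComplex B ℤ :=
    ((InjectiveObject.ι A ⋙ F).mapHomologicalComplex (ComplexShape.up ℤ)).obj L.obj
  have : FL.IsStrictlyGE a := by dsimp only [FL]; infer_instance
  show IsZero (FL.homology n)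
  exact ShortComplex.isZero_homology_of_isZero_X₂ _ (FL.isZero_of_isStrictlyGE a n hn)

/-- The isomorphism `single₀ M ≅ Q(M[0])` in `D⁺(A)`. -/
noncomputable def singleIsoQ (M : A) :
    (DerivedCategory.Plus.singleFunctor A 0).obj M ≅
      DerivedCategory.Plus.Q.obj ⟨(CochainComplex.singleFunctor A 0).obj M, 0, inferInstance⟩ :=
  DerivedCategory.Plus.ι.preimageIso ((DerivedCategory.singleFunctorIsoCompQ A 0).app M)

/-- `Φᵏ(M[0]) ≅ RᵏF(M)`. -/
theorem nonempty_Φ_single_iso (M : A) (k : ℕ) :
    Nonempty (((Φ F).shift (k : ℤ)).obj ((DerivedCategory.Plus.singleFunctor A 0).obj M) ≅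
      (F.rightDerived k).obj M) := by
  let I := injectiveResolution M
  let J := injPlus I.cochainComplex 0 inferInstance
  let φ : (⟨(CochainComplex.singleFunctor A 0).obj M, 0, inferInstance⟩ : CochainComplex.Plus A) ⟶
      ⟨I.cochainComplex, 0, inferInstance⟩ := ObjectProperty.homMk I.ι'
  have hq : QuasiIso φ.hom := inferInstanceAs (QuasiIso I.ι')
  have hφ : IsIso (DerivedCategory.Plus.Q.map φ) :=
    Localization.inverts (HomotopyCategory.Plus.quotient A ⋙ DerivedCategory.Plus.Qh)
      (CochainComplex.Plus.quasiIso A) φ hq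
  let α : (DerivedCategory.Plus.singleFunctor A 0).obj M ≅
      (Einj A).obj ((HomotopyCategory.Plus.quotient (InjectiveObject A)).obj J) :=
    singleIsoQ M ≪≫ @asIso _ _ _ _ (DerivedCategory.Plus.Q.map φ) hφ
  have e1 := ΦIsoOfIso F J _ α k
  have e2 : ((F.mapHomologicalComplex (ComplexShape.up ℤ)).obj I.cochainComplex).homology k ≅
      (((F.mapHomologicalComplex (ComplexShape.up ℕ)).obj I.cocomplex).extend
        ComplexShape.embeddingUpNat).homology k :=
    (HomologicalComplex.homologyFunctor B (ComplexShape.up ℤ) k).mapIso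
      (Groth.Agent.Lib.Helper6.ExtendFunctor.mapExtendIso ComplexShape.embeddingUpNat F I.cocomplex)
  have e3 : (((F.mapHomologicalComplex (ComplexShape.up ℕ)).obj I.cocomplex).extend
        ComplexShape.embeddingUpNat).homology k ≅
      ((F.mapHomologicalComplex (ComplexShape.up ℕ)).obj I.cocomplex).homology k :=
    HomologicalComplex.extendHomologyIso _ ComplexShape.embeddingUpNat (by simp)
  exact ⟨e1 ≪≫ e2 ≪≫ e3 ≪≫ (I.isoRightDerivedObj F k).symm⟩

end Groth.Agent.Lib.Helper34.SS
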