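import Groth.Agent.Lib.Helper34.SchPushQC
import Groth.Agent.Lib.Helper34.AcycUnit

/-!
# `f_* K ⟶ Rf_* K` is an isomorphism for complexes of acyclic quasi-coherent modules
(`f` quasi-compact quasi-separated with quasi-compact target) (helper34)
-/

set_option autoImplicit false
universe w w' u
open CategoryTheory Limits AlgebraicGeometry Opposite TopologicalSpace ZeroObject

namespace Groth.Agent.Lib.Helper34.SchPush

open Groth.Agent.Lib.QCoh Groth.Agent.Lib.Cohomology
open DerivedCategory ModSite Groth.Agent.Lib.Helper34.ModHZero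

section Abstract

variable {C : Type*} [Category C] [Abelian C]

lemma prop_homology_of_terms (P : ObjectProperty C) [WSerre.IsWeakSerre P]
    (L : CochainComplex C ℤ) (h : ∀ n, P (L.X n)) (n : ℤ) : P (L.homology n) := by
  have e := (L.sc n).homologyIsoCokernelLift
  exact P.prop_of_iso e.symm (P.prop_cokernel _ (h _) (P.prop_kernel _ (h _) (h _)))

lemma cohIn_Q_of_terms [HasDerivedCategory C] (P : ObjectProperty C) [WSerre.IsWeakSerre P]
    (L : CochainComplex C ℤ) (h : ∀ n, P (L.X n)) : WSerre.cohIn P (Q.obj L) := fun i =>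
  P.prop_of_iso ((homologyFunctorFactors C i).app L).symm (prop_homology_of_terms P L h i)

end Abstract

variable {X S : Scheme.{u}} (f : X ⟶ S)
variable [HasDerivedCategory.{w} (MS X)] [HasDerivedCategory.{w'} (MS S)]

/-- the full conclusion of `ModPushCoh.main` for schemes with quasi-compact target -/
theorem main_of_compact [QuasiCompact f] [QuasiSeparated f] [CompactSpace S] :
    ∃ n0 : ℕ, (∀ (F : MS X), QC X F → ∀ p : ℕ, n0 ≤ p →
        haveI : HasInjectiveResolutions (MS X) :=
          haveI : EnoughInjectives (MS X) :=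
            Groth.Agent.S0485.result (Opens.grothendieckTopology X) (ringSh X.sheaf)
          inferInstance
        IsZero (((ModSite.RMor.ofScheme f).push.rightDerived p).obj F)) ∧
      ∀ (R : DerivedCategory (MS X) ⥤ DerivedCategory (MS S))
        (β : (ModSite.RMor.ofScheme f).push.mapHomotopyCategory (ComplexShape.up ℤ) ⋙
          DerivedCategory.Qh ⟶ DerivedCategory.Qh ⋙ R)
        [R.IsRightDerivedFunctor β (HomotopyCategory.quasiIso (MS X) (ComplexShape.up ℤ))]
        (E : DerivedCategory (MS X)), WSerre.cohIn (QC X) E →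
        ∀ (n : ℕ) (j : ℤ), ((n0 : ℤ) - 1) - (n : ℤ) ≤ j →
          IsIso ((homologyFunctor (MS S) j).map
            (R.map ((TStructure.t.truncGEπ (-(n : ℤ))).app E))) := by
  haveI : EnoughInjectives (MS X) :=
    Groth.Agent.S0485.result (Opens.grothendieckTopology X) (ringSh X.sheaf)
  haveI : HasInjectiveResolutions (MS X) := inferInstance
  haveI : IsGrothendieckAbelian.{u} (MS X) :=
    Groth.Agent.S0484.result (Opens.grothendieckTopology X) (ringSh X.sheaf)
  obtain ⟨n0, hn0⟩ := Groth.Agent.S0031.result f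
  let fR : RMor X.sheaf S.sheaf := ModSite.RMor.ofScheme f
  have hB := Groth.Agent.Lib.Helper68.DerLimSh.hB_site (X := X.toTopCat) X.affineOpens
    X.isBasis_affineOpens
  have hB' := Groth.Agent.Lib.Helper68.DerLimSh.hB_site (X := S.toTopCat) S.affineOpens
    S.isBasis_affineOpens
  have hA : ∀ V ∈ X.affineOpens, ∃ d : ℕ, ∀ T ∈ Opens.grothendieckTopology X V,
      ∃ (ι : Type u) (Y : ι → X.Opens) (g : ∀ i, Y i ⟶ V),
      (∀ i, T.arrows (g i)) ∧ Sieve.ofArrows Y g ∈ Opens.grothendieckTopology X V ∧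
      ∀ (i : ι) (F : X.Modules), QC X F → ∀ k : ℕ, d < k →
        Subsingleton (ModSite.HU X.sheaf F k (Y i)) := by
    intro V _
    refine ⟨0, fun T hT => ?_⟩
    obtain ⟨ι, Y, g, hg, hcov, hY⟩ :=
      Groth.Agent.Lib.Helper34.ModTruncRlim.refine_cover X.affineOpens hB T hT
    exact ⟨ι, Y, g, hg, hcov, fun i F hF k hk => HU_affine F hF (Y i) (hY i) k hk⟩
  have hA' : ∀ V ∈ S.affineOpens, ∃ d : ℕ, ∀ T ∈ Opens.grothendieckTopology S V,
      ∃ (ι : Type u) (Y : ι → S.Opens) (g : ∀ i, Y i ⟶ V),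
      (∀ i, T.arrows (g i)) ∧ Sieve.ofArrows Y g ∈ Opens.grothendieckTopology S V ∧
      ∀ (i : ι) (F : S.Modules), QC S F → ∀ k : ℕ, d < k →
        Subsingleton (ModSite.HU S.sheaf F k (Y i)) := by
    intro V _
    refine ⟨0, fun T hT => ?_⟩
    obtain ⟨ι, Y, g, hg, hcov, hY⟩ :=
      Groth.Agent.Lib.Helper34.ModTruncRlim.refine_cover S.affineOpens hB' T hT
    exact ⟨ι, Y, g, hg, hcov, fun i F hF k hk => HU_affine F hF (Y i) (hY i) k hk⟩
  have h4 : ∀ F : X.Modules, QC X F → ∀ p : ℕ, ((n0 : ℤ) - 1) < (p : ℤ) →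
      IsZero ((fR.Rpush p).obj F) := by
    intro F hF p hp
    obtain ⟨e⟩ := Groth.Agent.Lib.Helper34.ModLeray.nonempty_toAb_Rpush_iso fR F p
    have hz : IsZero ((Coh.RpushAb f p).obj (Coh.toAb F)) := hn0 F hF p (by omega)
    apply isZero_of_isZero_toSheaf
    exact IsZero.of_iso hz e.symm
  have h3 : ∀ F : X.Modules, QC X F → ∀ p : ℕ, QC S ((fR.Rpush p).obj F) := by
    intro F hF p
    haveI : Coh.IsQCoh F := hF
    haveI : HasInjectiveResolutions X.Modules := inferInstanceAs (HasInjectiveResolutions (MS X))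
    exact Groth.Agent.S0030.result f F p
  refine ⟨n0, fun F hF p hp => h4 F hF p (by omega), fun R β _ E hE =>
    (Groth.Agent.Lib.Helper34.ModPushCoh.main fR (QC X) (QC S) X.affineOpens S.affineOpens
      hB hA hB' hA' ((n0 : ℤ) - 1) h3 h4 R β E hE).2⟩

open Groth.Agent.Lib.Helper6 Groth.Agent.Lib.Helper34.ModUnbdd Groth.Agent.Lib.Helper68.TruncRlim in
/-- the unit `f_* K ⟶ Rf_* K` is an isomorphism for a complex `K` of `f_*`-acyclic quasi-coherent
modules (quasi-compact target). -/
theorem isIso_bC_of_compact [QuasiCompact f] [QuasiSeparated f] [CompactSpace S]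
    (R : DerivedCategory (MS X) ⥤ DerivedCategory (MS S)) [R.CommShift ℤ] [R.IsTriangulated]
    (β : (ModSite.RMor.ofScheme f).push.mapHomotopyCategory (ComplexShape.up ℤ) ⋙
      DerivedCategory.Qh ⟶ DerivedCategory.Qh ⋙ R)
    [R.IsRightDerivedFunctor β (HomotopyCategory.quasiIso (MS X) (ComplexShape.up ℤ))]
    [HasInjectiveResolutions (MS X)]
    (K : CochainComplex (MS X) ℤ) (hq : ∀ n, QC X (K.X n))
    (hac : ∀ (n : ℤ) (i : ℕ), 0 < i →
      IsZero (((ModSite.RMor.ofScheme f).push.rightDerived i).obj (K.X n))) :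
    IsIso ((RFAcyc.bC (ModSite.RMor.ofScheme f).push R β).app K) := by
  haveI : IsGrothendieckAbelian.{u} (MS X) :=
    Groth.Agent.S0484.result (Opens.grothendieckTopology X) (ringSh X.sheaf)
  obtain ⟨n0, hvan, hmain⟩ := main_of_compact f
  let fR : RMor X.sheaf S.sheaf := ModSite.RMor.ofScheme f
  haveI : PreservesFiniteLimits fR.push := by
    have : PreservesLimitsOfSize.{0, 0} fR.push := fR.adj.rightAdjoint_preservesLimits
    infer_instance
  refine AcycUnit.isIso_bC_of_acyclic_of_bound fR.push R β K hac n0 ?_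
  intro a i hai
  have hL : ∀ n, QC X ((K.stupidTrunc (ComplexShape.embeddingUpIntLE a)).X n) := by
    intro n
    by_cases h : n ≤ a
    · haveI := SigmaGE.isIso_π_f K a n h
      exact (QC X).prop_of_iso (asIso ((SigmaGE.π K a).f n)) (hq n)
    · exact (QC X).prop_of_isZero (SigmaGE.isZero_stupidTrunc_X' K a n (by omega))
  have hcoh : WSerre.cohIn (QC X) (Q.obj (K.stupidTrunc (ComplexShape.embeddingUpIntLE a))) :=
    cohIn_Q_of_terms (QC X) _ hL
  haveI hLE : (Q.obj (K.stupidTrunc (ComplexShape.embeddingUpIntLE a))).IsLE a := by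
    rw [isLE_Q_obj_iff]
    infer_instance
  obtain ⟨n, hn1, hn2⟩ : ∃ n : ℕ, ((n0 : ℤ) - 1) - n ≤ i ∧ -(n : ℤ) ≤ a :=
    ⟨(max ((n0 : ℤ) - 1 - i) (-a)).toNat, by omega, by omega⟩
  have hiso := hmain R β _ hcoh n i hn1
  refine IsZero.of_iso ?_ (asIso ((homologyFunctor (MS S) i).map (R.map
    ((TStructure.t.truncGEπ (-(n : ℤ))).app
      (Q.obj (K.stupidTrunc (ComplexShape.embeddingUpIntLE a)))))))
  refine RDBdd.main fR.push (QC X) n0 (fun G hG p hp => hvan G hG p hp) R β _
    (cohIn_truncGE (QC X) hcoh _) (-(n : ℤ)) a ?_ i (Or.inr (by omega))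
  intro k hk
  by_cases hkn : -(n : ℤ) ≤ k
  · have hka : a < k := by omega
    haveI := isIso_homology_truncGEπ (Q.obj (K.stupidTrunc (ComplexShape.embeddingUpIntLE a)))
      (-(n : ℤ)) k hkn
    exact (isZero_of_isLE (Q.obj (K.stupidTrunc (ComplexShape.embeddingUpIntLE a))) a k hka).of_iso (asIso ((homologyFunctor (MS X) k).map
      ((TStructure.t.truncGEπ (-(n : ℤ))).app
        (Q.obj (K.stupidTrunc (ComplexShape.embeddingUpIntLE a)))))).symm
  · exact isZero_of_isGE _ (-(n : ℤ)) k (by omega)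

end Groth.Agent.Lib.Helper34.SchPush
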