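import Groth.Agent.Lib.Helper34.SchPush
import Groth.Agent.S0030

/-!
# `Rf_*` preserves `D_QCoh` for `f` quasi-compact quasi-separated with quasi-compact target
-/

set_option autoImplicit false
universe w w' u
open CategoryTheory Limits AlgebraicGeometry Opposite TopologicalSpace ZeroObject

namespace Groth.Agent.Lib.Helper34.SchPush

open Groth.Agent.Lib.QCoh Groth.Agent.Lib.Cohomology
open DerivedCategory ModSite Groth.Agent.Lib.Helper34.ModHZero

variable {X S : Scheme.{u}} (f : X ⟶ S)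
variable [HasDerivedCategory.{w} (MS X)] [HasDerivedCategory.{w'} (MS S)]

/-- `Rf_*` maps `D_QCoh(X)` to `D_QCoh(S)` for `f` quasi-compact quasi-separated with
quasi-compact target, for any total right derived functor `R` of `f_*`. -/
theorem cohIn_R_of_compact [QuasiCompact f] [QuasiSeparated f] [CompactSpace S]
    (R : DerivedCategory (MS X) ⥤ DerivedCategory (MS S))
    (β : (ModSite.RMor.ofScheme f).push.mapHomotopyCategory (ComplexShape.up ℤ) ⋙
      DerivedCategory.Qh ⟶ DerivedCategory.Qh ⋙ R)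
    [R.IsRightDerivedFunctor β (HomotopyCategory.quasiIso (MS X) (ComplexShape.up ℤ))]
    (E : DerivedCategory (MS X)) (hE : WSerre.cohIn (QC X) E) :
    WSerre.cohIn (QC S) (R.obj E) := by
  haveI : EnoughInjectives (MS X) :=
    Groth.Agent.S0485.result (Opens.grothendieckTopology X) (ringSh X.sheaf)
  haveI : HasInjectiveResolutions (MS X) := inferInstance
  haveI : IsGrothendieckAbelian.{u} (MS X) :=
    Groth.Agent.S0484.result (Opens.grothendieckTopology X) (ringSh X.sheaf)
  obtain ⟨n0, hn0⟩ := Groth.Agent.S0031.result f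
  let fR : RMor X.sheaf S.sheaf := ModSite.RMor.ofScheme f
  have hB := Groth.Agent.Lib.Helper68.DerLimSh.hB_site (X := X.toTopCat) X.affineOpens
    X.isBasis_affineOpens
  have hB' := Groth.Agent.Lib.Helper68.DerLimSh.hB_site (X := S.toTopCat) S.affineOpens
    S.isBasis_affineOpens
  have hA : ∀ V ∈ X.affineOpens, ∃ d : ℕ, ∀ T ∈ Opens.grothendieckTopology X V,
      ∃ (ι : Type u) (Y : ι → X.Opens) (g : ∀ i, Y i ⟶ V),
      (∀ i, T.arrows (g i)) ∧ Sieve.ofArrows Y g ∈ Opens.grothendieckTopology X V ∧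
      ∀ (i : ι) (F : X.Modules), QC X F → ∀ k : ℕ, d < k →
        Subsingleton (ModSite.HU X.sheaf F k (Y i)) := by
    intro V _
    refine ⟨0, fun T hT => ?_⟩
    obtain ⟨ι, Y, g, hg, hcov, hY⟩ :=
      Groth.Agent.Lib.Helper34.ModTruncRlim.refine_cover X.affineOpens hB T hT
    exact ⟨ι, Y, g, hg, hcov, fun i F hF k hk => HU_affine F hF (Y i) (hY i) k hk⟩
  have hA' : ∀ V ∈ S.affineOpens, ∃ d : ℕ, ∀ T ∈ Opens.grothendieckTopology S V,
      ∃ (ι : Type u) (Y : ι → S.Opens) (g : ∀ i, Y i ⟶ V),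
      (∀ i, T.arrows (g i)) ∧ Sieve.ofArrows Y g ∈ Opens.grothendieckTopology S V ∧
      ∀ (i : ι) (F : S.Modules), QC S F → ∀ k : ℕ, d < k →
        Subsingleton (ModSite.HU S.sheaf F k (Y i)) := by
    intro V _
    refine ⟨0, fun T hT => ?_⟩
    obtain ⟨ι, Y, g, hg, hcov, hY⟩ :=
      Groth.Agent.Lib.Helper34.ModTruncRlim.refine_cover S.affineOpens hB' T hT
    exact ⟨ι, Y, g, hg, hcov, fun i F hF k hk => HU_affine F hF (Y i) (hY i) k hk⟩
  have h4 : ∀ F : X.Modules, QC X F → ∀ p : ℕ, ((n0 : ℤ) - 1) < (p : ℤ) →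
      IsZero ((fR.Rpush p).obj F) := by
    intro F hF p hp
    obtain ⟨e⟩ := Groth.Agent.Lib.Helper34.ModLeray.nonempty_toAb_Rpush_iso fR F p
    have hz : IsZero ((Coh.RpushAb f p).obj (Coh.toAb F)) := hn0 F hF p (by omega)
    apply isZero_of_isZero_toSheaf
    exact IsZero.of_iso hz e.symm
  have h3 : ∀ F : X.Modules, QC X F → ∀ p : ℕ, QC S ((fR.Rpush p).obj F) := by
    intro F hF p
    haveI : Coh.IsQCoh F := hF
    haveI : HasInjectiveResolutions X.Modules := inferInstanceAs (HasInjectiveResolutions (MS X))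
    exact Groth.Agent.S0030.result f F p
  exact (Groth.Agent.Lib.Helper34.ModPushCoh.main fR (QC X) (QC S) X.affineOpens S.affineOpens
    hB hA hB' hA' ((n0 : ℤ) - 1) h3 h4 R β E hE).1

end Groth.Agent.Lib.Helper34.SchPush
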