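import Mathlib

/-!
# Serre functors: elementary consequences of the duality pairing

For a `k`-linear category `T` with finite-dimensional Hom spaces, a functor `S : T ⥤ T` together
with natural isomorphisms `c X Y : (X ⟶ Y) ≃ₗ[k] Dual k (Y ⟶ S X)`.
-/

set_option autoImplicit false
set_option linter.unusedSectionVars false
universe w v u

open CategoryTheory

namespace Groth.Agent.Lib.Helper34.Serre

variable {k : Type w} [Field k]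

/-- separation of points by a surjection onto the dual -/
lemma sep {U V : Type*} [AddCommGroup U] [Module k U] [AddCommGroup V] [Module k V]
    (c : U ≃ₗ[k] Module.Dual k V) {v v' : V} (h : ∀ u, c u v = c u v') : v = v' := by
  rw [← sub_eq_zero, ← Module.forall_dual_apply_eq_zero_iff k]
  intro ξ
  obtain ⟨u, rfl⟩ := c.surjective ξ
  rw [map_sub, h u, sub_self]

/-- every functional on `U ≃ Dual V` is evaluation at a vector of `V` (finite-dimensional). -/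
lemma ex {U V : Type*} [AddCommGroup U] [Module k U] [AddCommGroup V] [Module k V]
    [Module.Finite k V] (c : U ≃ₗ[k] Module.Dual k V) (ℓ : U →ₗ[k] k) :
    ∃ v : V, ∀ u, c u v = ℓ u := by
  refine ⟨(Module.evalEquiv k V).symm (ℓ ∘ₗ c.symm.toLinearMap), fun u => ?_⟩
  rw [Module.apply_evalEquiv_symm_apply]
  simp

variable {T : Type u} [Category.{v} T] [Preadditive T] [Linear k T]
  [∀ X Y : T, Module.Finite k (X ⟶ Y)]

/-- the comparison natural transformation between two "Serre functors" -/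
theorem exists_natTrans (S S' : T ⥤ T)
    (c : ∀ X Y : T, (X ⟶ Y) ≃ₗ[k] Module.Dual k (Y ⟶ S.obj X))
    (hc₁ : ∀ (X Y Y' : T) (f : X ⟶ Y) (g : Y ⟶ Y'),
      c X Y' (f ≫ g) = (c X Y f) ∘ₗ Linear.leftComp k (S.obj X) g)
    (hc₂ : ∀ (X' X Y : T) (a : X' ⟶ X) (f : X ⟶ Y),
      c X' Y (a ≫ f) = (c X Y f) ∘ₗ Linear.rightComp k Y (S.map a))
    (c' : ∀ X Y : T, (X ⟶ Y) ≃ₗ[k] Module.Dual k (Y ⟶ S'.obj X))
    (hc'₁ : ∀ (X Y Y' : T) (f : X ⟶ Y) (g : Y ⟶ Y'),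
      c' X Y' (f ≫ g) = (c' X Y f) ∘ₗ Linear.leftComp k (S'.obj X) g)
    (hc'₂ : ∀ (X' X Y : T) (a : X' ⟶ X) (f : X ⟶ Y),
      c' X' Y (a ≫ f) = (c' X Y f) ∘ₗ Linear.rightComp k Y (S'.map a)) :
    ∃ φ : S ⟶ S', ∀ (X : T) (h : X ⟶ S.obj X),
      c' X (S.obj X) h (φ.app X) = c X (S.obj X) h (𝟙 _) := by
  have H1 : ∀ (X Y Y' : T) (f : X ⟶ Y) (g : Y ⟶ Y') (m : Y' ⟶ S.obj X),
      c X Y' (f ≫ g) m = c X Y f (g ≫ m) := fun X Y Y' f g m => by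
    rw [hc₁]; rfl
  have H2 : ∀ (X' X Y : T) (a : X' ⟶ X) (f : X ⟶ Y) (m : Y ⟶ S.obj X'),
      c X' Y (a ≫ f) m = c X Y f (m ≫ S.map a) := fun X' X Y a f m => by
    rw [hc₂]; rfl
  have H1' : ∀ (X Y Y' : T) (f : X ⟶ Y) (g : Y ⟶ Y') (m : Y' ⟶ S'.obj X),
      c' X Y' (f ≫ g) m = c' X Y f (g ≫ m) := fun X Y Y' f g m => by
    rw [hc'₁]; rfl
  have H2' : ∀ (X' X Y : T) (a : X' ⟶ X) (f : X ⟶ Y) (m : Y ⟶ S'.obj X'),
      c' X' Y (a ≫ f) m = c' X Y f (m ≫ S'.map a) := fun X' X Y a f m => by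
    rw [hc'₂]; rfl
  have hex : ∀ X : T, ∃ φX : S.obj X ⟶ S'.obj X, ∀ h : X ⟶ S.obj X,
      c' X (S.obj X) h φX = c X (S.obj X) h (𝟙 _) := fun X =>
    ex (c' X (S.obj X))
      ((LinearMap.applyₗ (𝟙 (S.obj X))) ∘ₗ (c X (S.obj X)).toLinearMap)
  choose φ hφ using hex
  refine ⟨{ app := φ, naturality := ?_ }, hφ⟩
  intro X' X a
  apply sep (c' X (S.obj X'))
  intro h
  rw [← H1', hφ, H1, Category.comp_id, ← H2', hφ, H2, Category.id_comp]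

/-- the comparison is unique -/
theorem natTrans_unique (S S' : T ⥤ T)
    (c' : ∀ X Y : T, (X ⟶ Y) ≃ₗ[k] Module.Dual k (Y ⟶ S'.obj X))
    (φ ψ : S ⟶ S')
    (h : ∀ (X : T) (h : X ⟶ S.obj X), c' X (S.obj X) h (φ.app X) = c' X (S.obj X) h (ψ.app X)) :
    φ = ψ := by
  ext X
  exact sep (c' X (S.obj X)) (h X)

/-- the comparison between a Serre functor and itself is the identity -/
theorem comp_eq_id (S S' : T ⥤ T)
    (c : ∀ X Y : T, (X ⟶ Y) ≃ₗ[k] Module.Dual k (Y ⟶ S.obj X))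
    (hc₁ : ∀ (X Y Y' : T) (f : X ⟶ Y) (g : Y ⟶ Y'),
      c X Y' (f ≫ g) = (c X Y f) ∘ₗ Linear.leftComp k (S.obj X) g)
    (c' : ∀ X Y : T, (X ⟶ Y) ≃ₗ[k] Module.Dual k (Y ⟶ S'.obj X))
    (hc'₁ : ∀ (X Y Y' : T) (f : X ⟶ Y) (g : Y ⟶ Y'),
      c' X Y' (f ≫ g) = (c' X Y f) ∘ₗ Linear.leftComp k (S'.obj X) g)
    (φ : S ⟶ S') (ψ : S' ⟶ S)
    (hφ : ∀ (X : T) (h : X ⟶ S.obj X), c' X (S.obj X) h (φ.app X) = c X (S.obj X) h (𝟙 _))
    (hψ : ∀ (X : T) (h : X ⟶ S'.obj X), c X (S'.obj X) h (ψ.app X) = c' X (S'.obj X) h (𝟙 _)) :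
    φ ≫ ψ = 𝟙 S := by
  have H1 : ∀ (X Y Y' : T) (f : X ⟶ Y) (g : Y ⟶ Y') (m : Y' ⟶ S.obj X),
      c X Y' (f ≫ g) m = c X Y f (g ≫ m) := fun X Y Y' f g m => by
    rw [hc₁]; rfl
  have H1' : ∀ (X Y Y' : T) (f : X ⟶ Y) (g : Y ⟶ Y') (m : Y' ⟶ S'.obj X),
      c' X Y' (f ≫ g) m = c' X Y f (g ≫ m) := fun X Y Y' f g m => by
    rw [hc'₁]; rfl
  ext X
  apply sep (c X (S.obj X))
  intro h
  rw [NatTrans.comp_app, ← H1, hψ, H1', Category.comp_id, hφ, NatTrans.id_app]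

end Groth.Agent.Lib.Helper34.Serre
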