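import Groth.Agent.Lib.Helper34.SerreDuality

/-!
# A Serre functor is exact (Bondal–Kapranov), elementary version.
-/

set_option autoImplicit false
set_option linter.unusedSectionVars false
set_option linter.style.haveILetI false
universe w v u

open CategoryTheory CategoryTheory.Limits CategoryTheory.Pretriangulated

namespace Groth.Agent.Lib.Helper34.Serre

variable {k : Type w} [Field k]

/-- a functional vanishing on the kernel of a linear map factors through it -/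
lemma factor {V W : Type*} [AddCommGroup V] [Module k V] [AddCommGroup W] [Module k W]
    (φ : V →ₗ[k] W) (N : V →ₗ[k] k) (h : ∀ x, φ x = 0 → N x = 0) :
    ∃ N₀ : W →ₗ[k] k, ∀ x, N₀ (φ x) = N x := by
  have : N ∈ LinearMap.range φ.dualMap := by
    rw [LinearMap.range_dualMap_eq_dualAnnihilator_ker, Submodule.mem_dualAnnihilator]
    intro x hx
    exact h x (LinearMap.mem_ker.mp hx)
  obtain ⟨N₀, hN₀⟩ := this
  exact ⟨N₀, fun x => by rw [← hN₀]; rfl⟩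

variable {T : Type u} [Category.{v} T] [Preadditive T] [Linear k T] [HasZeroObject T]
  [HasShift T ℤ] [∀ n : ℤ, (shiftFunctor T n).Additive] [∀ n : ℤ, (shiftFunctor T n).Linear k]
  [Pretriangulated T] [∀ X Y : T, Module.Finite k (X ⟶ Y)]

variable (S : T ⥤ T) (c : ∀ X Y : T, (X ⟶ Y) ≃ₗ[k] Module.Dual k (Y ⟶ S.obj X))
  (H1 : ∀ (X Y Y' : T) (f : X ⟶ Y) (g : Y ⟶ Y') (m : Y' ⟶ S.obj X),
      c X Y' (f ≫ g) m = c X Y f (g ≫ m))
  (H2 : ∀ (X' X Y : T) (a : X' ⟶ X) (f : X ⟶ Y) (m : Y ⟶ S.obj X'),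
      c X' Y (a ≫ f) m = c X Y f (m ≫ S.map a))

include H2 in
/-- `Hom(D, S -)` is exact in the middle on distinguished triangles. -/
theorem exact_mid {X Y Z : T} (u : X ⟶ Y) (v : Y ⟶ Z) (w : Z ⟶ X⟦(1 : ℤ)⟧)
    (hT : Triangle.mk u v w ∈ distTriang T) {D : T} (n : D ⟶ S.obj Y)
    (hn : n ≫ S.map v = 0) : ∃ n₀ : D ⟶ S.obj X, n = n₀ ≫ S.map u := by
  let N : (Y ⟶ D) →ₗ[k] k := (LinearMap.applyₗ n) ∘ₗ (c Y D).toLinearMap
  obtain ⟨N₀, hN₀⟩ := factor (Linear.leftComp k D u) N (by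
    intro β hβ
    obtain ⟨γ, hγ⟩ := Triangle.yoneda_exact₂ _ hT β hβ
    subst hγ
    change c Y D (v ≫ γ) n = 0
    rw [H2, hn, map_zero])
  obtain ⟨n₀, hn₀⟩ := ex (c X D) N₀
  refine ⟨n₀, ?_⟩
  apply sep (c Y D)
  intro β
  rw [← H2, hn₀]
  exact (hN₀ β).symm


include H2 in
theorem S_map_zero (X' X : T) : S.map (0 : X' ⟶ X) = 0 := by
  apply sep (c X (S.obj X'))
  intro u
  rw [← Category.id_comp (S.map 0), ← H2, zero_comp, map_zero, map_zero]
  rfl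

/-- linear equivalence on Hom spaces given by the shift -/
noncomputable def shiftHom (A B : T) : (A ⟶ B) ≃ₗ[k] (A⟦(1 : ℤ)⟧ ⟶ B⟦(1 : ℤ)⟧) :=
  LinearEquiv.ofBijective ((shiftFunctor T (1 : ℤ)).mapLinearMap k)
    ⟨(shiftFunctor T (1 : ℤ)).map_injective, (shiftFunctor T (1 : ℤ)).map_surjective⟩

@[simp] lemma shiftHom_apply {A B : T} (f : A ⟶ B) : shiftHom (k := k) A B f = f⟦(1 : ℤ)⟧' := rfl

@[simp] lemma shiftHom_symm_apply {A B : T} (f : A ⟶ B) :
    (shiftHom (k := k) A B).symm (f⟦(1 : ℤ)⟧') = f :=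
  (shiftHom (k := k) A B).symm_apply_apply f

theorem exists_d (A : T) : ∃ d : (S.obj A)⟦(1 : ℤ)⟧ ⟶ S.obj (A⟦(1 : ℤ)⟧),
    ∀ w : A ⟶ S.obj A,
      c (A⟦(1 : ℤ)⟧) ((S.obj A)⟦(1 : ℤ)⟧) (w⟦(1 : ℤ)⟧') d = - c A (S.obj A) w (𝟙 _) := by
  obtain ⟨d, hd⟩ := ex (c (A⟦(1 : ℤ)⟧) ((S.obj A)⟦(1 : ℤ)⟧))
    (- ((LinearMap.applyₗ (𝟙 (S.obj A))) ∘ₗ (c A (S.obj A)).toLinearMap ∘ₗ
      (shiftHom (k := k) A (S.obj A)).symm.toLinearMap))
  refine ⟨d, fun w => ?_⟩
  rw [hd]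
  simp


section dprops

variable (d : ∀ A : T, (S.obj A)⟦(1 : ℤ)⟧ ⟶ S.obj (A⟦(1 : ℤ)⟧))
  (hd : ∀ (A : T) (w : A ⟶ S.obj A),
    c (A⟦(1 : ℤ)⟧) ((S.obj A)⟦(1 : ℤ)⟧) (w⟦(1 : ℤ)⟧') (d A) = - c A (S.obj A) w (𝟙 _))

include H1 hd in
theorem hd' (A Y : T) (p : A ⟶ Y) (m : Y ⟶ S.obj A) :
    c (A⟦(1 : ℤ)⟧) (Y⟦(1 : ℤ)⟧) (p⟦(1 : ℤ)⟧') (m⟦(1 : ℤ)⟧' ≫ d A) = - c A Y p m := by
  rw [← H1, ← Functor.map_comp, hd, H1, Category.comp_id]

include H1 H2 hd in
theorem d_natural {A' A : T} (a : A' ⟶ A) :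
    (S.map a)⟦(1 : ℤ)⟧' ≫ d A = d A' ≫ S.map (a⟦(1 : ℤ)⟧') := by
  apply sep (c (A⟦(1 : ℤ)⟧) ((S.obj A')⟦(1 : ℤ)⟧))
  intro v
  obtain ⟨w, rfl⟩ := (shiftFunctor T (1 : ℤ)).map_surjective v
  rw [hd' S c H1 d hd, ← H2, ← Functor.map_comp, hd, H2, Category.id_comp]

include H1 hd in
theorem d_isIso (A : T) : IsIso (d A) := by
  apply isIso_of_yoneda_map_bijective
  intro D
  -- reduce to shifted objects
  let D' := (shiftFunctor T (1 : ℤ)).objPreimage D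
  let iD : D'⟦(1 : ℤ)⟧ ≅ D := (shiftFunctor T (1 : ℤ)).objObjPreimageIso D
  have hbij : Function.Bijective
      (Linear.rightComp k (D'⟦(1 : ℤ)⟧) (d A)) := by
    have hinj : Function.Injective (Linear.rightComp k (D'⟦(1 : ℤ)⟧) (d A)) := by
      rw [← LinearMap.ker_eq_bot, LinearMap.ker_eq_bot']
      intro m hm
      obtain ⟨m', rfl⟩ := (shiftFunctor T (1 : ℤ)).map_surjective m
      have hm0 : m' = 0 := by
        apply sep (c A D')
        intro p'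
        have h1 := hd' S c H1 d hd A D' p' m'
        rw [Linear.rightComp_apply] at hm
        rw [hm, map_zero] at h1
        rw [map_zero]
        exact (neg_eq_zero.mp h1.symm)
      rw [hm0, Functor.map_zero]
    have hdim : Module.finrank k (D'⟦(1 : ℤ)⟧ ⟶ (S.obj A)⟦(1 : ℤ)⟧) =
        Module.finrank k (D'⟦(1 : ℤ)⟧ ⟶ S.obj (A⟦(1 : ℤ)⟧)) := by
      rw [← (shiftHom (k := k) D' (S.obj A)).finrank_eq, ← Subspace.dual_finrank_eq,
        ← (c A D').finrank_eq, (shiftHom (k := k) A D').finrank_eq,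
        (c (A⟦(1 : ℤ)⟧) (D'⟦(1 : ℤ)⟧)).finrank_eq, Subspace.dual_finrank_eq]
    exact ⟨hinj, (LinearMap.injective_iff_surjective_of_finrank_eq_finrank hdim).mp hinj⟩
  constructor
  · intro x y hxy
    have : iD.hom ≫ x = iD.hom ≫ y := hbij.1 (by
      simp only [Linear.rightComp_apply, Category.assoc]
      exact congrArg (iD.hom ≫ ·) hxy)
    exact (cancel_epi iD.hom).mp this
  · intro z
    obtain ⟨x', hx'⟩ := hbij.2 (iD.hom ≫ z)
    refine ⟨iD.inv ≫ x', ?_⟩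
    rw [Linear.rightComp_apply] at hx'
    simp only [Category.assoc]
    rw [hx', Iso.inv_hom_id_assoc]


set_option backward.isDefEq.respectTransparency false in
set_option backward.defeqAttrib.useBackward true in
include H1 H2 hd in
theorem distinguished_of_d {A B C : T} (f : A ⟶ B) (g : B ⟶ C) (h : C ⟶ A⟦(1 : ℤ)⟧)
    (hT : Triangle.mk f g h ∈ distTriang T) :
    haveI := d_isIso S c H1 d hd A
    Triangle.mk (S.map f) (S.map g) (S.map h ≫ inv (d A)) ∈ distTriang T := by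
  haveI := d_isIso S c H1 d hd A
  haveI := d_isIso S c H1 d hd B
  obtain ⟨C', g', h', hΔ⟩ := distinguished_cocone_triangle (S.map f)
  -- the linear algebra
  let Ψ : ((C ⟶ S.obj B) × (A⟦(1 : ℤ)⟧ ⟶ C')) →ₗ[k] (C ⟶ C') :=
    (Linear.rightComp k C g').coprod (Linear.leftComp k C' h)
  let L : ((C ⟶ S.obj B) × (A⟦(1 : ℤ)⟧ ⟶ C')) →ₗ[k] k :=
    ((LinearMap.applyₗ (𝟙 (S.obj B))) ∘ₗ (c B (S.obj B)).toLinearMap ∘ₗ
        Linear.leftComp k (S.obj B) g).coprod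
      ((LinearMap.applyₗ (d A)) ∘ₗ (c (A⟦(1 : ℤ)⟧) ((S.obj A)⟦(1 : ℤ)⟧)).toLinearMap ∘ₗ
        Linear.rightComp k (A⟦(1 : ℤ)⟧) h')
  have hΨ : ∀ n p, Ψ (n, p) = n ≫ g' + h ≫ p := fun n p => rfl
  have hL : ∀ n p, L (n, p) = c B (S.obj B) (g ≫ n) (𝟙 _) +
      c (A⟦(1 : ℤ)⟧) ((S.obj A)⟦(1 : ℤ)⟧) (p ≫ h') (d A) := fun n p => rfl
  have hker : ∀ x, Ψ x = 0 → L x = 0 := by
    rintro ⟨n, p⟩ hx
    rw [hΨ] at hx
    rw [hL]
    have hT₁ := rot_of_distTriang _ (rot_of_distTriang _ hT)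
    have hT₂ := rot_of_distTriang _ hΔ
    obtain ⟨q, hq₁, hq₂⟩ := complete_distinguished_triangle_morphism _ _ hT₁ hT₂ n (-p) (by
      dsimp
      rw [Preadditive.comp_neg]
      exact (eq_neg_of_add_eq_zero_left hx).symm)
    dsimp at q hq₁ hq₂
    obtain ⟨r, rfl⟩ := (shiftFunctor T (1 : ℤ)).map_surjective q
    have e1 : p ≫ h' = (f ≫ r)⟦(1 : ℤ)⟧' := by
      rw [Functor.map_comp]
      simpa using hq₁.symm
    have e2 : g ≫ n = r ≫ S.map f := by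
      apply (shiftFunctor T (1 : ℤ)).map_injective
      rw [Functor.map_comp, Functor.map_comp]
      simpa using hq₂
    rw [e1, e2, hd, H1, Category.comp_id, H2, Category.id_comp, add_neg_cancel]
  obtain ⟨Ξ, hΞ⟩ := factor Ψ L hker
  obtain ⟨ξ, hξ⟩ := ex (c C C') Ξ
  have hi : g' ≫ ξ = S.map g := by
    apply sep (c C (S.obj B))
    intro n
    rw [← H1, hξ]
    have := hΞ (n, 0)
    rw [hΨ, hL] at this
    simp only [comp_zero, add_zero, zero_comp, map_zero, LinearMap.zero_apply] at this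
    rw [this, ← Category.id_comp (S.map g), ← H2]
  have hii : ξ ≫ S.map h = h' ≫ d A := by
    apply sep (c (A⟦(1 : ℤ)⟧) C')
    intro p
    rw [← H2, hξ]
    have := hΞ (0, p)
    rw [hΨ, hL] at this
    simp only [comp_zero, zero_add, zero_comp, map_zero, LinearMap.zero_apply] at this
    rw [this, H1]
  have hii' : ξ ≫ S.map h ≫ inv (d A) = h' := by
    rw [← Category.assoc, hii, Category.assoc, IsIso.hom_inv_id, Category.comp_id]
  have hξiso : IsIso ξ := by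
    apply isIso_of_yoneda_map_bijective
    intro D
    constructor
    · intro m₁ m₂ hm
      dsimp at hm
      rw [← sub_eq_zero]
      have hm0 : (m₁ - m₂) ≫ ξ = 0 := by rw [Preadditive.sub_comp, hm, sub_self]
      have h1 : (m₁ - m₂) ≫ h' = 0 := by
        rw [← hii', ← Category.assoc, hm0, zero_comp]
      obtain ⟨n, hn⟩ := Triangle.coyoneda_exact₃ _ hΔ (m₁ - m₂) h1
      dsimp at n hn
      have h2 : n ≫ S.map g = 0 := by
        rw [← hi, ← Category.assoc, ← hn, hm0]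
      obtain ⟨n₀, hn₀⟩ := exact_mid S c H2 f g h hT n h2
      rw [hn, hn₀, Category.assoc]
      have := comp_distTriang_mor_zero₁₂ _ hΔ
      dsimp at this
      rw [this, comp_zero]
    · intro s
      dsimp
      have hnat : inv (d A) ≫ (S.map f)⟦(1 : ℤ)⟧' = S.map (f⟦(1 : ℤ)⟧') ≫ inv (d B) := by
        rw [IsIso.eq_comp_inv, Category.assoc, d_natural S c H1 H2 d hd f,
          IsIso.inv_hom_id_assoc]
      have h0 : (s ≫ S.map h ≫ inv (d A)) ≫ (S.map f)⟦(1 : ℤ)⟧' = 0 := by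
        rw [Category.assoc, Category.assoc, hnat, ← S.map_comp_assoc]
        have := comp_distTriang_mor_zero₃₁ _ hT
        dsimp at this
        rw [this, S_map_zero S c H2, zero_comp, comp_zero]
      obtain ⟨m₁, hm₁⟩ := Triangle.coyoneda_exact₁ _ hΔ (s ≫ S.map h ≫ inv (d A)) h0
      dsimp at m₁ hm₁
      have h1 : (s - m₁ ≫ ξ) ≫ S.map h = 0 := by
        rw [Preadditive.sub_comp, Category.assoc, hii, ← Category.assoc, ← hm₁]
        simp
      obtain ⟨n, hn⟩ := exact_mid S c H2 g h (-f⟦(1 : ℤ)⟧') (rot_of_distTriang _ hT)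
        (s - m₁ ≫ ξ) h1
      refine ⟨m₁ + n ≫ g', ?_⟩
      rw [Preadditive.add_comp, Category.assoc, hi, ← hn]
      abel
  refine isomorphic_distinguished _ hΔ _ ?_
  refine Triangle.isoMk _ _ (Iso.refl _) (Iso.refl _) (asIso ξ).symm ?_ ?_ ?_
  · simp
  · dsimp
    rw [Category.id_comp, IsIso.comp_inv_eq, hi]
  · dsimp
    rw [CategoryTheory.Functor.map_id, Category.comp_id, IsIso.eq_inv_comp, hii']

end dprops

include H1 H2 in
/-- A functor with a Serre duality pairing is exact. -/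
theorem exists_shiftIso_distinguished :
    ∃ e : shiftFunctor T (1 : ℤ) ⋙ S ≅ S ⋙ shiftFunctor T (1 : ℤ),
      ∀ T' ∈ distTriang T,
        Triangle.mk (S.map T'.mor₁) (S.map T'.mor₂)
          (S.map T'.mor₃ ≫ e.hom.app T'.obj₁) ∈ distTriang T := by
  choose d hd using exists_d S c
  haveI : ∀ A, IsIso (d A) := d_isIso S c H1 d hd
  let e' : S ⋙ shiftFunctor T (1 : ℤ) ≅ shiftFunctor T (1 : ℤ) ⋙ S :=
    NatIso.ofComponents (fun A => asIso (d A)) (fun a => d_natural S c H1 H2 d hd a)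
  refine ⟨e'.symm, ?_⟩
  intro T' hT'
  have := distinguished_of_d S c H1 H2 d hd T'.mor₁ T'.mor₂ T'.mor₃ hT'
  convert this using 2
  simp [e']

end Groth.Agent.Lib.Helper34.Serre
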