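import Mathlib

/-!
# Extending natural families of maps `F X ⟶ F' X` along presentations (abstract part)

`C`, `D` pretriangulated, `F F' : C ⥤ D` triangulated.  A *presentation* of `X` over a class `P`
is a distinguished triangle `S ⟶ X ⟶ Y ⟶ S⟦1⟧` with `Y, S⟦1⟧ ∈ P` and `Hom(F X, F' S) = 0`.
If every object of `P' ⊇ P` has enough presentations over `P`, a natural family on `P`
extends uniquely to `P'`.
-/

set_option autoImplicit false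
universe v₁ v₂ u₁ u₂
open CategoryTheory CategoryTheory.Limits CategoryTheory.Pretriangulated

namespace Groth.Agent.Lib.Helper34.SibAbs

variable {C : Type u₁} {D : Type u₂} [Category.{v₁} C] [Category.{v₂} D]
  [Preadditive C] [HasZeroObject C] [HasShift C ℤ] [∀ n : ℤ, (shiftFunctor C n).Additive]
  [Pretriangulated C]
  [Preadditive D] [HasZeroObject D] [HasShift D ℤ] [∀ n : ℤ, (shiftFunctor D n).Additive]
  [Pretriangulated D]
  (F F' : C ⥤ D) [F.CommShift ℤ] [F.IsTriangulated] [F'.CommShift ℤ] [F'.IsTriangulated]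

set_option backward.defeqAttrib.useBackward true in
set_option backward.isDefEq.respectTransparency false in
/-- Lemma K: naturality from compatible presentations. -/
lemma nat_of_presentations {T₁ T₂ : Triangle C} (hT₂ : T₂ ∈ distTriang C)
    (f : T₁.obj₂ ⟶ T₂.obj₂) (y : T₁.obj₃ ⟶ T₂.obj₃) (hy : T₁.mor₂ ≫ y = f ≫ T₂.mor₂)
    (cY₁ : F.obj T₁.obj₃ ⟶ F'.obj T₁.obj₃) (cY₂ : F.obj T₂.obj₃ ⟶ F'.obj T₂.obj₃)
    (hnat : F.map y ≫ cY₂ = cY₁ ≫ F'.map y)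
    (c₁ : F.obj T₁.obj₂ ⟶ F'.obj T₁.obj₂) (c₂ : F.obj T₂.obj₂ ⟶ F'.obj T₂.obj₂)
    (h₁ : F.map T₁.mor₂ ≫ cY₁ = c₁ ≫ F'.map T₁.mor₂)
    (h₂ : F.map T₂.mor₂ ≫ cY₂ = c₂ ≫ F'.map T₂.mor₂)
    (hvan : ∀ φ : F.obj T₁.obj₂ ⟶ F'.obj T₂.obj₁, φ = 0) :
    F.map f ≫ c₂ = c₁ ≫ F'.map f := by
  rw [← sub_eq_zero]
  have hd : (F.map f ≫ c₂ - c₁ ≫ F'.map f) ≫ F'.map T₂.mor₂ = 0 := by
    rw [Preadditive.sub_comp, Category.assoc, Category.assoc, ← h₂, ← F'.map_comp, ← hy,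
      F'.map_comp, ← reassoc_of% h₁, ← hnat, ← F.map_comp_assoc, ← hy, F.map_comp_assoc, sub_self]
  have hF'T := F'.map_distinguished _ hT₂
  obtain ⟨d', hd'⟩ := Triangle.coyoneda_exact₂ _ hF'T (F.map f ≫ c₂ - c₁ ≫ F'.map f) hd
  rw [hd', hvan d', zero_comp]

set_option backward.defeqAttrib.useBackward true in
set_option backward.isDefEq.respectTransparency false in
/-- Lemma B: existence of a filler. -/
lemma exists_fill {T : Triangle C} (hT : T ∈ distTriang C)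
    (cY : F.obj T.obj₃ ⟶ F'.obj T.obj₃)
    (cS : F.obj (T.obj₁⟦(1 : ℤ)⟧) ⟶ F'.obj (T.obj₁⟦(1 : ℤ)⟧))
    (hcY : IsIso cY) (hcS : IsIso cS)
    (h : F.map T.mor₃ ≫ cS = cY ≫ F'.map T.mor₃) :
    ∃ c : F.obj T.obj₂ ⟶ F'.obj T.obj₂, IsIso c ∧ F.map T.mor₂ ≫ cY = c ≫ F'.map T.mor₂ := by
  let a' : (F.obj T.obj₁)⟦(1 : ℤ)⟧ ⟶ (F'.obj T.obj₁)⟦(1 : ℤ)⟧ :=
    (F.commShiftIso (1 : ℤ)).inv.app T.obj₁ ≫ cS ≫ (F'.commShiftIso (1 : ℤ)).hom.app T.obj₁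
  have ha' : IsIso a' := by dsimp only [a']; infer_instance
  let a : F.obj T.obj₁ ⟶ F'.obj T.obj₁ := (shiftFunctor D (1 : ℤ)).preimage a'
  have haa : a⟦(1 : ℤ)⟧' = a' := (shiftFunctor D (1 : ℤ)).map_preimage a'
  have ha : IsIso a := by
    have : IsIso ((shiftFunctor D (1 : ℤ)).map a) := by rw [haa]; exact ha'
    exact isIso_of_reflects_iso a (shiftFunctor D (1 : ℤ))
  have hFT := F.map_distinguished _ hT
  have hF'T := F'.map_distinguished _ hT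
  have comm : (F.mapTriangle.obj T).mor₃ ≫ a⟦(1 : ℤ)⟧' = cY ≫ (F'.mapTriangle.obj T).mor₃ := by
    rw [haa]
    change (F.map T.mor₃ ≫ (F.commShiftIso (1 : ℤ)).hom.app T.obj₁) ≫ a' =
      cY ≫ F'.map T.mor₃ ≫ (F'.commShiftIso (1 : ℤ)).hom.app T.obj₁
    dsimp only [a']
    rw [Category.assoc, Iso.hom_inv_id_app_assoc, reassoc_of% h]
  obtain ⟨b, hb₁, hb₂⟩ := complete_distinguished_triangle_morphism₂ _ _ hFT hF'T a cY comm
  let φ : F.mapTriangle.obj T ⟶ F'.mapTriangle.obj T :=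
    { hom₁ := a, hom₂ := b, hom₃ := cY, comm₁ := hb₁, comm₂ := hb₂, comm₃ := comm }
  exact ⟨b, isIso₂_of_isIso₁₃ φ hFT hF'T ha hcY, hb₂⟩

/-- A natural family of isomorphisms `F X ≅ F' X` on a class of objects. -/
structure Fam (P : C → Prop) where
  c : ∀ X, P X → (F.obj X ⟶ F'.obj X)
  iso : ∀ X h, IsIso (c X h)
  nat : ∀ X X' h h' (f : X ⟶ X'), F.map f ≫ c X' h' = c X h ≫ F'.map f

/-- Restriction of a family to a smaller class. -/
def Fam.restrict {P P' : C → Prop} (fam : Fam F F' P') (hPP' : ∀ X, P X → P' X) : Fam F F' P where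
  c X h := fam.c X (hPP' X h)
  iso X h := fam.iso X _
  nat X X' h h' f := fam.nat X X' _ _ f

/-- A presentation of `X` over the class `P`. -/
structure Pres (P : C → Prop) (X : C) where
  S : C
  Y : C
  u : S ⟶ X
  v : X ⟶ Y
  δ : Y ⟶ S⟦(1 : ℤ)⟧
  dist : Triangle.mk u v δ ∈ distTriang C
  hY : P Y
  hS : P (S⟦(1 : ℤ)⟧)
  van : ∀ φ : F.obj X ⟶ F'.obj S, φ = 0

variable {F F'}

lemma Pres.exists_c {P : C → Prop} (fam : Fam F F' P) {X : C} (p : Pres F F' P X) :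
    ∃ c : F.obj X ⟶ F'.obj X, IsIso c ∧ F.map p.v ≫ fam.c p.Y p.hY = c ≫ F'.map p.v :=
  exists_fill F F' p.dist (fam.c p.Y p.hY) (fam.c _ p.hS) (fam.iso _ _) (fam.iso _ _)
    (fam.nat _ _ _ _ p.δ)

/-- Comparison of the maps determined by two presentations related by a morphism. -/
lemma Pres.nat {P : C → Prop} (fam : Fam F F' P) {X X' : C} (p : Pres F F' P X)
    (p' : Pres F F' P X') (f : X ⟶ X') (hf : p.u ≫ f ≫ p'.v = 0)
    (hvan : ∀ φ : F.obj X ⟶ F'.obj p'.S, φ = 0)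
    (c : F.obj X ⟶ F'.obj X) (c' : F.obj X' ⟶ F'.obj X')
    (hc : F.map p.v ≫ fam.c p.Y p.hY = c ≫ F'.map p.v)
    (hc' : F.map p'.v ≫ fam.c p'.Y p'.hY = c' ≫ F'.map p'.v) :
    F.map f ≫ c' = c ≫ F'.map f := by
  obtain ⟨y, hy⟩ := Triangle.yoneda_exact₂ _ p.dist (f ≫ p'.v) hf
  exact nat_of_presentations F F' (T₁ := Triangle.mk p.u p.v p.δ) (T₂ := Triangle.mk p'.u p'.v p'.δ)
    p'.dist f y hy.symm _ _ (fam.nat _ _ _ _ y) c c' hc hc' hvan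

set_option backward.defeqAttrib.useBackward true in
set_option backward.isDefEq.respectTransparency false in
lemma Pres.c_unique {P : C → Prop} (fam : Fam F F' P) {X : C} (p : Pres F F' P X)
    (c c' : F.obj X ⟶ F'.obj X)
    (hc : F.map p.v ≫ fam.c p.Y p.hY = c ≫ F'.map p.v)
    (hc' : F.map p.v ≫ fam.c p.Y p.hY = c' ≫ F'.map p.v) : c = c' := by
  have h1 : p.v ≫ 𝟙 p.Y = 𝟙 X ≫ p.v := by rw [Category.comp_id, Category.id_comp]
  have h2 : F.map (𝟙 p.Y) ≫ fam.c p.Y p.hY = fam.c p.Y p.hY ≫ F'.map (𝟙 p.Y) := by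
    rw [F.map_id, F'.map_id, Category.comp_id, Category.id_comp]
  have this : F.map (𝟙 X) ≫ c = c' ≫ F'.map (𝟙 X) :=
    nat_of_presentations F F' (T₁ := Triangle.mk p.u p.v p.δ)
      (T₂ := Triangle.mk p.u p.v p.δ) p.dist (𝟙 X) (𝟙 p.Y) h1 _ _ h2 c' c hc' hc p.van
  rw [F.map_id, F'.map_id, Category.comp_id, Category.id_comp] at this
  exact this

variable (F F') in
/-- Enough presentations of objects of `P'` over `P`. -/
def EnoughPres (P P' : C → Prop) : Prop :=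
  ∀ (X : C) (_ : P' X) (X₁ X₂ : C) (_ : P X₁) (_ : P X₂) (f₁ : X ⟶ X₁) (f₂ : X ⟶ X₂)
    (W : C) (_ : P' W),
    ∃ p : Pres F F' P X, p.u ≫ f₁ = 0 ∧ p.u ≫ f₂ = 0 ∧ ∀ φ : F.obj W ⟶ F'.obj p.S, φ = 0

set_option backward.defeqAttrib.useBackward true in
set_option backward.isDefEq.respectTransparency false in
theorem Fam.exists_extend {P P' : C → Prop} (hPP' : ∀ X, P X → P' X) (fam : Fam F F' P)
    (Z₀ : C) (hZ₀ : P Z₀) (hpres : EnoughPres F F' P P') :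
    ∃ fam' : Fam F F' P', (∀ X (h : P X) (h' : P' X), fam'.c X h' = fam.c X h) ∧
      (∀ X (h' : P' X) (p : Pres F F' P X),
        F.map p.v ≫ fam.c p.Y p.hY = fam'.c X h' ≫ F'.map p.v) := by
  have key : ∀ X (_ : P' X) (p p' : Pres F F' P X) (c c' : F.obj X ⟶ F'.obj X),
      F.map p.v ≫ fam.c p.Y p.hY = c ≫ F'.map p.v →
      F.map p'.v ≫ fam.c p'.Y p'.hY = c' ≫ F'.map p'.v → c = c' := by
    intro X hX p p' c c' hc hc'
    obtain ⟨p'', h1, h2, _⟩ := hpres X hX p.Y p'.Y p.hY p'.hY p.v p'.v X hX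
    obtain ⟨c'', _, hc''⟩ := p''.exists_c fam
    have e1 : F.map (𝟙 X) ≫ c = c'' ≫ F'.map (𝟙 X) :=
      Pres.nat fam p'' p (𝟙 X) (by rw [Category.id_comp, h1]) p.van c'' c hc'' hc
    have e2 : F.map (𝟙 X) ≫ c' = c'' ≫ F'.map (𝟙 X) :=
      Pres.nat fam p'' p' (𝟙 X) (by rw [Category.id_comp, h2]) p'.van c'' c' hc'' hc'
    rw [F.map_id, F'.map_id, Category.comp_id, Category.id_comp] at e1 e2
    rw [e1, e2]
  let p₀ : ∀ X (hX : P' X), Pres F F' P X := fun X hX =>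
    (hpres X hX Z₀ Z₀ hZ₀ hZ₀ 0 0 X hX).choose
  let c₀ : ∀ X (hX : P' X), F.obj X ⟶ F'.obj X := fun X hX => ((p₀ X hX).exists_c fam).choose
  have hc₀ : ∀ X (hX : P' X), IsIso (c₀ X hX) ∧
      F.map (p₀ X hX).v ≫ fam.c (p₀ X hX).Y (p₀ X hX).hY = c₀ X hX ≫ F'.map (p₀ X hX).v :=
    fun X hX => ((p₀ X hX).exists_c fam).choose_spec
  have star : ∀ X (hX : P' X) (p : Pres F F' P X),
      F.map p.v ≫ fam.c p.Y p.hY = c₀ X hX ≫ F'.map p.v := by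
    intro X hX p
    obtain ⟨c₁, _, hc₁⟩ := p.exists_c fam
    have := key X hX (p₀ X hX) p (c₀ X hX) c₁ (hc₀ X hX).2 hc₁
    rw [this]; exact hc₁
  refine ⟨{ c := c₀, iso := fun X hX => (hc₀ X hX).1, nat := ?_ }, ?_, star⟩
  · intro X X' h h' f
    obtain ⟨p₂, -, -, hvan⟩ := hpres X' h' Z₀ Z₀ hZ₀ hZ₀ 0 0 X h
    obtain ⟨p₁, hp₁, -, -⟩ := hpres X h p₂.Y Z₀ p₂.hY hZ₀ (f ≫ p₂.v) 0 X h
    exact Pres.nat fam p₁ p₂ f hp₁ hvan _ _ (star X h p₁) (star X' h' p₂)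
  · intro X h h'
    exact Pres.c_unique fam (p₀ X h') _ _ (hc₀ X h').2 (fam.nat _ _ _ _ _)

theorem Fam.ext_of_pres {P P' : C → Prop} (hPP' : ∀ X, P X → P' X) (fam₁ fam₂ : Fam F F' P')
    (hpres : ∀ X, P' X → Nonempty (Pres F F' P X))
    (h : ∀ X (hX : P X), fam₁.c X (hPP' X hX) = fam₂.c X (hPP' X hX)) :
    ∀ X hX, fam₁.c X hX = fam₂.c X hX := by
  intro X hX
  obtain ⟨p⟩ := hpres X hX
  refine Pres.c_unique (fam₁.restrict F F' hPP') p _ _ ?_ ?_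
  · exact fam₁.nat _ _ _ _ _
  · change F.map p.v ≫ fam₁.c p.Y _ = _
    rw [h p.Y p.hY]
    exact fam₂.nat _ _ _ _ _

end Groth.Agent.Lib.Helper34.SibAbs
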