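import Groth.Agent.Lib.Helper34.SibStalk

/-!
# Siblings of a fully faithful functor on `D^b(A)` are isomorphic when `A` has enough
negative objects
-/

set_option autoImplicit false
set_option linter.unusedSectionVars false
universe w v u v' u'
open CategoryTheory CategoryTheory.Limits CategoryTheory.Pretriangulated ZeroObject

namespace Groth.Agent.Lib.Helper34.SibMain

open Groth.Agent.Lib.Helper34.Sibling Groth.Agent.Lib.Helper34.SibAbs
  Groth.Agent.Lib.Helper34.TriFF

variable {A : Type u} [Category.{v} A] [Abelian A] [HasDerivedCategory.{w} A]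
  {D : Type u'} [Category.{v'} D] [Preadditive D] [HasZeroObject D] [HasShift D ℤ]
  [∀ n : ℤ, (shiftFunctor D n).Additive] [Pretriangulated D]
  (F F' : DerivedCategory.Bounded A ⥤ D) [F.CommShift ℤ] [F.IsTriangulated]
  [F'.CommShift ℤ] [F'.IsTriangulated]

/-- Vanishing of `Hom(F X, F' S)` from vanishing of `Hom(X, S)`. -/
lemma van_of_hom_eq_zero (s : DEquiv.singleB A ⋙ F ≅ DEquiv.singleB A ⋙ F')
    (h2 : ∀ K : DerivedCategory.Bounded A, Nonempty (F.obj K ≅ F'.obj K)) [F.Full] [F.Faithful]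
    (X S : DerivedCategory.Bounded A) (h : ∀ g : X ⟶ S, g = 0) (φ : F.obj X ⟶ F'.obj S) :
    φ = 0 := by
  obtain ⟨e⟩ := h2 X
  obtain ⟨g, hg⟩ := (bij_all F F' s h2 X S).2 (e.inv ≫ φ)
  change F'.map g = _ at hg
  rw [h g, F'.map_zero] at hg
  rw [← cancel_epi e.inv, ← hg, comp_zero]

omit [F.CommShift ℤ] [F.IsTriangulated] [F'.CommShift ℤ] [F'.IsTriangulated] in
lemma eq_zero_of_isZero_obj [F.PreservesZeroMorphisms] (X : DerivedCategory.Bounded A)
    (hz : IsZero X.obj) (c : F.obj X ⟶ F'.obj X) : c = 0 := by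
  have h1 : 𝟙 X = 0 := by
    apply DerivedCategory.Bounded.ι.map_injective
    exact hz.eq_of_src _ _
  have : c = F.map (𝟙 X) ≫ c := by rw [F.map_id, Category.id_comp]
  rw [this, h1, F.map_zero, zero_comp]

lemma hom_eq_zero_of_inD (X Y : DerivedCategory.Bounded A) (a b : ℤ) (hab : a < b)
    (hY : Y.obj.IsLE a) (hX : X.obj.IsGE b) (g : Y ⟶ X) : g = 0 := by
  apply DerivedCategory.Bounded.ι.map_injective
  rw [Functor.map_zero]
  have h1 : DerivedCategory.TStructure.t.IsLE (DerivedCategory.Bounded.ι.obj Y) a := hY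
  have h2 : DerivedCategory.TStructure.t.IsGE (DerivedCategory.Bounded.ι.obj X) b := hX
  exact DerivedCategory.TStructure.t.zero _ a b hab

set_option backward.defeqAttrib.useBackward true in
set_option backward.isDefEq.respectTransparency false in
/-- The stalk families are compatible with `Ext¹` classes. -/
lemma cst_ext1 (s : DEquiv.singleB A ⋙ F ≅ DEquiv.singleB A ⋙ F')
    (h2 : ∀ K : DerivedCategory.Bounded A, Nonempty (F.obj K ≅ F'.obj K)) [F.Full] [F.Faithful]
    (a b : ℤ) (hab : b = a + 1) (X Y : DerivedCategory.Bounded A) (hX : InD b b X)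
    (hY : InD a a Y) (v : X ⟶ Y) :
    F.map v ≫ cst F F' s a Y hY = cst F F' s b X hX ≫ F'.map v := by
  obtain ⟨E, i, p, hT⟩ := distinguished_cocone_triangle v
  have hrot := rot_of_distTriang _ hT
  have hX1 : InD a a (X⟦(1 : ℤ)⟧) := hX.shift 1 a a (by omega) (by omega)
  have hrot' : DerivedCategory.Bounded.ι.mapTriangle.obj (Triangle.mk v i p).rotate ∈
    distTriang (DerivedCategory A) := hrot
  have hE : InD a a E := by
    have h1 : DerivedCategory.TStructure.t.IsGE
      (DerivedCategory.Bounded.ι.mapTriangle.obj (Triangle.mk v i p).rotate).obj₁ a := hY.1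
    have h3 : DerivedCategory.TStructure.t.IsGE
      (DerivedCategory.Bounded.ι.mapTriangle.obj (Triangle.mk v i p).rotate).obj₃ a := hX1.1
    have h1' : DerivedCategory.TStructure.t.IsLE
      (DerivedCategory.Bounded.ι.mapTriangle.obj (Triangle.mk v i p).rotate).obj₁ a := hY.2
    have h3' : DerivedCategory.TStructure.t.IsLE
      (DerivedCategory.Bounded.ι.mapTriangle.obj (Triangle.mk v i p).rotate).obj₃ a := hX1.2
    exact ⟨DerivedCategory.TStructure.t.isGE₂ _ hrot' a h1 h3,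
      DerivedCategory.TStructure.t.isLE₂ _ hrot' a h1' h3'⟩
  have hFT := F.map_distinguished _ hrot
  have hF'T := F'.map_distinguished _ hrot
  have comm : (F.mapTriangle.obj (Triangle.mk v i p).rotate).mor₁ ≫ cst F F' s a E hE =
      cst F F' s a Y hY ≫ (F'.mapTriangle.obj (Triangle.mk v i p).rotate).mor₁ :=
    cst_nat F F' s a Y E hY hE i
  obtain ⟨γ, hγ₁, hγ₂⟩ := complete_distinguished_triangle_morphism _ _ hFT hF'T
    (cst F F' s a Y hY) (cst F F' s a E hE) comm
  let γ' : F.obj (X⟦(1 : ℤ)⟧) ⟶ F'.obj (X⟦(1 : ℤ)⟧) := γ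
  have hγ : γ = cst F F' s a (X⟦(1 : ℤ)⟧) hX1 := by
    change γ' = _
    rw [← sub_eq_zero]
    have hd : (F.mapTriangle.obj (Triangle.mk v i p).rotate).mor₂ ≫
        (γ' - cst F F' s a (X⟦(1 : ℤ)⟧) hX1) = 0 := by
      rw [Preadditive.comp_sub, sub_eq_zero]
      exact hγ₁.trans (cst_nat F F' s a E (X⟦(1 : ℤ)⟧) hE hX1 p).symm
    obtain ⟨θ, hθ⟩ := Triangle.yoneda_exact₃ _ hFT _ hd
    have hθ0 : θ = 0 := by
      have := van_of_hom_eq_zero F F' s h2 (Y⟦(1 : ℤ)⟧) (X⟦(1 : ℤ)⟧) (fun g => by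
        obtain ⟨g₀, rfl⟩ := (shiftFunctor (DerivedCategory.Bounded A) (1 : ℤ)).map_surjective g
        rw [hom_eq_zero_of_inD X Y a b (by omega) hY.2 hX.1 g₀, Functor.map_zero])
        ((F.commShiftIso (1 : ℤ)).hom.app Y ≫ θ)
      rw [← cancel_epi ((F.commShiftIso (1 : ℤ)).hom.app Y), this, comp_zero]
    rw [hθ, hθ0, comp_zero]
  rw [hγ, cst_shift' F F' s b a (by omega) X hX hX1] at hγ₂
  apply shiftConj_nat_iff F F' _ _ v 1
  have e : (F.map ((shiftFunctor (DerivedCategory.Bounded A) (1 : ℤ)).map v) ≫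
      (F.commShiftIso (1 : ℤ)).hom.app Y) ≫ (shiftFunctor D (1 : ℤ)).map (cst F F' s a Y hY) =
      shiftConj F F' (cst F F' s b X hX) 1 ≫
        F'.map ((shiftFunctor (DerivedCategory.Bounded A) (1 : ℤ)).map v) ≫
        (F'.commShiftIso (1 : ℤ)).hom.app Y := by
    have := hγ₂
    dsimp at this
    simp only [Functor.map_neg, Preadditive.neg_comp, Preadditive.comp_neg, neg_inj] at this
    simpa using this
  dsimp only [shiftConj] at e ⊢
  rw [← cancel_mono ((F'.commShiftIso (1 : ℤ)).hom.app Y)]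
  simp only [Category.assoc, Iso.inv_hom_id_app, Category.comp_id] at e ⊢
  simpa using e

section Main

variable (hneg : ∀ X : A, ∃ (N : A) (p : N ⟶ X), Epi p ∧ ∀ f : X ⟶ N, f = 0)
  (s : DEquiv.singleB A ⋙ F ≅ DEquiv.singleB A ⋙ F')
  (h2 : ∀ K : DerivedCategory.Bounded A, Nonempty (F.obj K ≅ F'.obj K)) [F.Full] [F.Faithful]

include hneg s h2 in
/-- Enough presentations of `D^{[a,b+1]}` over `D^{[a,b]}`, with extra information. -/
lemma exists_pres (a b b' : ℤ) (hb : b' = b + 1) (hab : a ≤ b)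
    (X : DerivedCategory.Bounded A) (hX : InD a b' X)
    (X₁ X₂ : DerivedCategory.Bounded A) (h₁ : InD a b X₁) (h₂ : InD a b X₂)
    (f₁ : X ⟶ X₁) (f₂ : X ⟶ X₂) (W : DerivedCategory.Bounded A) (hW : InD a b' W) :
    ∃ p : Pres F F' (InD a b) X, p.u ≫ f₁ = 0 ∧ p.u ≫ f₂ = 0 ∧
      (∀ φ : F.obj W ⟶ F'.obj p.S, φ = 0) ∧
      (∀ a', a' ≤ b → X.obj.IsGE a' → p.Y.obj.IsGE a') := by
  obtain ⟨S, Y, u, v, δ, hT, hSGE, hSLE, hYLE, hYGE, hvX, hvW, hu₁, hu₂⟩ :=
    exists_presentation hneg X b' b hb.symm hX.2 X₁ X₂ h₁.2 h₂.2 f₁ f₂ W hW.2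
  have hS1 : InD a b (S⟦(1 : ℤ)⟧) :=
    (InD.shift (a := b') (b := b') ⟨hSGE, hSLE⟩ 1 b b (by omega) (by omega)).mono hab le_rfl
  exact ⟨{ S := S, Y := Y, u := u, v := v, δ := δ, dist := hT,
           hY := ⟨hYGE a hab hX.1, hYLE⟩, hS := hS1,
           van := van_of_hom_eq_zero F F' s h2 X S hvX }, hu₁, hu₂,
    van_of_hom_eq_zero F F' s h2 W S hvW, hYGE⟩

include hneg s h2 in
lemma enoughPres (a b b' : ℤ) (hb : b' = b + 1) (hab : a ≤ b) :
    EnoughPres F F' (InD (A := A) a b) (InD a b') := by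
  intro X hX X₁ X₂ h₁ h₂ f₁ f₂ W hW
  obtain ⟨p, h1, h2', h3, -⟩ := exists_pres F F' hneg s h2 a b b' hb hab X hX X₁ X₂ h₁ h₂ f₁ f₂ W hW
  exact ⟨p, h1, h2', h3⟩

/-- A family is standard if it restricts to the stalk families. -/
def Std (a b : ℤ) (fam : Fam F F' (InD (A := A) a b)) : Prop :=
  ∀ (a' : ℤ) (X : DerivedCategory.Bounded A) (h : InD a' a' X) (h' : InD a b X),
    fam.c X h' = cst F F' s a' X h

lemma inD_stalk (Z : A) (a : ℤ) : InD a a (((DEquiv.singleB A).obj Z)⟦-a⟧) := by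
  have h0 : InD 0 0 ((DEquiv.singleB A).obj Z) :=
    ⟨inferInstanceAs (((DerivedCategory.singleFunctor A 0).obj Z).IsGE 0),
      inferInstanceAs (((DerivedCategory.singleFunctor A 0).obj Z).IsLE 0)⟩
  exact h0.shift (-a) a a (by omega) (by omega)

/-- The base family on `D^{[a,a]}`. -/
noncomputable def baseFam (a : ℤ) : Fam F F' (InD (A := A) a a) where
  c X h := cst F F' s a X h
  iso X h := cst_isIso F F' s a X h
  nat X X' h h' f := cst_nat F F' s a X X' h h' f

lemma baseFam_std (a : ℤ) : Std F F' s a a (baseFam F F' s a) := by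
  intro a' X h h'
  by_cases haa : a' = a
  · subst haa; rfl
  · have hz : IsZero X.obj := by
      have := h.1
      have := h.2
      have := h'.1
      have := h'.2
      rcases lt_or_gt_of_ne haa with hlt | hgt
      · exact DerivedCategory.TStructure.t.isZero X.obj a' a hlt
      · exact DerivedCategory.TStructure.t.isZero X.obj a a' hgt
    rw [eq_zero_of_isZero_obj F F' X hz ((baseFam F F' s a).c X h'),
      eq_zero_of_isZero_obj F F' X hz (cst F F' s a' X h)]

include hneg h2 in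
theorem exists_std (a : ℤ) (n : ℕ) :
    ∃ fam : Fam F F' (InD (A := A) a (a + n)), Std F F' s a (a + n) fam := by
  induction n with
  | zero =>
    have e : a + ((0 : ℕ) : ℤ) = a := by simp
    rw [e]
    exact ⟨baseFam F F' s a, baseFam_std F F' s a⟩
  | succ n ih =>
    obtain ⟨fam, hfam⟩ := ih
    have hb : a + ((n + 1 : ℕ) : ℤ) = a + (n : ℤ) + 1 := by push_cast; ring
    have hab : a ≤ a + (n : ℤ) := by omega
    have hPP' : ∀ X : DerivedCategory.Bounded A, InD a (a + (n : ℤ)) X →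
        InD a (a + ((n + 1 : ℕ) : ℤ)) X := fun X h => h.mono le_rfl (by omega)
    obtain ⟨fam', hext, hstar⟩ := Fam.exists_extend hPP' fam
      (((DEquiv.singleB A).obj (0 : A))⟦-a⟧) ((inD_stalk (0 : A) a).mono le_rfl hab)
      (enoughPres F F' hneg s h2 a (a + n) _ hb hab)
    refine ⟨fam', ?_⟩
    intro a' X h h'
    by_cases hle : a' ≤ a + (n : ℤ)
    · have hX : InD a (a + (n : ℤ)) X := ⟨h'.1, (h.mono le_rfl hle).2⟩
      rw [hext X hX h']
      exact hfam a' X h hX
    · by_cases htop : a' = a + (n : ℤ) + 1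
      · -- new top stalks
        obtain ⟨p, -, -, -, hYGE⟩ := exists_pres F F' hneg s h2 a (a + n) _ hb hab X h'
          _ _ ((inD_stalk (0 : A) a).mono le_rfl hab) ((inD_stalk (0 : A) a).mono le_rfl hab)
          0 0 X h'
        have hY : InD (a + (n : ℤ)) (a + (n : ℤ)) p.Y := by
          have := h.1
          exact ⟨hYGE _ le_rfl (DerivedCategory.TStructure.t.isGE_of_ge X.obj _ a' (by omega)),
            p.hY.2⟩
        have e1 := hstar X h' p
        rw [hfam _ p.Y hY p.hY] at e1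
        have e2 := cst_ext1 F F' s h2 (a + n) a' htop X p.Y h hY p.v
        exact Pres.c_unique fam p _ _ (by rw [hfam _ p.Y hY p.hY]; exact e1)
          (by rw [hfam _ p.Y hY p.hY]; exact e2)
      · have hz : IsZero X.obj := by
          have := h.1
          have := h'.2
          exact DerivedCategory.TStructure.t.isZero X.obj (a + ((n + 1 : ℕ) : ℤ)) a'
            (by push_cast; omega)
        rw [eq_zero_of_isZero_obj F F' X hz (fam'.c X h'),
          eq_zero_of_isZero_obj F F' X hz (cst F F' s a' X h)]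

include hneg h2 in
theorem std_unique (a : ℤ) (n : ℕ) (fam₁ fam₂ : Fam F F' (InD (A := A) a (a + n)))
    (h₁ : Std F F' s a (a + n) fam₁) (h₂ : Std F F' s a (a + n) fam₂) :
    ∀ X hX, fam₁.c X hX = fam₂.c X hX := by
  induction n with
  | zero =>
    intro X hX
    have hX' : InD a a X := by simpa using hX
    rw [h₁ a X hX' hX, h₂ a X hX' hX]
  | succ n ih =>
    have hb : a + ((n + 1 : ℕ) : ℤ) = a + (n : ℤ) + 1 := by push_cast; ring
    have hab : a ≤ a + (n : ℤ) := by omega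
    have hPP' : ∀ X : DerivedCategory.Bounded A, InD a (a + (n : ℤ)) X →
        InD a (a + ((n + 1 : ℕ) : ℤ)) X := fun X h => h.mono le_rfl (by omega)
    have key := ih (fam₁.restrict F F' hPP') (fam₂.restrict F F' hPP')
      (fun a' X h h' => h₁ a' X h _) (fun a' X h h' => h₂ a' X h _)
    refine Fam.ext_of_pres hPP' fam₁ fam₂ ?_ key
    intro X hX
    obtain ⟨p, -⟩ := enoughPres F F' hneg s h2 a (a + n) _ hb hab X hX _ _
      ((inD_stalk (0 : A) a).mono le_rfl hab) ((inD_stalk (0 : A) a).mono le_rfl hab) 0 0 X hX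
    exact ⟨p⟩

include hneg h2 in
lemma compat (a : ℤ) (n : ℕ) (a' : ℤ) (n' : ℕ) (h1 : a' ≤ a) (h2' : a + (n : ℤ) ≤ a' + (n' : ℤ))
    (fam : Fam F F' (InD (A := A) a (a + n))) (hfam : Std F F' s a (a + n) fam)
    (fam' : Fam F F' (InD (A := A) a' (a' + n'))) (hfam' : Std F F' s a' (a' + n') fam')
    (X : DerivedCategory.Bounded A) (hX : InD a (a + n) X) (hX' : InD a' (a' + n') X) :
    fam.c X hX = fam'.c X hX' :=
  std_unique F F' hneg s h2 a n fam
    (fam'.restrict F F' (fun X h => h.mono h1 h2'))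
    hfam (fun a'' X h h' => hfam' a'' X h _) X hX

include hneg s h2 in
theorem nonempty_iso : Nonempty (F ≅ F') := by
  choose Φ hΦ using fun (p : ℤ × ℕ) => exists_std F F' hneg s h2 p.1 p.2
  have hb : ∀ X : DerivedCategory.Bounded A, ∃ (a : ℤ) (n : ℕ), InD a (a + n) X := by
    intro X
    obtain ⟨⟨lo, hlo⟩, ⟨hi, hhi⟩⟩ := X.property
    refine ⟨lo, (hi - lo).toNat, ⟨hlo, ?_⟩⟩
    have : DerivedCategory.TStructure.t.IsLE X.obj hi := hhi
    exact DerivedCategory.TStructure.t.isLE_of_le X.obj hi _ (by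
      have := Int.self_le_toNat (hi - lo); omega)
  choose lo nn hlo using hb
  let t : ∀ X : DerivedCategory.Bounded A, F.obj X ⟶ F'.obj X :=
    fun X => (Φ (lo X, nn X)).c X (hlo X)
  have ht : ∀ X, IsIso (t X) := fun X => (Φ (lo X, nn X)).iso X (hlo X)
  have key : ∀ (X : DerivedCategory.Bounded A) (a : ℤ) (n : ℕ) (hX : InD a (a + n) X)
      (h1 : a ≤ lo X) (h2' : lo X + (nn X : ℤ) ≤ a + (n : ℤ)),
      t X = (Φ (a, n)).c X hX := fun X a n hX h1 h2' =>
    compat F F' hneg s h2 (lo X) (nn X) a n h1 h2' _ (hΦ (lo X, nn X)) _ (hΦ (a, n)) X (hlo X) hX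
  refine ⟨NatIso.ofComponents (fun X => @asIso _ _ _ _ (t X) (ht X)) ?_⟩
  intro X X' f
  dsimp only [asIso_hom]
  let a₀ : ℤ := min (lo X) (lo X')
  let top : ℤ := max (lo X + (nn X : ℤ)) (lo X' + (nn X' : ℤ))
  let n₀ : ℕ := (top - a₀).toNat
  have hn₀ : top ≤ a₀ + (n₀ : ℤ) := by
    have := Int.self_le_toNat (top - a₀); omega
  have hX : InD a₀ (a₀ + n₀) X :=
    (hlo X).mono (min_le_left _ _) (le_trans (le_max_left _ _) hn₀)
  have hX' : InD a₀ (a₀ + n₀) X' :=
    (hlo X').mono (min_le_right _ _) (le_trans (le_max_right _ _) hn₀)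
  rw [key X a₀ n₀ hX (min_le_left _ _) (le_trans (le_max_left _ _) hn₀),
    key X' a₀ n₀ hX' (min_le_right _ _) (le_trans (le_max_right _ _) hn₀)]
  exact (Φ (a₀, n₀)).nat X X' hX hX' f

end Main

end Groth.Agent.Lib.Helper34.SibMain
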