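import Groth.Agent.Lib.Helper34.Efface

/-!
# Maps to stalks and negative presentations in the derived category
-/

set_option autoImplicit false
universe w v u
open CategoryTheory CategoryTheory.Limits

namespace Groth.Agent.Lib.Helper34.SibPres

variable {A : Type u} [Category.{v} A] [Abelian A]

/-- A map from a complex strictly `≤ b` to a stalk in degree `b` inducing zero on `H^b` is zero. -/
lemma to_single_eq_zero_of_homologyMap (K : CochainComplex A ℤ) (b : ℤ) [K.IsStrictlyLE b] (N : A)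
    (γ : K ⟶ (HomologicalComplex.single A (ComplexShape.up ℤ) b).obj N)
    (h : HomologicalComplex.homologyMap γ b = 0) : γ = 0 := by
  have hKd : K.d b (b + 1) = 0 := (K.isZero_of_isStrictlyLE b (b + 1) (by omega)).eq_of_tgt _ _
  have h1 : IsIso (K.homologyι b) := K.isIso_homologyι b (b + 1) (by simp) hKd
  have h2 : IsIso (((HomologicalComplex.single A (ComplexShape.up ℤ) b).obj N).pOpcycles b) :=
    HomologicalComplex.isIso_pOpcycles _ (b - 1) b (by simp) (by simp)
  have h3 : HomologicalComplex.opcyclesMap γ b = 0 := by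
    have := HomologicalComplex.homologyι_naturality γ b
    rw [h, zero_comp] at this
    rw [← cancel_epi (K.homologyι b), ← this, comp_zero]
  have h4 := HomologicalComplex.p_opcyclesMap γ b
  rw [h3, comp_zero] at h4
  apply HomologicalComplex.to_single_hom_ext
  rw [← cancel_mono (((HomologicalComplex.single A (ComplexShape.up ℤ) b).obj N).pOpcycles b),
    ← h4, HomologicalComplex.zero_f, zero_comp]

variable [HasDerivedCategory.{w} A]

open DerivedCategory in
lemma hom_to_Q_single_eq_zero (X : DerivedCategory A) (b : ℤ) [X.IsLE b] (N : A)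
    (g : X ⟶ Q.obj ((HomologicalComplex.single A (ComplexShape.up ℤ) b).obj N))
    (h : (homologyFunctor A b).map g = 0) : g = 0 := by
  obtain ⟨K, hK, ⟨e⟩⟩ := X.exists_iso_Q_obj_of_isLE b
  have hg' : (homologyFunctor A b).map (e.inv ≫ g) = 0 := by
    rw [Functor.map_comp, h, comp_zero]
  obtain ⟨K', hK', s, hs, γ, hγ⟩ := right_fac_of_isStrictlyLE (e.inv ≫ g) b
  have h1 : (homologyFunctor A b).map (Q.map γ) = 0 := by
    have : Q.map γ = Q.map s ≫ e.inv ≫ g := by rw [hγ, IsIso.hom_inv_id_assoc]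
    rw [this, Functor.map_comp, hg', comp_zero]
  have h2 : HomologicalComplex.homologyMap γ b = 0 := by
    have nat := homologyFunctorFactors_hom_naturality γ b
    rw [h1, zero_comp] at nat
    have hepi : Epi ((homologyFunctorFactors A b).hom.app K') := inferInstance
    exact (cancel_epi ((homologyFunctorFactors A b).hom.app K')).1 (nat.symm.trans comp_zero.symm)
  have h3 : γ = 0 := to_single_eq_zero_of_homologyMap K' b N γ h2
  have h4 : e.inv ≫ g = 0 := by rw [hγ, h3, Q.map_zero, comp_zero]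
  rw [← cancel_epi e.inv, h4, comp_zero]

open DerivedCategory in
/-- A map from an object `≤ b` to a stalk in degree `b` which is zero on `H^b` is zero. -/
lemma hom_to_single_eq_zero (X : DerivedCategory A) (b : ℤ) [X.IsLE b] (N : A)
    (g : X ⟶ (singleFunctor A b).obj N) (h : (homologyFunctor A b).map g = 0) : g = 0 :=
  hom_to_Q_single_eq_zero X b N g h

open DerivedCategory in
lemma epi_homology_single_map {N N' : A} (p : N ⟶ N') (hp : Epi p) (b : ℤ) :
    Epi ((homologyFunctor A b).map ((singleFunctor A b).map p)) := by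
  let e := singleFunctorCompHomologyFunctorIso A b
  have nat : (homologyFunctor A b).map ((singleFunctor A b).map p) ≫ e.hom.app N' =
      e.hom.app N ≫ p := e.hom.naturality p
  have h1 : Epi (e.hom.app N ≫ p) := epi_comp' inferInstance hp
  have h2 : Epi ((homologyFunctor A b).map ((singleFunctor A b).map p) ≫ e.hom.app N') := by
    rw [nat]; exact h1
  have h3 := epi_comp' h2 (inferInstance : Epi (e.inv.app N'))
  rw [Category.assoc, Iso.hom_inv_id_app] at h3
  erw [Category.comp_id] at h3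
  exact h3

open DerivedCategory in
/-- Negative stalks mapping onto the top cohomology and killing two given maps. -/
theorem exists_neg_stalk (hneg : ∀ X : A, ∃ (N : A) (p : N ⟶ X), Epi p ∧ ∀ f : X ⟶ N, f = 0)
    (X X₁ X₂ : DerivedCategory A) (b : ℤ) [X.IsLE b] [X₁.IsLE (b - 1)] [X₂.IsLE (b - 1)]
    (f₁ : X ⟶ X₁) (f₂ : X ⟶ X₂) (M : A) :
    ∃ (N : A) (g : (singleFunctor A b).obj N ⟶ X),
      Epi ((homologyFunctor A b).map g) ∧ (∀ φ : (homologyFunctor A b).obj X ⟶ N, φ = 0) ∧
      (∀ φ : M ⟶ N, φ = 0) ∧ g ≫ f₁ = 0 ∧ g ≫ f₂ = 0 := by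
  obtain ⟨N₁, g₁, hg₁, h₁⟩ := Efface.exists_singleFunctor_efface X X₁ f₁ b
  obtain ⟨N₂, g₂, hg₂, h₂⟩ :=
    Efface.exists_singleFunctor_efface ((singleFunctor A b).obj N₁) X₂ (g₁ ≫ f₂) b
  obtain ⟨N, p, hp, hN⟩ := hneg (N₂ ⊞ M)
  let e := singleFunctorCompHomologyFunctorIso A b
  have hq : Epi (p ≫ (biprod.fst : N₂ ⊞ M ⟶ N₂)) := epi_comp' hp inferInstance
  have hH := epi_homology_single_map (p ≫ (biprod.fst : N₂ ⊞ M ⟶ N₂)) hq b
  refine ⟨N, (singleFunctor A b).map (p ≫ biprod.fst) ≫ g₂ ≫ g₁, ?_, ?_, ?_, ?_, ?_⟩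
  · rw [(homologyFunctor A b).map_comp, (homologyFunctor A b).map_comp]
    exact epi_comp' hH (epi_comp' hg₂ hg₁)
  · intro φ
    have h0 := hN ((biprod.fst : N₂ ⊞ M ⟶ N₂) ≫ e.inv.app N₂ ≫
      (homologyFunctor A b).map g₂ ≫ (homologyFunctor A b).map g₁ ≫ φ)
    rw [← cancel_epi ((homologyFunctor A b).map g₁), comp_zero,
      ← cancel_epi ((homologyFunctor A b).map g₂), comp_zero,
      ← cancel_epi (e.inv.app N₂), comp_zero,
      ← cancel_epi (biprod.fst : N₂ ⊞ M ⟶ N₂), comp_zero]
    exact h0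
  · intro φ
    have h0 := hN ((biprod.snd : N₂ ⊞ M ⟶ M) ≫ φ)
    rw [← cancel_epi (biprod.snd : N₂ ⊞ M ⟶ M), comp_zero]
    exact h0
  · rw [Category.assoc, Category.assoc, h₁, comp_zero, comp_zero]
  · rw [Category.assoc, Category.assoc, h₂, comp_zero]

end Groth.Agent.Lib.Helper34.SibPres
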