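import Mathlib

/-!
# Dévissage for full faithfulness of triangulated functors

`Bij Φ K L` : `Φ` induces a bijection `(K ⟶ L) → (Φ K ⟶ Φ L)`.
Invariance under isomorphisms and shifts, and the two four-lemma closure statements.
-/

set_option autoImplicit false
universe v₁ v₂ u₁ u₂
open CategoryTheory CategoryTheory.Limits CategoryTheory.Pretriangulated

namespace Groth.Agent.Lib.Helper34.TriFF

variable {C : Type u₁} {D : Type u₂} [Category.{v₁} C] [Category.{v₂} D]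

/-- `Φ` is bijective on `Hom(K, L)`. -/
def Bij (Φ : C ⥤ D) (K L : C) : Prop := Function.Bijective (fun f : K ⟶ L => Φ.map f)

section Iso

variable (Φ : C ⥤ D) {K K' L L' : C}

lemma Bij.of_iso_left (e : K ≅ K') (h : Bij Φ K L) : Bij Φ K' L := by
  constructor
  · intro f g hfg
    have := h.1 (a₁ := e.hom ≫ f) (a₂ := e.hom ≫ g) (by
      change Φ.map (e.hom ≫ f) = Φ.map (e.hom ≫ g)
      rw [Φ.map_comp, Φ.map_comp]; exact congrArg _ hfg)
    exact (cancel_epi e.hom).1 this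
  · intro f'
    obtain ⟨f, hf⟩ := h.2 (Φ.map e.hom ≫ f')
    refine ⟨e.inv ≫ f, ?_⟩
    change Φ.map (e.inv ≫ f) = f'
    change Φ.map f = _ at hf
    rw [Φ.map_comp, hf, ← Φ.map_comp_assoc, e.inv_hom_id, Φ.map_id, Category.id_comp]

lemma Bij.of_iso_right (e : L ≅ L') (h : Bij Φ K L) : Bij Φ K L' := by
  constructor
  · intro f g hfg
    have := h.1 (a₁ := f ≫ e.inv) (a₂ := g ≫ e.inv) (by
      change Φ.map (f ≫ e.inv) = Φ.map (g ≫ e.inv)
      rw [Φ.map_comp, Φ.map_comp]; exact congrArg (· ≫ _) hfg)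
    exact (cancel_mono e.inv).1 this
  · intro f'
    obtain ⟨f, hf⟩ := h.2 (f' ≫ Φ.map e.inv)
    refine ⟨f ≫ e.hom, ?_⟩
    change Φ.map (f ≫ e.hom) = f'
    change Φ.map f = _ at hf
    rw [Φ.map_comp, hf, Category.assoc, ← Φ.map_comp, e.inv_hom_id, Φ.map_id, Category.comp_id]

end Iso

section Shift

variable [HasShift C ℤ] [HasShift D ℤ] (Φ : C ⥤ D) [Φ.CommShift ℤ] {K L : C}

lemma Bij.shift (a : ℤ) (h : Bij Φ K L) : Bij Φ (K⟦a⟧) (L⟦a⟧) := by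
  have key : ∀ f₀ : K ⟶ L, Φ.map (f₀⟦a⟧') =
      (Φ.commShiftIso a).hom.app K ≫ (Φ.map f₀)⟦a⟧' ≫ (Φ.commShiftIso a).inv.app L := by
    intro f₀
    rw [← Φ.commShiftIso_hom_naturality_assoc, Iso.hom_inv_id_app]
    exact (Category.comp_id _).symm
  constructor
  · intro f g hfg
    obtain ⟨f₀, rfl⟩ := (shiftFunctor C a).map_surjective f
    obtain ⟨g₀, rfl⟩ := (shiftFunctor C a).map_surjective g
    change Φ.map (f₀⟦a⟧') = Φ.map (g₀⟦a⟧') at hfg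
    rw [key, key, cancel_epi, cancel_mono] at hfg
    have := (shiftFunctor D a).map_injective hfg
    rw [h.1 this]
  · intro f'
    obtain ⟨g', hg'⟩ := (shiftFunctor D a).map_surjective
      ((Φ.commShiftIso a).inv.app K ≫ f' ≫ (Φ.commShiftIso a).hom.app L)
    obtain ⟨f₀, hf₀⟩ := h.2 g'
    refine ⟨f₀⟦a⟧', ?_⟩
    change Φ.map (f₀⟦a⟧') = f'
    change Φ.map f₀ = g' at hf₀
    rw [key, hf₀, hg']
    simp

end Shift

section Four

variable [Preadditive C] [HasZeroObject C] [HasShift C ℤ] [∀ n : ℤ, (shiftFunctor C n).Additive]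
  [Pretriangulated C]
  [Preadditive D] [HasZeroObject D] [HasShift D ℤ] [∀ n : ℤ, (shiftFunctor D n).Additive]
  [Pretriangulated D]
  (Φ : C ⥤ D) [Φ.CommShift ℤ] [Φ.IsTriangulated]

set_option backward.defeqAttrib.useBackward true in
set_option backward.isDefEq.respectTransparency false in
/-- Four lemma in the first variable. -/
lemma Bij.four_left {T : Triangle C} (hT : T ∈ distTriang C) (L : C)
    (h₁ : Bij Φ T.obj₁ L) (h₃ : Bij Φ T.obj₃ L)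
    (h₁' : Bij Φ (T.obj₁⟦(1 : ℤ)⟧) L) (h₃' : Bij Φ (T.obj₃⟦(-1 : ℤ)⟧) L) :
    Bij Φ T.obj₂ L := by
  have hΦT := Φ.map_distinguished _ hT
  have hrot := rot_of_distTriang _ hT
  have hΦrot := Φ.map_distinguished _ hrot
  have hinv := inv_rot_of_distTriang _ hT
  constructor
  · -- injectivity
    intro f g hfg
    rw [← sub_eq_zero]
    have hd : Φ.map (f - g) = 0 := by
      rw [Φ.map_sub]; exact sub_eq_zero.2 hfg
    generalize f - g = d at hd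
    have h1 : T.mor₁ ≫ d = 0 := h₁.1 (by
      change Φ.map (T.mor₁ ≫ d) = Φ.map 0
      rw [Φ.map_comp, hd, comp_zero, Φ.map_zero])
    obtain ⟨g₀, rfl⟩ := Triangle.yoneda_exact₂ T hT d h1
    have h2 : (Φ.mapTriangle.obj T.rotate).mor₁ ≫ Φ.map g₀ = 0 := by
      change Φ.map T.mor₂ ≫ Φ.map g₀ = 0
      rw [← Φ.map_comp]; exact hd
    obtain ⟨h, hh⟩ := Triangle.yoneda_exact₂ _ hΦrot (Φ.map g₀) h2
    obtain ⟨h₀, hh₀⟩ := h₁'.2 h
    change Φ.map h₀ = h at hh₀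
    have h3 : g₀ = T.mor₃ ≫ h₀ := h₃.1 (by
      change Φ.map g₀ = Φ.map (T.mor₃ ≫ h₀)
      rw [hh, Φ.map_comp, hh₀]
      rfl)
    rw [h3, comp_distTriang_mor_zero₂₃_assoc _ hT, zero_comp]
  · -- surjectivity
    intro f'
    obtain ⟨a, ha⟩ := h₁.2 (Φ.map T.mor₁ ≫ f')
    change Φ.map a = _ at ha
    have h1 : T.invRotate.mor₁ ≫ a = 0 := h₃'.1 (by
      change Φ.map (T.invRotate.mor₁ ≫ a) = Φ.map 0
      rw [Φ.map_comp, ha, ← Φ.map_comp_assoc]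
      have : T.invRotate.mor₁ ≫ T.mor₁ = 0 := comp_distTriang_mor_zero₁₂ _ hinv
      rw [this, Φ.map_zero, zero_comp, Φ.map_zero])
    obtain ⟨b, hb'⟩ : ∃ b : T.obj₂ ⟶ L, a = T.mor₁ ≫ b :=
      Triangle.yoneda_exact₂ _ hinv a h1
    have h2 : (Φ.mapTriangle.obj T).mor₁ ≫ (f' - Φ.map b) = 0 := by
      change Φ.map T.mor₁ ≫ (f' - Φ.map b) = 0
      rw [Preadditive.comp_sub, ← ha, hb', Φ.map_comp, sub_self]
    obtain ⟨g', hg'⟩ := Triangle.yoneda_exact₂ _ hΦT (f' - Φ.map b) h2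
    obtain ⟨g₀, hg₀⟩ := h₃.2 g'
    change Φ.map g₀ = g' at hg₀
    refine ⟨b + T.mor₂ ≫ g₀, ?_⟩
    change Φ.map (b + T.mor₂ ≫ g₀) = f'
    rw [Φ.map_add, Φ.map_comp, hg₀]
    have : (Φ.mapTriangle.obj T).mor₂ ≫ g' = Φ.map T.mor₂ ≫ g' := rfl
    rw [← this, ← hg']
    abel

set_option backward.defeqAttrib.useBackward true in
set_option backward.isDefEq.respectTransparency false in
/-- Four lemma in the second variable. -/
lemma Bij.four_right {T : Triangle C} (hT : T ∈ distTriang C) (K : C)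
    (h₁ : Bij Φ K T.obj₁) (h₃ : Bij Φ K T.obj₃)
    (h₁' : Bij Φ K (T.obj₁⟦(1 : ℤ)⟧)) (h₃' : Bij Φ K (T.obj₃⟦(-1 : ℤ)⟧)) :
    Bij Φ K T.obj₂ := by
  have hΦT := Φ.map_distinguished _ hT
  have hinv := inv_rot_of_distTriang _ hT
  have hΦinv := Φ.map_distinguished _ hinv
  constructor
  · intro f g hfg
    rw [← sub_eq_zero]
    have hd : Φ.map (f - g) = 0 := by
      rw [Φ.map_sub]; exact sub_eq_zero.2 hfg
    generalize f - g = d at hd
    have h1 : d ≫ T.mor₂ = 0 := h₃.1 (by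
      change Φ.map (d ≫ T.mor₂) = Φ.map 0
      rw [Φ.map_comp, hd, zero_comp, Φ.map_zero])
    obtain ⟨a, rfl⟩ := Triangle.coyoneda_exact₂ T hT d h1
    have h2 : Φ.map a ≫ (Φ.mapTriangle.obj T.invRotate).mor₂ = 0 := by
      change Φ.map a ≫ Φ.map T.mor₁ = 0
      rw [← Φ.map_comp]; exact hd
    obtain ⟨b', hb'⟩ : ∃ b' : Φ.obj K ⟶ Φ.obj (T.obj₃⟦(-1 : ℤ)⟧),
        Φ.map a = b' ≫ Φ.map T.invRotate.mor₁ :=
      Triangle.coyoneda_exact₂ _ hΦinv (Φ.map a) h2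
    obtain ⟨b₀, hb₀⟩ := h₃'.2 b'
    change Φ.map b₀ = b' at hb₀
    have h3 : a = b₀ ≫ T.invRotate.mor₁ := h₁.1 (by
      change Φ.map a = Φ.map (b₀ ≫ T.invRotate.mor₁)
      rw [hb', Φ.map_comp, hb₀])
    have : T.invRotate.mor₁ ≫ T.mor₁ = 0 := comp_distTriang_mor_zero₁₂ _ hinv
    rw [h3, Category.assoc, this, comp_zero]
  · intro g'
    obtain ⟨c₀, hc₀⟩ := h₃.2 (g' ≫ Φ.map T.mor₂)
    change Φ.map c₀ = _ at hc₀
    have h1 : c₀ ≫ T.mor₃ = 0 := h₁'.1 (by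
      change Φ.map (c₀ ≫ T.mor₃) = Φ.map 0
      rw [Φ.map_comp, hc₀, Category.assoc, ← Φ.map_comp, comp_distTriang_mor_zero₂₃ _ hT,
        Φ.map_zero, comp_zero, Φ.map_zero])
    obtain ⟨d₀, hd₀⟩ := Triangle.coyoneda_exact₃ T hT c₀ h1
    have h2 : (g' - Φ.map d₀) ≫ (Φ.mapTriangle.obj T).mor₂ = 0 := by
      change (g' - Φ.map d₀) ≫ Φ.map T.mor₂ = 0
      rw [Preadditive.sub_comp, ← hc₀, hd₀, Φ.map_comp, sub_self]
    obtain ⟨a', ha'⟩ := Triangle.coyoneda_exact₂ _ hΦT (g' - Φ.map d₀) h2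
    obtain ⟨a₀, ha₀⟩ := h₁.2 a'
    change Φ.map a₀ = a' at ha₀
    refine ⟨d₀ + a₀ ≫ T.mor₁, ?_⟩
    change Φ.map (d₀ + a₀ ≫ T.mor₁) = g'
    rw [Φ.map_add, Φ.map_comp, ha₀]
    have : a' ≫ (Φ.mapTriangle.obj T).mor₁ = a' ≫ Φ.map T.mor₁ := rfl
    rw [← this, ← ha']
    abel

end Four

end Groth.Agent.Lib.Helper34.TriFF
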