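import Groth.Agent.Lib.Helper34.DbInduction
import Groth.Agent.Lib.Helper34.TriFF
import Groth.Agent.Lib.Helper34.Efface

/-!
# Siblings of a fully faithful functor are fully faithful
-/

set_option autoImplicit false
universe w v u v' u'
open CategoryTheory CategoryTheory.Limits CategoryTheory.Pretriangulated

namespace Groth.Agent.Lib.Helper34.TriFF

section Efface

variable {C : Type u} {D : Type u'} [Category.{v} C] [Category.{v'} D]
  [Preadditive C] [HasZeroObject C] [HasShift C ℤ] [∀ n : ℤ, (shiftFunctor C n).Additive]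
  [Pretriangulated C]
  [Preadditive D] [HasZeroObject D] [HasShift D ℤ] [∀ n : ℤ, (shiftFunctor D n).Additive]
  [Pretriangulated D]
  (Φ : C ⥤ D) [Φ.CommShift ℤ] [Φ.IsTriangulated]

set_option backward.defeqAttrib.useBackward true in
set_option backward.isDefEq.respectTransparency false in
lemma surj_of_efface {T : Triangle C} (hT : T ∈ distTriang C) (L : C)
    (h₁ : Bij Φ (T.obj₁⟦(1 : ℤ)⟧) L) (ξ' : Φ.obj T.obj₃ ⟶ Φ.obj L)
    (h : Φ.map T.mor₂ ≫ ξ' = 0) : ∃ ξ : T.obj₃ ⟶ L, Φ.map ξ = ξ' := by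
  have hΦrot := Φ.map_distinguished _ (rot_of_distTriang _ hT)
  obtain ⟨g, hg⟩ := Triangle.yoneda_exact₂ _ hΦrot ξ' h
  obtain ⟨g₀, hg₀⟩ := h₁.2 g
  change Φ.map g₀ = g at hg₀
  refine ⟨T.mor₃ ≫ g₀, ?_⟩
  rw [Φ.map_comp, hg₀, hg]
  rfl

set_option backward.defeqAttrib.useBackward true in
set_option backward.isDefEq.respectTransparency false in
lemma inj_of_efface {T : Triangle C} (hT : T ∈ distTriang C) (L : C)
    (h₁ : Bij Φ (T.obj₁⟦(1 : ℤ)⟧) L) (h₂ : Bij Φ (T.obj₂⟦(1 : ℤ)⟧) L)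
    (d : T.obj₃ ⟶ L) (hd : Φ.map d = 0) (h : T.mor₂ ≫ d = 0) : d = 0 := by
  obtain ⟨η, rfl⟩ := Triangle.yoneda_exact₃ T hT d h
  have hrot := rot_of_distTriang _ hT
  have hrr := rot_of_distTriang _ hrot
  have hΦrr := Φ.map_distinguished _ hrr
  have h0 : (Φ.mapTriangle.obj T.rotate.rotate).mor₁ ≫ Φ.map η = 0 := by
    change Φ.map T.mor₃ ≫ Φ.map η = 0
    rw [← Φ.map_comp]; exact hd
  obtain ⟨ζ', hζ'⟩ := Triangle.yoneda_exact₂ _ hΦrr (Φ.map η) h0
  obtain ⟨ζ, hζ⟩ := h₂.2 ζ'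
  change Φ.map ζ = ζ' at hζ
  have h3 : η = T.rotate.mor₃ ≫ ζ := h₁.1 (by
    change Φ.map η = Φ.map (T.rotate.mor₃ ≫ ζ)
    rw [hζ', Φ.map_comp, hζ]
    rfl)
  rw [h3]
  exact comp_distTriang_mor_zero₂₃_assoc _ hrot _ |>.trans zero_comp

end Efface

end Groth.Agent.Lib.Helper34.TriFF

namespace Groth.Agent.Lib.Helper34.Sibling

open Groth.Agent.Lib.Helper34.TriFF

variable {A : Type u} [Category.{v} A] [Abelian A] [HasDerivedCategory.{w} A]

/-- No negative Ext's between stalks in `D^b(A)`. -/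
lemma hom_singleB_shift_eq_zero (X Y : A) (q : ℤ) (hq : q < 0)
    (f : (DEquiv.singleB A).obj X ⟶ ((DEquiv.singleB A).obj Y)⟦q⟧) : f = 0 := by
  apply DerivedCategory.Bounded.ι.map_injective
  rw [Functor.map_zero, ← cancel_mono ((DerivedCategory.Bounded.ι.commShiftIso q).hom.app _),
    zero_comp]
  have h1 : DerivedCategory.TStructure.t.IsLE
      (DerivedCategory.Bounded.ι.obj ((DEquiv.singleB A).obj X)) 0 :=
    inferInstanceAs (DerivedCategory.TStructure.t.IsLE ((DerivedCategory.singleFunctor A 0).obj X) 0)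
  have h2 : DerivedCategory.TStructure.t.IsGE
      (DerivedCategory.Bounded.ι.obj ((DEquiv.singleB A).obj Y)) 0 :=
    inferInstanceAs (DerivedCategory.TStructure.t.IsGE ((DerivedCategory.singleFunctor A 0).obj Y) 0)
  have h3 : DerivedCategory.TStructure.t.IsGE
      ((DerivedCategory.Bounded.ι ⋙ shiftFunctor (DerivedCategory A) q).obj
        ((DEquiv.singleB A).obj Y)) (-q) :=
    DerivedCategory.TStructure.t.isGE_shift
      (DerivedCategory.Bounded.ι.obj ((DEquiv.singleB A).obj Y)) 0 q (-q) (by omega)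
  exact DerivedCategory.TStructure.t.zero _ 0 (-q) (by omega)

/-- Positive Ext classes between stalks are effaceable by an epimorphism. -/
lemma exists_epi_efface (X Y : A) (q : ℤ) (hq : 0 < q)
    (ξ : (DEquiv.singleB A).obj X ⟶ ((DEquiv.singleB A).obj Y)⟦q⟧) :
    ∃ (X' : A) (p : X' ⟶ X), Epi p ∧ (DEquiv.singleB A).map p ≫ ξ = 0 := by
  let ξ₀ : (DerivedCategory.singleFunctor A 0).obj X ⟶
      ((DerivedCategory.singleFunctor A 0).obj Y)⟦q⟧ :=
    DerivedCategory.Bounded.ι.map ξ ≫ (DerivedCategory.Bounded.ι.commShiftIso q).hom.app _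
  have h1 : DerivedCategory.TStructure.t.IsLE
      (((DerivedCategory.singleFunctor A 0).obj Y)⟦q⟧) (-q) :=
    DerivedCategory.TStructure.t.isLE_shift _ 0 q (-q) (by omega)
  have h2 : (((DerivedCategory.singleFunctor A 0).obj Y)⟦q⟧).IsLE (0 - 1) :=
    DerivedCategory.TStructure.t.isLE_of_le _ (-q) (0 - 1) (by omega)
  obtain ⟨N, g, hg, hgξ⟩ := Efface.exists_singleFunctor_efface _ _ ξ₀ 0
  obtain ⟨p, rfl⟩ := (DerivedCategory.singleFunctor A 0).map_surjective g
  refine ⟨N, p, ?_, ?_⟩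
  · let e := DerivedCategory.singleFunctorCompHomologyFunctorIso A 0
    have nat : (DerivedCategory.homologyFunctor A 0).map
        ((DerivedCategory.singleFunctor A 0).map p) ≫ e.hom.app X = e.hom.app N ≫ p :=
      e.hom.naturality p
    have h3 : Epi (e.hom.app N ≫ p) := by
      rw [← nat]; exact epi_comp' hg inferInstance
    exact epi_of_epi (e.hom.app N) p
  · apply DerivedCategory.Bounded.ι.map_injective
    rw [Functor.map_zero, ← cancel_mono ((DerivedCategory.Bounded.ι.commShiftIso q).hom.app _),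
      zero_comp, Functor.map_comp, Category.assoc]
    exact hgξ

set_option backward.defeqAttrib.useBackward true in
set_option backward.isDefEq.respectTransparency false in
/-- The distinguished triangle of stalks in `D^b(A)` attached to a short exact sequence. -/
lemma exists_singleB_triangle {S : ShortComplex A} (hS : S.ShortExact) :
    ∃ δ : (DEquiv.singleB A).obj S.X₃ ⟶ ((DEquiv.singleB A).obj S.X₁)⟦(1 : ℤ)⟧,
      Triangle.mk ((DEquiv.singleB A).map S.f) ((DEquiv.singleB A).map S.g) δ ∈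
        distTriang (DerivedCategory.Bounded A) := by
  let δ₁ : DerivedCategory.Bounded.ι.obj ((DEquiv.singleB A).obj S.X₃) ⟶
      (DerivedCategory.Bounded.ι.obj ((DEquiv.singleB A).obj S.X₁))⟦(1 : ℤ)⟧ := hS.singleδ
  refine ⟨DerivedCategory.TStructure.t.bounded.fullyFaithfulι.preimage
    (δ₁ ≫ (DerivedCategory.Bounded.ι.commShiftIso (1 : ℤ)).inv.app
      ((DEquiv.singleB A).obj S.X₁)), ?_⟩
  change DerivedCategory.Bounded.ι.mapTriangle.obj _ ∈ distTriang (DerivedCategory A)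
  refine isomorphic_distinguished _ hS.singleTriangle_distinguished _
    (Triangle.isoMk _ _ (Iso.refl _) (Iso.refl _) (Iso.refl _) ?_ ?_ ?_)
  · simp; rfl
  · simp; rfl
  · simp; rfl

variable {D : Type u'} [Category.{v'} D] [Preadditive D] [HasZeroObject D] [HasShift D ℤ]
  [∀ n : ℤ, (shiftFunctor D n).Additive] [Pretriangulated D]
  (F F' : DerivedCategory.Bounded A ⥤ D) [F.CommShift ℤ] [F.IsTriangulated]
  [F'.CommShift ℤ] [F'.IsTriangulated]

section FF

set_option linter.unusedSectionVars false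

lemma exists_transport (s : DEquiv.singleB A ⋙ F ≅ DEquiv.singleB A ⋙ F')
    (h2 : ∀ K : DerivedCategory.Bounded A, Nonempty (F.obj K ≅ F'.obj K)) [F.Full] [F.Faithful]
    (X : A) (L : DerivedCategory.Bounded A)
    (ξ' : F'.obj ((DEquiv.singleB A).obj X) ⟶ F'.obj L) :
    ∃ (ξ : (DEquiv.singleB A).obj X ⟶ L) (e : F.obj L ≅ F'.obj L),
      F.map ξ = s.hom.app X ≫ ξ' ≫ e.inv := by
  obtain ⟨e⟩ := h2 L
  exact ⟨F.preimage (s.hom.app X ≫ ξ' ≫ e.inv), e, F.map_preimage _⟩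

lemma efface' (s : DEquiv.singleB A ⋙ F ≅ DEquiv.singleB A ⋙ F')
    (h2 : ∀ K : DerivedCategory.Bounded A, Nonempty (F.obj K ≅ F'.obj K)) [F.Full] [F.Faithful]
    (X : A) (L : DerivedCategory.Bounded A)
    (hL : ∀ ξ : (DEquiv.singleB A).obj X ⟶ L,
      ∃ (X' : A) (p : X' ⟶ X), Epi p ∧ (DEquiv.singleB A).map p ≫ ξ = 0)
    (ξ' : F'.obj ((DEquiv.singleB A).obj X) ⟶ F'.obj L) :
    ∃ (X' : A) (p : X' ⟶ X), Epi p ∧ F'.map ((DEquiv.singleB A).map p) ≫ ξ' = 0 := by
  obtain ⟨ξ, e, hξ⟩ := exists_transport F F' s h2 X L ξ'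
  obtain ⟨X', p, hp, hpξ⟩ := hL ξ
  refine ⟨X', p, hp, ?_⟩
  have nat : F.map ((DEquiv.singleB A).map p) ≫ s.hom.app X =
      s.hom.app X' ≫ F'.map ((DEquiv.singleB A).map p) := s.hom.naturality p
  rw [← cancel_epi (s.hom.app X'), ← cancel_mono e.inv, comp_zero, zero_comp]
  calc (s.hom.app X' ≫ F'.map ((DEquiv.singleB A).map p) ≫ ξ') ≫ e.inv
      = F.map ((DEquiv.singleB A).map p) ≫ s.hom.app X ≫ ξ' ≫ e.inv := by
        rw [← reassoc_of% nat]; simp
    _ = F.map ((DEquiv.singleB A).map p ≫ ξ) := by rw [F.map_comp, hξ]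
    _ = 0 := by rw [hpξ, F.map_zero]

lemma bij_stalk_neg (s : DEquiv.singleB A ⋙ F ≅ DEquiv.singleB A ⋙ F')
    (h2 : ∀ K : DerivedCategory.Bounded A, Nonempty (F.obj K ≅ F'.obj K)) [F.Full] [F.Faithful]
    (X Y : A) (q : ℤ) (hq : q < 0) :
    Bij F' ((DEquiv.singleB A).obj X) (((DEquiv.singleB A).obj Y)⟦q⟧) := by
  constructor
  · intro f g _
    rw [hom_singleB_shift_eq_zero X Y q hq f, hom_singleB_shift_eq_zero X Y q hq g]
  · intro ξ'
    obtain ⟨ξ, e, hξ⟩ := exists_transport F F' s h2 X _ ξ'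
    refine ⟨0, ?_⟩
    change F'.map 0 = ξ'
    rw [F'.map_zero]
    have : ξ = 0 := hom_singleB_shift_eq_zero X Y q hq ξ
    rw [this, F.map_zero] at hξ
    rw [← cancel_epi (s.hom.app X), ← cancel_mono e.inv, comp_zero, zero_comp, Category.assoc,
      ← hξ]

lemma bij_stalk_zero' (s : DEquiv.singleB A ⋙ F ≅ DEquiv.singleB A ⋙ F') [F.Full] [F.Faithful]
    (X Y : A) :
    Bij F' ((DEquiv.singleB A).obj X) ((DEquiv.singleB A).obj Y) := by
  constructor
  · intro f g hfg
    change F'.map f = F'.map g at hfg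
    obtain ⟨f₀, rfl⟩ := (DEquiv.singleB A).map_surjective f
    obtain ⟨g₀, rfl⟩ := (DEquiv.singleB A).map_surjective g
    apply F.map_injective
    have n1 : F.map ((DEquiv.singleB A).map f₀) ≫ s.hom.app Y =
      s.hom.app X ≫ F'.map ((DEquiv.singleB A).map f₀) := s.hom.naturality f₀
    have n2 : F.map ((DEquiv.singleB A).map g₀) ≫ s.hom.app Y =
      s.hom.app X ≫ F'.map ((DEquiv.singleB A).map g₀) := s.hom.naturality g₀
    rw [← cancel_mono (s.hom.app Y), n1, n2, hfg]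
  · intro ξ'
    obtain ⟨f, hf⟩ := F.map_surjective (s.hom.app X ≫ ξ' ≫ s.inv.app Y)
    obtain ⟨f₀, rfl⟩ := (DEquiv.singleB A).map_surjective f
    refine ⟨(DEquiv.singleB A).map f₀, ?_⟩
    change F'.map _ = ξ'
    have n1 : F.map ((DEquiv.singleB A).map f₀) ≫ s.hom.app Y =
      s.hom.app X ≫ F'.map ((DEquiv.singleB A).map f₀) := s.hom.naturality f₀
    rw [← cancel_epi (s.hom.app X), ← n1, hf]
    simp

lemma bij_stalk_succ (s : DEquiv.singleB A ⋙ F ≅ DEquiv.singleB A ⋙ F')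
    (h2 : ∀ K : DerivedCategory.Bounded A, Nonempty (F.obj K ≅ F'.obj K)) [F.Full] [F.Faithful]
    (n : ℕ)
    (ih : ∀ X Y : A, Bij F' ((DEquiv.singleB A).obj X) (((DEquiv.singleB A).obj Y)⟦(n : ℤ)⟧))
    (X Y : A) :
    Bij F' ((DEquiv.singleB A).obj X) (((DEquiv.singleB A).obj Y)⟦((n + 1 : ℕ) : ℤ)⟧) := by
  have hN : ∀ N : A, Bij F' (((DEquiv.singleB A).obj N)⟦(1 : ℤ)⟧)
      (((DEquiv.singleB A).obj Y)⟦((n + 1 : ℕ) : ℤ)⟧) := fun N =>
    ((ih N Y).shift F' 1).of_iso_right F'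
      ((shiftFunctorAdd' (DerivedCategory.Bounded A) (n : ℤ) 1 ((n + 1 : ℕ) : ℤ)
        (by push_cast; ring)).app _).symm
  have hq : (0 : ℤ) < ((n + 1 : ℕ) : ℤ) := by positivity
  have tri : ∀ {X' : A} (p : X' ⟶ X) [Epi p],
      ∃ δ : (DEquiv.singleB A).obj X ⟶ ((DEquiv.singleB A).obj (kernel p))⟦(1 : ℤ)⟧,
        Triangle.mk ((DEquiv.singleB A).map (kernel.ι p)) ((DEquiv.singleB A).map p) δ ∈
          distTriang (DerivedCategory.Bounded A) := by
    intro X' p hp
    let S : ShortComplex A := ShortComplex.mk (kernel.ι p) p (kernel.condition p)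
    have hS : S.ShortExact :=
      { exact := ShortComplex.exact_of_f_is_kernel _ (kernelIsKernel p)
        mono_f := inferInstanceAs (Mono (kernel.ι p))
        epi_g := hp }
    exact exists_singleB_triangle hS
  constructor
  · intro f g hfg
    change F'.map f = F'.map g at hfg
    rw [← sub_eq_zero]
    have hd : F'.map (f - g) = 0 := by rw [F'.map_sub]; exact sub_eq_zero.2 hfg
    generalize f - g = d at hd
    obtain ⟨X', p, hp, hpd⟩ := exists_epi_efface X Y _ hq d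
    obtain ⟨δ, hT⟩ := tri p
    exact inj_of_efface F' hT _ (hN (kernel p)) (hN X') d hd hpd
  · intro ξ'
    obtain ⟨X', p, hp, hpξ'⟩ := efface' F F' s h2 X _ (exists_epi_efface X Y _ hq) ξ'
    obtain ⟨δ, hT⟩ := tri p
    exact surj_of_efface F' hT _ (hN (kernel p)) ξ' hpξ'

theorem bij_stalk (s : DEquiv.singleB A ⋙ F ≅ DEquiv.singleB A ⋙ F')
    (h2 : ∀ K : DerivedCategory.Bounded A, Nonempty (F.obj K ≅ F'.obj K)) [F.Full] [F.Faithful]
    (X Y : A) (q : ℤ) :
    Bij F' ((DEquiv.singleB A).obj X) (((DEquiv.singleB A).obj Y)⟦q⟧) := by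
  rcases lt_or_ge q 0 with hq | hq
  · exact bij_stalk_neg F F' s h2 X Y q hq
  · obtain ⟨n, rfl⟩ := Int.eq_ofNat_of_zero_le hq
    induction n generalizing X Y with
    | zero =>
      exact (bij_stalk_zero' F F' s X Y).of_iso_right F'
        ((shiftFunctorZero' (DerivedCategory.Bounded A) (((0 : ℕ) : ℤ)) (by simp)).app _).symm
    | succ n ih =>
      exact bij_stalk_succ F F' s h2 n (fun X Y => ih X Y (by positivity)) X Y

theorem bij_all (s : DEquiv.singleB A ⋙ F ≅ DEquiv.singleB A ⋙ F')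
    (h2 : ∀ K : DerivedCategory.Bounded A, Nonempty (F.obj K ≅ F'.obj K)) [F.Full] [F.Faithful]
    (K L : DerivedCategory.Bounded A) : Bij F' K L := by
  have hP : ∀ (K : DerivedCategory.Bounded A) (Y : A) (n : ℤ),
      Bij F' K (((DEquiv.singleB A).obj Y)⟦n⟧) := by
    intro K
    refine Db_induction (P := fun K => ∀ (Y : A) (n : ℤ),
      Bij F' K (((DEquiv.singleB A).obj Y)⟦n⟧)) ?_ ?_ ?_ K
    · exact fun K K' e h Y n => (h Y n).of_iso_left F' e
    · exact fun X m Y n => ((bij_stalk F F' s h2 X Y (n - m)).shift F' m).of_iso_right F'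
        ((shiftFunctorAdd' (DerivedCategory.Bounded A) (n - m) m n (by omega)).app _).symm
    · intro T hT h₁ h₃ Y n
      refine Bij.four_left F' hT _ (h₁ Y n) (h₃ Y n) ?_ ?_
      · exact ((h₁ Y (n - 1)).shift F' 1).of_iso_right F'
          ((shiftFunctorAdd' (DerivedCategory.Bounded A) (n - 1) 1 n (by omega)).app _).symm
      · exact ((h₃ Y (n + 1)).shift F' (-1)).of_iso_right F'
          ((shiftFunctorAdd' (DerivedCategory.Bounded A) (n + 1) (-1) n (by omega)).app _).symm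
  have hQ : ∀ (L K : DerivedCategory.Bounded A), Bij F' K L := by
    intro L
    refine Db_induction (P := fun L => ∀ K : DerivedCategory.Bounded A, Bij F' K L) ?_ ?_ ?_ L
    · exact fun L L' e h K => (h K).of_iso_right F' e
    · exact fun Y n K => hP K Y n
    · intro T hT h₁ h₃ K
      refine Bij.four_right F' hT K (h₁ K) (h₃ K) ?_ ?_
      · exact ((h₁ (K⟦(-1 : ℤ)⟧)).shift F' 1).of_iso_left F'
          ((shiftFunctorCompIsoId (DerivedCategory.Bounded A) (-1) 1 (by omega)).app K)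
      · exact ((h₃ (K⟦(1 : ℤ)⟧)).shift F' (-1)).of_iso_left F'
          ((shiftFunctorCompIsoId (DerivedCategory.Bounded A) 1 (-1) (by omega)).app K)
  exact hQ L K

end FF

end Groth.Agent.Lib.Helper34.Sibling
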