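import Groth.Agent.Lib.Helper34.SibPres
import Groth.Agent.Lib.Helper34.SiblingFF
import Groth.Agent.Lib.Helper34.SibAbs

/-!
# Negative presentations in `D^b(A)`
-/

set_option autoImplicit false
universe w v u v' u'
open CategoryTheory CategoryTheory.Limits CategoryTheory.Pretriangulated

namespace Groth.Agent.Lib.Helper34.SibMain

variable {A : Type u} [Category.{v} A] [Abelian A] [HasDerivedCategory.{w} A]

open DerivedCategory in
lemma hom_to_single_eq_zero' (X : DerivedCategory A) (b : ℤ) [X.IsLE b] (N : A)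
    (hN : ∀ φ : (homologyFunctor A b).obj X ⟶ N, φ = 0)
    (g : X ⟶ (singleFunctor A b).obj N) : g = 0 := by
  apply SibPres.hom_to_single_eq_zero X b N g
  let e := singleFunctorCompHomologyFunctorIso A b
  have h0 := hN ((homologyFunctor A b).map g ≫ e.hom.app N)
  rw [← cancel_mono (e.hom.app N), zero_comp]
  exact h0

set_option backward.defeqAttrib.useBackward true in
set_option backward.isDefEq.respectTransparency false in
open DerivedCategory in
theorem exists_presentation
    (hneg : ∀ X : A, ∃ (N : A) (p : N ⟶ X), Epi p ∧ ∀ f : X ⟶ N, f = 0)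
    (X : DerivedCategory.Bounded A) (b c : ℤ) (hc : c + 1 = b) (hX : X.obj.IsLE b)
    (X₁ X₂ : DerivedCategory.Bounded A) (h₁ : X₁.obj.IsLE c) (h₂ : X₂.obj.IsLE c)
    (f₁ : X ⟶ X₁) (f₂ : X ⟶ X₂) (W : DerivedCategory.Bounded A) (hW : W.obj.IsLE b) :
    ∃ (S Y : DerivedCategory.Bounded A) (u : S ⟶ X) (v : X ⟶ Y) (δ : Y ⟶ S⟦(1 : ℤ)⟧),
      Triangle.mk u v δ ∈ distTriang (DerivedCategory.Bounded A) ∧
      S.obj.IsGE b ∧ S.obj.IsLE b ∧ Y.obj.IsLE c ∧
      (∀ a, a ≤ c → X.obj.IsGE a → Y.obj.IsGE a) ∧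
      (∀ g : X ⟶ S, g = 0) ∧ (∀ g : W ⟶ S, g = 0) ∧ u ≫ f₁ = 0 ∧ u ≫ f₂ = 0 := by
  obtain rfl : c = b - 1 := by omega
  obtain ⟨N, g, hg, hN, hM, hgf₁, hgf₂⟩ := SibPres.exists_neg_stalk hneg X.obj X₁.obj X₂.obj b
    (DerivedCategory.Bounded.ι.map f₁) (DerivedCategory.Bounded.ι.map f₂)
    ((homologyFunctor A b).obj W.obj)
  let S : DerivedCategory.Bounded A :=
    ⟨(singleFunctor A b).obj N, ⟨⟨b, inferInstance⟩, ⟨b, inferInstance⟩⟩⟩
  have hSGE : S.obj.IsGE b := inferInstanceAs (((singleFunctor A b).obj N).IsGE b)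
  have hSLE : S.obj.IsLE b := inferInstanceAs (((singleFunctor A b).obj N).IsLE b)
  let u : S ⟶ X := TStructure.t.bounded.fullyFaithfulι.preimage g
  have hu : DerivedCategory.Bounded.ι.map u = g :=
    TStructure.t.bounded.fullyFaithfulι.map_preimage (X := S) (Y := X) g
  obtain ⟨Y, v, δ, hT⟩ := distinguished_cocone_triangle u
  have hT' : DerivedCategory.Bounded.ι.mapTriangle.obj (Triangle.mk u v δ) ∈
    distTriang (DerivedCategory A) := hT
  set T' := DerivedCategory.Bounded.ι.mapTriangle.obj (Triangle.mk u v δ) with hT'def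
  have hYLE : Y.obj.IsLE (b - 1) := by
    rw [DerivedCategory.isLE_iff]
    intro i hi
    have hS0 : IsZero ((homologyFunctor A (i + 1)).obj S.obj) :=
      isZero_of_isLE S.obj b (i + 1) (by omega)
    have hepi : Epi ((homologyFunctor A i).map T'.mor₂) :=
      (HomologySequence.epi_homologyMap_mor₂_iff T' hT' i (i + 1) rfl).2 (hS0.eq_of_tgt _ _)
    rcases (show b < i ∨ i = b by omega) with hi' | rfl
    · have hX0 : IsZero ((homologyFunctor A i).obj X.obj) := isZero_of_isLE X.obj b i hi'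
      exact IsZero.of_epi_eq_zero ((homologyFunctor A i).map T'.mor₂) (hX0.eq_of_src _ _)
    · have h1 : Epi ((homologyFunctor A i).map T'.mor₁) := by
        have : T'.mor₁ = g := hu
        rw [this]; exact hg
      have h2 := (HomologySequence.epi_homologyMap_mor₁_iff T' hT' i).1 h1
      exact IsZero.of_epi_eq_zero ((homologyFunctor A i).map T'.mor₂) h2
  refine ⟨S, Y, u, v, δ, hT, hSGE, hSLE, hYLE, ?_, ?_, ?_, ?_, ?_⟩
  · intro a ha hXa
    have h3 : TStructure.t.IsGE (T'.rotate.obj₃) a := by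
      have h4 : TStructure.t.IsGE ((S.obj)⟦(1 : ℤ)⟧) (b - 1) :=
        TStructure.t.isGE_shift S.obj b 1 (b - 1) (by omega)
      exact TStructure.t.isGE_of_ge ((S.obj)⟦(1 : ℤ)⟧) a (b - 1) ha
    exact TStructure.t.isGE₂ T'.rotate (rot_of_distTriang _ hT') a hXa h3
  · intro g'
    apply DerivedCategory.Bounded.ι.map_injective
    rw [Functor.map_zero]
    exact hom_to_single_eq_zero' X.obj b N hN _
  · intro g'
    apply DerivedCategory.Bounded.ι.map_injective
    rw [Functor.map_zero]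
    exact hom_to_single_eq_zero' W.obj b N hM _
  · apply DerivedCategory.Bounded.ι.map_injective
    rw [Functor.map_zero, Functor.map_comp, hu]
    exact hgf₁
  · apply DerivedCategory.Bounded.ι.map_injective
    rw [Functor.map_zero, Functor.map_comp, hu]
    exact hgf₂

end Groth.Agent.Lib.Helper34.SibMain
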