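import Groth.Agent.Lib.Helper34.SibPresDb

/-!
# The stalk families `cst a` on `D^{[a,a]}` and their compatibility with shifts
-/

set_option autoImplicit false
universe w v u v' u'
open CategoryTheory CategoryTheory.Limits CategoryTheory.Pretriangulated

namespace Groth.Agent.Lib.Helper34.SibMain

section ShiftConj

variable {C : Type u} {D : Type u'} [Category.{v} C] [Category.{v'} D]
  [HasShift C ℤ] [HasShift D ℤ] (F F' : C ⥤ D) [F.CommShift ℤ] [F'.CommShift ℤ]

/-- Conjugate of the `m`-th shift of `σ : F W ⟶ F' W` by the commutation isomorphisms. -/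
noncomputable def shiftConj {W : C} (σ : F.obj W ⟶ F'.obj W) (m : ℤ) :
    F.obj (W⟦m⟧) ⟶ F'.obj (W⟦m⟧) :=
  (F.commShiftIso m).hom.app W ≫ σ⟦m⟧' ≫ (F'.commShiftIso m).inv.app W

lemma shiftConj_add {W : C} (σ : F.obj W ⟶ F'.obj W) (m n mn : ℤ) (h : m + n = mn) :
    F.map ((shiftFunctorAdd' C m n mn h).hom.app W) ≫ shiftConj F F' (shiftConj F F' σ m) n ≫
      F'.map ((shiftFunctorAdd' C m n mn h).inv.app W) = shiftConj F F' σ mn := by
  have nat := (shiftFunctorAdd' D m n mn h).inv.naturality σ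
  dsimp only [shiftConj]
  rw [F.commShiftIso_add' h, F'.commShiftIso_add' h, Functor.CommShift.isoAdd'_hom_app,
    Functor.CommShift.isoAdd'_inv_app]
  simp only [Functor.map_comp, Category.assoc]
  congr 3
  rw [← reassoc_of% nat]
  simp

lemma shiftConj_nat {W W' : C} (σ : F.obj W ⟶ F'.obj W) (σ' : F.obj W' ⟶ F'.obj W') (f : W ⟶ W')
    (hf : F.map f ≫ σ' = σ ≫ F'.map f) (m : ℤ) :
    F.map (f⟦m⟧') ≫ shiftConj F F' σ' m = shiftConj F F' σ m ≫ F'.map (f⟦m⟧') := by
  dsimp only [shiftConj]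
  have n1 := (F.commShiftIso m).hom.naturality f
  have n2 := (F'.commShiftIso m).inv.naturality f
  dsimp at n1 n2
  rw [reassoc_of% n1, Category.assoc, Category.assoc, ← n2, ← Functor.map_comp_assoc, hf,
    Functor.map_comp_assoc]

lemma shiftConj_nat_iff {W W' : C} (σ : F.obj W ⟶ F'.obj W) (σ' : F.obj W' ⟶ F'.obj W')
    (f : W ⟶ W') (m : ℤ)
    (h : F.map (f⟦m⟧') ≫ shiftConj F F' σ' m = shiftConj F F' σ m ≫ F'.map (f⟦m⟧')) :
    F.map f ≫ σ' = σ ≫ F'.map f := by
  apply (shiftFunctor D m).map_injective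
  dsimp only [shiftConj] at h
  have n1 := (F.commShiftIso m).hom.naturality f
  have n2 := (F'.commShiftIso m).inv.naturality f
  dsimp at n1 n2
  rw [reassoc_of% n1, Category.assoc, Category.assoc, ← n2] at h
  rw [cancel_epi] at h
  simp only [← Category.assoc] at h
  rw [cancel_mono] at h
  rw [Functor.map_comp, Functor.map_comp]
  exact h

end ShiftConj

open Groth.Agent.Lib.Helper34.Sibling

variable {A : Type u} [Category.{v} A] [Abelian A] [HasDerivedCategory.{w} A]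
  {D : Type u'} [Category.{v'} D] [Preadditive D] [HasZeroObject D] [HasShift D ℤ]
  [∀ n : ℤ, (shiftFunctor D n).Additive] [Pretriangulated D]
  (F F' : DerivedCategory.Bounded A ⥤ D) [F.CommShift ℤ] [F'.CommShift ℤ]
  (s : DEquiv.singleB A ⋙ F ≅ DEquiv.singleB A ⋙ F')

/-- `X ∈ D^{[a,b]}`. -/
def InD (a b : ℤ) (X : DerivedCategory.Bounded A) : Prop := X.obj.IsGE a ∧ X.obj.IsLE b

lemma InD.mono {a b a' b' : ℤ} {X : DerivedCategory.Bounded A} (h : InD a b X) (ha : a' ≤ a)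
    (hb : b ≤ b') : InD a' b' X := by
  have := h.1
  have := h.2
  exact ⟨DerivedCategory.TStructure.t.isGE_of_ge X.obj a' a ha,
    DerivedCategory.TStructure.t.isLE_of_le X.obj b b' hb⟩

lemma InD.shift {a b : ℤ} {X : DerivedCategory.Bounded A} (h : InD a b X) (n a' b' : ℤ)
    (ha : n + a' = a) (hb : n + b' = b) : InD a' b' (X⟦n⟧) := by
  have := h.1
  have := h.2
  have e := (DerivedCategory.Bounded.ι.commShiftIso n).app X
  have h1 : DerivedCategory.TStructure.t.IsGE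
      ((DerivedCategory.Bounded.ι ⋙ shiftFunctor (DerivedCategory A) n).obj X) a' :=
    DerivedCategory.TStructure.t.isGE_shift X.obj a n a' ha
  have h2 : DerivedCategory.TStructure.t.IsLE
      ((DerivedCategory.Bounded.ι ⋙ shiftFunctor (DerivedCategory A) n).obj X) b' :=
    DerivedCategory.TStructure.t.isLE_shift X.obj b n b' hb
  exact ⟨DerivedCategory.TStructure.t.isGE_of_iso e.symm a',
    DerivedCategory.TStructure.t.isLE_of_iso e.symm b'⟩

lemma InD.of_iso {a b : ℤ} {X X' : DerivedCategory.Bounded A} (h : InD a b X) (e : X ≅ X') :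
    InD a b X' := by
  have h1 : DerivedCategory.TStructure.t.IsGE (DerivedCategory.Bounded.ι.obj X) a := h.1
  have h2 : DerivedCategory.TStructure.t.IsLE (DerivedCategory.Bounded.ι.obj X) b := h.2
  exact ⟨DerivedCategory.TStructure.t.isGE_of_iso (DerivedCategory.Bounded.ι.mapIso e) a,
    DerivedCategory.TStructure.t.isLE_of_iso (DerivedCategory.Bounded.ι.mapIso e) b⟩

/-- Objects of `D^{[a,a]}` are shifted stalks. -/
lemma exists_iso_stalk (X : DerivedCategory.Bounded A) (a : ℤ) (h : InD a a X) :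
    ∃ Z : A, Nonempty (X ≅ ((DEquiv.singleB A).obj Z)⟦-a⟧) := by
  have := h.1
  have := h.2
  obtain ⟨Z, ⟨e⟩⟩ := DerivedCategory.exists_iso_singleFunctor_obj_of_isGE_of_isLE X.obj a
  obtain ⟨e₃⟩ := nonempty_iso_ι_Gk (A := A) a 0 Z a (by simp)
  let φ : DerivedCategory.Bounded.ι.obj X ≅
      DerivedCategory.Bounded.ι.obj (((DEquiv.singleB A).obj Z)⟦-a⟧) := e ≪≫ e₃.symm
  exact ⟨Z, ⟨(DerivedCategory.TStructure.t.bounded.fullyFaithfulι).preimageIso φ⟩⟩

/-- The candidate map attached to an identification with a shifted stalk. -/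
noncomputable def cstOf {X : DerivedCategory.Bounded A} {m : ℤ} {Z : A}
    (φ : X ≅ ((DEquiv.singleB A).obj Z)⟦m⟧) : F.obj X ⟶ F'.obj X :=
  F.map φ.hom ≫ shiftConj F F' (s.hom.app Z) m ≫ F'.map φ.inv

lemma cstOf_nat {X X' : DerivedCategory.Bounded A} {m : ℤ} {Z Z' : A}
    (φ : X ≅ ((DEquiv.singleB A).obj Z)⟦m⟧) (φ' : X' ≅ ((DEquiv.singleB A).obj Z')⟦m⟧)
    (f : X ⟶ X') : F.map f ≫ cstOf F F' s φ' = cstOf F F' s φ ≫ F'.map f := by
  obtain ⟨g₁, hg₁⟩ := (shiftFunctor (DerivedCategory.Bounded A) m).map_surjective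
    (φ.inv ≫ f ≫ φ'.hom)
  obtain ⟨g, rfl⟩ := (DEquiv.singleB A).map_surjective g₁
  have hs : F.map ((DEquiv.singleB A).map g) ≫ s.hom.app Z' =
      s.hom.app Z ≫ F'.map ((DEquiv.singleB A).map g) := s.hom.naturality g
  have key := shiftConj_nat F F' (s.hom.app Z) (s.hom.app Z') _ hs m
  rw [hg₁] at key
  dsimp only [cstOf]
  have e1 : F.map f ≫ F.map φ'.hom = F.map φ.hom ≫ F.map (φ.inv ≫ f ≫ φ'.hom) := by
    rw [← F.map_comp, ← F.map_comp, Iso.hom_inv_id_assoc]
  have e2 : F'.map (φ.inv ≫ f ≫ φ'.hom) ≫ F'.map φ'.inv = F'.map φ.inv ≫ F'.map f := by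
    rw [← F'.map_comp, ← F'.map_comp, Category.assoc, Category.assoc, Iso.hom_inv_id,
      Category.comp_id]
  rw [reassoc_of% e1, reassoc_of% key, e2, Category.assoc, Category.assoc]

lemma cstOf_isIso {X : DerivedCategory.Bounded A} {m : ℤ} {Z : A}
    (φ : X ≅ ((DEquiv.singleB A).obj Z)⟦m⟧) : IsIso (cstOf F F' s φ) := by
  dsimp only [cstOf, shiftConj]
  infer_instance

/-- The stalk family on `D^{[a,a]}`. -/
noncomputable def cst (a : ℤ) (X : DerivedCategory.Bounded A) (h : InD a a X) :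
    F.obj X ⟶ F'.obj X :=
  cstOf F F' s (exists_iso_stalk X a h).choose_spec.some

lemma cst_eq (a : ℤ) (X : DerivedCategory.Bounded A) (h : InD a a X) {Z : A}
    (φ : X ≅ ((DEquiv.singleB A).obj Z)⟦-a⟧) : cst F F' s a X h = cstOf F F' s φ := by
  have := cstOf_nat F F' s (exists_iso_stalk X a h).choose_spec.some φ (𝟙 X)
  rw [F.map_id, F'.map_id, Category.id_comp, Category.comp_id] at this
  exact this.symm

lemma cst_nat (a : ℤ) (X X' : DerivedCategory.Bounded A) (h : InD a a X) (h' : InD a a X')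
    (f : X ⟶ X') : F.map f ≫ cst F F' s a X' h' = cst F F' s a X h ≫ F'.map f :=
  cstOf_nat F F' s _ _ f

lemma cst_isIso (a : ℤ) (X : DerivedCategory.Bounded A) (h : InD a a X) :
    IsIso (cst F F' s a X h) := cstOf_isIso F F' s _

/-- Compatibility of the stalk families with the shift. -/
lemma cst_shift' (a b : ℤ) (hb : b = a - 1) (X : DerivedCategory.Bounded A) (h : InD a a X)
    (h' : InD b b (X⟦(1 : ℤ)⟧)) :
    cst F F' s b (X⟦(1 : ℤ)⟧) h' = shiftConj F F' (cst F F' s a X h) 1 := by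
  subst hb
  obtain ⟨Z, ⟨φ⟩⟩ := exists_iso_stalk X a h
  let θ := (shiftFunctorAdd' (DerivedCategory.Bounded A) (-a) 1 (-(a - 1)) (by omega)).symm.app
    ((DEquiv.singleB A).obj Z)
  let φ₁ : X⟦(1 : ℤ)⟧ ≅ ((DEquiv.singleB A).obj Z)⟦-(a - 1)⟧ :=
    (shiftFunctor (DerivedCategory.Bounded A) (1 : ℤ)).mapIso φ ≪≫ θ
  rw [cst_eq F F' s (a - 1) _ h' φ₁, cst_eq F F' s a X h φ]
  have key := shiftConj_add F F' (s.hom.app Z) (-a) 1 (-(a - 1)) (by omega)
  have n1 := shiftConj_nat F F' (cstOf F F' s φ) (shiftConj F F' (s.hom.app Z) (-a)) φ.hom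
    (by dsimp only [cstOf]
        rw [Category.assoc, Category.assoc, ← F'.map_comp, Iso.inv_hom_id, F'.map_id,
          Category.comp_id]) 1
  have e1 : F.map φ₁.hom = F.map (φ.hom⟦(1 : ℤ)⟧') ≫
      F.map ((shiftFunctorAdd' (DerivedCategory.Bounded A) (-a) 1 (-(a - 1)) (by omega)).inv.app
        ((DEquiv.singleB A).obj Z)) := by
    rw [← F.map_comp]; rfl
  have e2 : F'.map φ₁.inv =
      F'.map ((shiftFunctorAdd' (DerivedCategory.Bounded A) (-a) 1 (-(a - 1)) (by omega)).hom.app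
        ((DEquiv.singleB A).obj Z)) ≫ F'.map (φ.inv⟦(1 : ℤ)⟧') := by
    rw [← F'.map_comp]; rfl
  change F.map φ₁.hom ≫ shiftConj F F' (s.hom.app Z) (-(a - 1)) ≫ F'.map φ₁.inv = _
  rw [e1, e2, ← key]
  have c1 : F.map ((shiftFunctorAdd' (DerivedCategory.Bounded A) (-a) 1 (-(a - 1))
      (by omega)).inv.app ((DEquiv.singleB A).obj Z)) ≫
      F.map ((shiftFunctorAdd' (DerivedCategory.Bounded A) (-a) 1 (-(a - 1))
      (by omega)).hom.app ((DEquiv.singleB A).obj Z)) = 𝟙 _ := by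
    rw [← F.map_comp, Iso.inv_hom_id_app, F.map_id]
  have c2 : F'.map ((shiftFunctorAdd' (DerivedCategory.Bounded A) (-a) 1 (-(a - 1))
      (by omega)).inv.app ((DEquiv.singleB A).obj Z)) ≫
      F'.map ((shiftFunctorAdd' (DerivedCategory.Bounded A) (-a) 1 (-(a - 1))
      (by omega)).hom.app ((DEquiv.singleB A).obj Z)) = 𝟙 _ := by
    rw [← F'.map_comp, Iso.inv_hom_id_app, F'.map_id]
  have c3 : F'.map (φ.hom⟦(1 : ℤ)⟧') ≫ F'.map (φ.inv⟦(1 : ℤ)⟧') = 𝟙 _ := by
    rw [← F'.map_comp, ← Functor.map_comp, Iso.hom_inv_id, CategoryTheory.Functor.map_id,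
      F'.map_id]
  simp only [Category.assoc]
  rw [reassoc_of% c1, reassoc_of% c2, reassoc_of% n1, c3, Category.comp_id]

end Groth.Agent.Lib.Helper34.SibMain
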