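import Groth.Agent.Lib.Helper34.SiblingTower
import Groth.Prelude.Def_W4stkfunctorsequivSib

/-!
# Sibling functors on `D^b(A)`: objectwise isomorphism

Concrete part: every object of `D^b(A)` is a tower of stalks (via kernels of the projection to the
bottom term of a bounded complex), hence `F K ≅ F' K` for exact functors `F, F'` agreeing on `A`
and with vanishing negative Ext's.
-/

set_option autoImplicit false
universe w v u v' u'
open CategoryTheory CategoryTheory.Limits CategoryTheory.Pretriangulated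

namespace Groth.Agent.Lib.Helper34.Sibling

section General

variable {C₀ : Type u} [Category.{v} C₀] [Preadditive C₀] [HasZeroObject C₀] [HasShift C₀ ℤ]
  [∀ n : ℤ, (shiftFunctor C₀ n).Additive] [Pretriangulated C₀]

set_option backward.defeqAttrib.useBackward true in
set_option backward.isDefEq.respectTransparency false in
/-- Transport a distinguished triangle of the ambient category to a triangulated full
subcategory, given isomorphisms on objects. -/
lemma exists_distTriang_of_iso (P : ObjectProperty C₀) [P.IsTriangulated]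
    (T₀ : Triangle C₀) (hT₀ : T₀ ∈ distTriang C₀) (L₁ L₂ L₃ : P.FullSubcategory)
    (e₁ : P.ι.obj L₁ ≅ T₀.obj₁) (e₂ : P.ι.obj L₂ ≅ T₀.obj₂) (e₃ : P.ι.obj L₃ ≅ T₀.obj₃) :
    ∃ (i : L₁ ⟶ L₂) (p : L₂ ⟶ L₃) (δ : L₃ ⟶ L₁⟦(1 : ℤ)⟧),
      Triangle.mk i p δ ∈ distTriang P.FullSubcategory := by
  refine ⟨P.fullyFaithfulι.preimage (e₁.hom ≫ T₀.mor₁ ≫ e₂.inv),
    P.fullyFaithfulι.preimage (e₂.hom ≫ T₀.mor₂ ≫ e₃.inv),
    P.fullyFaithfulι.preimage (e₃.hom ≫ T₀.mor₃ ≫ e₁.inv⟦(1 : ℤ)⟧' ≫
      (P.ι.commShiftIso (1 : ℤ)).inv.app L₁), ?_⟩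
  change P.ι.mapTriangle.obj _ ∈ distTriang C₀
  refine isomorphic_distinguished _ hT₀ _ (Triangle.isoMk _ _ e₁ e₂ e₃ ?_ ?_ ?_)
  · simp
  · simp
  · simp [← Functor.map_comp]

/-- Vanishing of negative Hom's propagates to shifted objects. -/
lemma hom_eq_zero_of_shift {P Q : C₀} (hPQ : ∀ q : ℤ, q < 0 → ∀ f : P ⟶ Q⟦q⟧, f = 0)
    (m n : ℤ) (hmn : n < m) (f : P⟦m⟧ ⟶ Q⟦n⟧) : f = 0 := by
  apply (shiftFunctor C₀ (-m)).map_injective
  rw [Functor.map_zero]
  have := hPQ (n - m) (by omega)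
    ((shiftFunctorCompIsoId C₀ m (-m) (by omega)).inv.app P ≫ f⟦-m⟧' ≫
      (shiftFunctorAdd' C₀ n (-m) (n - m) (by omega)).inv.app Q)
  rw [← cancel_mono ((shiftFunctorAdd' C₀ n (-m) (n - m) (by omega)).inv.app Q),
    ← cancel_epi ((shiftFunctorCompIsoId C₀ m (-m) (by omega)).inv.app P), this]
  simp

end General

variable {A : Type u} [Category.{v} A] [Abelian A] [HasDerivedCategory.{w} A]
  {D : Type u'} [Category.{v'} D] [Preadditive D] [HasZeroObject D] [HasShift D ℤ]
  [∀ n : ℤ, (shiftFunctor D n).Additive] [Pretriangulated D]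

/-- The stalk functor in degree `b`. -/
noncomputable abbrev G (b : ℤ) : A ⥤ DerivedCategory.Bounded A :=
  DEquiv.singleB A ⋙ shiftFunctor (DerivedCategory.Bounded A) (-b)

instance : (DEquiv.singleB A).Full := by
  unfold DEquiv.singleB
  infer_instance

instance (b : ℤ) : (G (A := A) b).Full := inferInstanceAs
  (DEquiv.singleB A ⋙ shiftFunctor (DerivedCategory.Bounded A) (-b)).Full

variable (F F' : DerivedCategory.Bounded A ⥤ D) [F.CommShift ℤ] [F'.CommShift ℤ]

/-- The induced natural isomorphism on stalks in degree `b`. -/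
noncomputable def S (s : DEquiv.singleB A ⋙ F ≅ DEquiv.singleB A ⋙ F') (b : ℤ) :
    G b ⋙ F ≅ G b ⋙ F' :=
  Functor.associator _ _ _ ≪≫ Functor.isoWhiskerLeft _ (F.commShiftIso (-b)) ≪≫
    (Functor.associator _ _ _).symm ≪≫ Functor.isoWhiskerRight s _ ≪≫
    Functor.associator _ _ _ ≪≫ Functor.isoWhiskerLeft _ (F'.commShiftIso (-b)).symm ≪≫
    (Functor.associator _ _ _).symm

omit [F'.CommShift ℤ] in
lemma nonempty_iso_Gk (b : ℤ) (k : ℕ) (Z : A) (m : ℤ) (hm : m = k - b) :
    Nonempty (F.obj ((Gk (G b) k).obj Z) ≅ (F.obj ((DEquiv.singleB A).obj Z))⟦m⟧) := by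
  induction k generalizing m with
  | zero =>
    obtain rfl : m = -b := by simpa using hm
    exact ⟨(F.commShiftIso (-b)).app _⟩
  | succ k ih =>
    obtain ⟨e⟩ := ih (k - b) rfl
    exact ⟨(F.commShiftIso (1 : ℤ)).app _ ≪≫ (shiftFunctor D (1 : ℤ)).mapIso e ≪≫
      ((shiftFunctorAdd' D (k - b) 1 m (by push_cast at hm; omega)).app _).symm⟩

lemma stalkVanishing (s : DEquiv.singleB A ⋙ F ≅ DEquiv.singleB A ⋙ F')
    (h2 : ∀ (X Y : A) (q : ℤ), q < 0 →
      ∀ f : F.obj ((DEquiv.singleB A).obj X) ⟶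
        (shiftFunctor D q).obj (F.obj ((DEquiv.singleB A).obj Y)), f = 0) (b : ℤ) :
    StalkVanishing F F' (G b) := by
  intro k' j hj Z Y f
  obtain ⟨e₁⟩ := nonempty_iso_Gk F b k' Z (k' - b) rfl
  obtain ⟨e₂⟩ := nonempty_iso_Gk F' b j Y (j - b) rfl
  let e₃ : (F'.obj ((Gk (G b) j).obj Y))⟦(1 : ℤ)⟧ ≅
      (F.obj ((DEquiv.singleB A).obj Y))⟦(j : ℤ) - b + 1⟧ :=
    (shiftFunctor D (1 : ℤ)).mapIso (e₂ ≪≫ (shiftFunctor D ((j : ℤ) - b)).mapIso (s.symm.app Y)) ≪≫
      ((shiftFunctorAdd' D ((j : ℤ) - b) 1 ((j : ℤ) - b + 1) rfl).app _).symm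
  have := hom_eq_zero_of_shift (h2 Z Y) ((k' : ℤ) - b) ((j : ℤ) - b + 1) (by omega)
    (e₁.inv ≫ f ≫ e₃.hom)
  rwa [← cancel_epi e₁.inv, ← cancel_mono e₃.hom, Category.assoc, comp_zero, zero_comp]

/-- The underlying object of a stalk `G^k Y` in `D(A)` is a single complex. -/
lemma nonempty_iso_ι_Gk (b : ℤ) (k : ℕ) (Y : A) (n : ℤ) (hn : n = b - k) :
    Nonempty (DerivedCategory.Bounded.ι.obj ((Gk (G b) k).obj Y) ≅
      DerivedCategory.Q.obj ((HomologicalComplex.single A (ComplexShape.up ℤ) n).obj Y)) := by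
  induction k generalizing n with
  | zero =>
    have hn' : n = b := by simpa using hn
    exact ⟨(DerivedCategory.Bounded.ι.commShiftIso (-b)).app _ ≪≫
      ((DerivedCategory.singleFunctors A).shiftIso (-b) n 0 (by omega)).app Y⟩
  | succ k ih =>
    obtain ⟨e⟩ := ih (b - k) rfl
    exact ⟨(DerivedCategory.Bounded.ι.commShiftIso (1 : ℤ)).app _ ≪≫
      (shiftFunctor (DerivedCategory A) (1 : ℤ)).mapIso e ≪≫
      ((DerivedCategory.singleFunctors A).shiftIso 1 n (b - k) (by push_cast at hn; omega)).app Y⟩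

variable [F.IsTriangulated] [F'.IsTriangulated]

set_option backward.defeqAttrib.useBackward true in
set_option backward.isDefEq.respectTransparency false in
/-- Every bounded complex gives a good tower. -/
theorem tower (s : DEquiv.singleB A ⋙ F ≅ DEquiv.singleB A ⋙ F')
    (hV : ∀ b : ℤ, StalkVanishing F F' (G b)) (b : ℤ) :
    ∀ (k : ℕ) (E : CochainComplex A ℤ) (_ : E.IsStrictlyGE (b - k)) (_ : E.IsStrictlyLE b)
      (L : DerivedCategory.Bounded A) (_ : L.obj ≅ DerivedCategory.Q.obj E),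
      ∃ (X : A) (π : L ⟶ (Gk (G b) k).obj X), Good F F' (G b) (S F F' s b) k L X π := by
  intro k
  induction k with
  | zero =>
    intro E hGE hLE L e
    have : E.IsStrictlyGE b := by simpa using hGE
    obtain ⟨M, ⟨e'⟩⟩ := CochainComplex.exists_iso_single E b
    obtain ⟨e₃⟩ := nonempty_iso_ι_Gk (A := A) b 0 M b (by simp)
    let φ : DerivedCategory.Bounded.ι.obj L ≅
        DerivedCategory.Bounded.ι.obj ((Gk (G b) 0).obj M) :=
      e ≪≫ DerivedCategory.Q.mapIso e' ≪≫ e₃.symm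
    let ψ : L ≅ (Gk (G b) 0).obj M :=
      (DerivedCategory.TStructure.t.bounded.fullyFaithfulι).preimageIso φ
    exact ⟨M, ψ.hom, Good.base (G b) (S F F' s b) (hV b) L M ψ.hom⟩
  | succ k ih =>
    intro E hGE hLE L e
    set n : ℤ := b - ((k + 1 : ℕ) : ℤ) with hn
    let Y : A := E.X n
    let p : E ⟶ (HomologicalComplex.single A (ComplexShape.up ℤ) n).obj Y :=
      HomologicalComplex.mkHomToSingle (𝟙 _) (fun i (hi : i + 1 = n) =>
        (E.isZero_of_isStrictlyGE n i (by omega)).eq_of_src _ _)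
    have hpn : IsIso (p.f n) := by
      rw [HomologicalComplex.mkHomToSingle_f]
      infer_instance
    have hp : Epi p := by
      apply HomologicalComplex.epi_of_epi_f
      intro i
      by_cases hi : i = n
      · subst hi
        infer_instance
      · have hz : IsZero (((HomologicalComplex.single A (ComplexShape.up ℤ) n).obj Y).X i) :=
          HomologicalComplex.isZero_single_obj_X _ _ _ _ hi
        exact ⟨fun g h _ => hz.eq_of_src g h⟩
    let E' : CochainComplex A ℤ := kernel p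
    let ι' : E' ⟶ E := kernel.ι p
    have hιf : ∀ i, Mono (ι'.f i) := fun i => inferInstance
    have hE'GE : E'.IsStrictlyGE (b - k) := by
      rw [CochainComplex.isStrictlyGE_iff]
      intro i hi
      by_cases hin : i = n
      · subst hin
        have h0 : ι'.f n ≫ p.f n = 0 := by
          rw [← HomologicalComplex.comp_f, kernel.condition]
          rfl
        have h1 : ι'.f n = 0 := by
          rw [← cancel_mono (p.f n), h0, zero_comp]
        exact IsZero.of_mono_eq_zero _ h1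
      · exact IsZero.of_mono (ι'.f i) (E.isZero_of_isStrictlyGE n i (by push_cast at hn; omega))
    have hE'LE : E'.IsStrictlyLE b := by
      rw [CochainComplex.isStrictlyLE_iff]
      intro i hi
      exact IsZero.of_mono (ι'.f i) (E.isZero_of_isStrictlyLE b i hi)
    let S₀ : ShortComplex (CochainComplex A ℤ) := ShortComplex.mk ι' p (kernel.condition p)
    have hS₀ : S₀.ShortExact :=
      { exact := ShortComplex.exact_of_f_is_kernel _ (kernelIsKernel p)
        mono_f := inferInstanceAs (Mono (kernel.ι p))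
        epi_g := hp }
    have hT₀ := DerivedCategory.triangleOfSES_distinguished hS₀
    have hE'GE' : E'.IsGE (b - k) := inferInstance
    have hE'LE' : E'.IsLE b := inferInstance
    let L₀ : DerivedCategory.Bounded A :=
      ⟨DerivedCategory.Q.obj E', ⟨⟨b - k, inferInstance⟩, ⟨b, inferInstance⟩⟩⟩
    obtain ⟨X, π, hGood⟩ := ih E' hE'GE hE'LE L₀ (Iso.refl _)
    obtain ⟨e₃⟩ := nonempty_iso_ι_Gk (A := A) b (k + 1) Y n hn
    obtain ⟨i, q, δ, hT⟩ := exists_distTriang_of_iso DerivedCategory.TStructure.t.bounded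
      (DerivedCategory.triangleOfSES hS₀) hT₀ L₀ L ((Gk (G b) (k + 1)).obj Y)
      (Iso.refl _) e e₃
    exact ⟨Y, q, Good.step (G b) (S F F' s b) (hV b) hGood L Y i q δ hT⟩

/-- Objectwise isomorphism of sibling functors. -/
theorem nonempty_iso_of_sibling (s : DEquiv.singleB A ⋙ F ≅ DEquiv.singleB A ⋙ F')
    (h2 : ∀ (X Y : A) (q : ℤ), q < 0 →
      ∀ f : F.obj ((DEquiv.singleB A).obj X) ⟶
        (shiftFunctor D q).obj (F.obj ((DEquiv.singleB A).obj Y)), f = 0)
    (K : DerivedCategory.Bounded A) : Nonempty (F.obj K ≅ F'.obj K) := by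
  obtain ⟨⟨a, ha⟩, ⟨b, hb⟩⟩ := K.property
  have : K.obj.IsGE a := ha
  have : K.obj.IsLE b := hb
  obtain ⟨E, hGE, hLE, ⟨e⟩⟩ := DerivedCategory.exists_iso_Q_obj_of_isGE_of_isLE K.obj a b
  have hGE' : E.IsStrictlyGE (b - ((b - a).toNat : ℤ)) :=
    E.isStrictlyGE_of_ge _ a (by omega)
  obtain ⟨X, π, hGood⟩ := tower F F' s (fun b => stalkVanishing F F' s h2 b) b (b - a).toNat E
    hGE' hLE K e
  obtain ⟨φ, -⟩ := hGood.iso
  exact ⟨φ⟩

end Groth.Agent.Lib.Helper34.Sibling
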