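import Mathlib

/-!
# Towers of stalks and objectwise isomorphism of sibling functors

Abstract part of the "sibling functors" lemma: given triangulated functors `F F' : C ⥤ D`,
a full functor `G : 𝒜 ⥤ C`, a natural iso `S : G ⋙ F ≅ G ⋙ F'`, and a vanishing hypothesis,
every object `L` of `C` built as an iterated extension of `G^k X_k` (with `G^k = G ⋙ [1]^k`) has
`F L ≅ F' L`.
-/

set_option autoImplicit false
universe v₁ v₂ v₃ u₁ u₂ u₃
open CategoryTheory CategoryTheory.Limits CategoryTheory.Pretriangulated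

namespace Groth.Agent.Lib.Helper34.Sibling

variable {C : Type u₁} {D : Type u₂} {𝒜 : Type u₃} [Category.{v₁} C] [Category.{v₂} D]
  [Category.{v₃} 𝒜]
  [Preadditive C] [HasZeroObject C] [HasShift C ℤ] [∀ n : ℤ, (shiftFunctor C n).Additive]
  [Pretriangulated C]
  [Preadditive D] [HasZeroObject D] [HasShift D ℤ] [∀ n : ℤ, (shiftFunctor D n).Additive]
  [Pretriangulated D]

/-- `G` followed by `k` shifts by `1`. -/
def Gk (G : 𝒜 ⥤ C) : ℕ → (𝒜 ⥤ C)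
  | 0 => G
  | k + 1 => Gk G k ⋙ shiftFunctor C (1 : ℤ)

instance Gk_full (G : 𝒜 ⥤ C) [G.Full] : ∀ k, (Gk G k).Full
  | 0 => inferInstanceAs G.Full
  | k + 1 => by
    have := Gk_full G k
    exact inferInstanceAs (Gk G k ⋙ shiftFunctor C (1 : ℤ)).Full

variable (F F' : C ⥤ D) [F.CommShift ℤ] [F'.CommShift ℤ]

/-- The natural isomorphism induced on `G^k`. -/
noncomputable def Sk (G : 𝒜 ⥤ C) (S : G ⋙ F ≅ G ⋙ F') : ∀ k, Gk G k ⋙ F ≅ Gk G k ⋙ F'
  | 0 => S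
  | k + 1 =>
    Functor.associator _ _ _ ≪≫ Functor.isoWhiskerLeft _ (F.commShiftIso (1 : ℤ)) ≪≫
      (Functor.associator _ _ _).symm ≪≫ Functor.isoWhiskerRight (Sk G S k) _ ≪≫
      Functor.associator _ _ _ ≪≫ Functor.isoWhiskerLeft _ (F'.commShiftIso (1 : ℤ)).symm ≪≫
      (Functor.associator _ _ _).symm

set_option backward.defeqAttrib.useBackward true in
set_option backward.isDefEq.respectTransparency false in
lemma Sk_succ_hom_app (G : 𝒜 ⥤ C) (S : G ⋙ F ≅ G ⋙ F') (k : ℕ) (X : 𝒜) :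
    (Sk F F' G S (k + 1)).hom.app X =
      (F.commShiftIso (1 : ℤ)).hom.app ((Gk G k).obj X) ≫
        ((Sk F F' G S k).hom.app X)⟦(1 : ℤ)⟧' ≫
          (F'.commShiftIso (1 : ℤ)).inv.app ((Gk G k).obj X) := by
  simp [Sk]
  erw [Category.id_comp]

/-- The vanishing hypothesis on stalks. -/
def StalkVanishing (G : 𝒜 ⥤ C) : Prop :=
  ∀ (k' j : ℕ), j + 2 ≤ k' → ∀ (Z Y : 𝒜)
    (f : F.obj ((Gk G k').obj Z) ⟶ (F'.obj ((Gk G j).obj Y))⟦(1 : ℤ)⟧), f = 0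

/-- The inductive invariant. -/
structure Good (G : 𝒜 ⥤ C) (S : G ⋙ F ≅ G ⋙ F') (k : ℕ) (L : C) (X : 𝒜)
    (π : L ⟶ (Gk G k).obj X) : Prop where
  vanish : ∀ (k' : ℕ), k + 2 ≤ k' → ∀ (Z : 𝒜)
    (f : F.obj ((Gk G k').obj Z) ⟶ (F'.obj L)⟦(1 : ℤ)⟧), f = 0
  fact : ∀ (k' : ℕ), k + 1 ≤ k' → ∀ (Z : 𝒜)
    (Δ : F.obj ((Gk G k').obj Z) ⟶ (F'.obj L)⟦(1 : ℤ)⟧), Δ ≫ (F'.map π)⟦(1 : ℤ)⟧' = 0 → Δ = 0
  iso : ∃ φ : F.obj L ≅ F'.obj L, φ.hom ≫ F'.map π = F.map π ≫ (Sk F F' G S k).hom.app X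

variable {F F'}

lemma Good.base (G : 𝒜 ⥤ C) (S : G ⋙ F ≅ G ⋙ F') (hV : StalkVanishing F F' G)
    (L : C) (X : 𝒜) (π : L ⟶ (Gk G 0).obj X) [IsIso π] : Good F F' G S 0 L X π where
  vanish k' hk' Z f := by
    have := hV k' 0 (by omega) Z X (f ≫ (F'.map π)⟦(1 : ℤ)⟧')
    rwa [← cancel_mono ((F'.map π)⟦(1 : ℤ)⟧'), zero_comp]
  fact k' _ Z Δ hΔ := by
    rwa [← cancel_mono ((F'.map π)⟦(1 : ℤ)⟧'), zero_comp]
  iso := ⟨F.mapIso (asIso π) ≪≫ (Sk F F' G S 0).app X ≪≫ (F'.mapIso (asIso π)).symm, by simp⟩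

set_option backward.defeqAttrib.useBackward true in
set_option backward.isDefEq.respectTransparency false in
/-- Exactness of `Hom(W, -)` on a shifted distinguished triangle. -/
lemma exists_factor_shift {T : Triangle D} (hT : T ∈ distTriang D) {W : D}
    (f : W ⟶ T.obj₂⟦(1 : ℤ)⟧) (hf : f ≫ T.mor₂⟦(1 : ℤ)⟧' = 0) :
    ∃ g : W ⟶ T.obj₁⟦(1 : ℤ)⟧, f = g ≫ T.mor₁⟦(1 : ℤ)⟧' := by
  have h3 := rot_of_distTriang _ (rot_of_distTriang _ (rot_of_distTriang _ hT))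
  obtain ⟨g, hg⟩ := Triangle.coyoneda_exact₂ _ h3 f (by
    dsimp
    rw [Preadditive.comp_neg, hf, neg_zero])
  refine ⟨-g, ?_⟩
  rw [hg]
  dsimp
  rw [Preadditive.comp_neg, Preadditive.neg_comp]

variable [F.IsTriangulated] [F'.IsTriangulated]

set_option backward.defeqAttrib.useBackward true in
set_option backward.isDefEq.respectTransparency false in
lemma Good.step (G : 𝒜 ⥤ C) [G.Full] (S : G ⋙ F ≅ G ⋙ F') (hV : StalkVanishing F F' G)
    {k : ℕ} {L : C} {X : 𝒜} {π : L ⟶ (Gk G k).obj X} (h : Good F F' G S k L X π)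
    (L' : C) (Y : 𝒜) (i : L ⟶ L') (π' : L' ⟶ (Gk G (k + 1)).obj Y)
    (δ : (Gk G (k + 1)).obj Y ⟶ L⟦(1 : ℤ)⟧) (hT : Triangle.mk i π' δ ∈ distTriang C) :
    Good F F' G S (k + 1) L' Y π' := by
  have hT₁ := F.map_distinguished _ hT
  have hT₂ := F'.map_distinguished _ hT
  refine ⟨?_, ?_, ?_⟩
  · intro k' hk' Z f
    have h0 : f ≫ (F'.map π')⟦(1 : ℤ)⟧' = 0 := hV k' (k + 1) (by omega) Z Y _
    obtain ⟨g, rfl⟩ := exists_factor_shift hT₂ f h0
    rw [h.vanish k' (by omega) Z g, zero_comp]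
  · intro k' hk' Z Δ hΔ
    obtain ⟨g, rfl⟩ := exists_factor_shift hT₂ Δ hΔ
    rw [h.vanish k' (by omega) Z g, zero_comp]
  · obtain ⟨φ, hφ⟩ := h.iso
    have comm : (F.mapTriangle.obj (Triangle.mk i π' δ)).mor₃ ≫ φ.hom⟦(1 : ℤ)⟧' =
        (Sk F F' G S (k + 1)).hom.app Y ≫ (F'.mapTriangle.obj (Triangle.mk i π' δ)).mor₃ := by
      rw [← sub_eq_zero]
      apply h.fact (k + 1) le_rfl Y
      obtain ⟨d, hd⟩ := (Gk G (k + 1)).map_surjective (δ ≫ π⟦(1 : ℤ)⟧')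
      have nat := (Sk F F' G S (k + 1)).hom.naturality d
      dsimp at nat
      rw [hd, Sk_succ_hom_app] at nat
      dsimp
      rw [Preadditive.sub_comp, sub_eq_zero]
      simp only [Category.assoc]
      rw [← Functor.map_comp, hφ, Functor.map_comp, ← F.commShiftIso_hom_naturality_assoc,
        ← F'.commShiftIso_hom_naturality, ← Functor.map_comp_assoc, ← Functor.map_comp_assoc]
      have nat' := congrArg (fun m => m ≫ (F'.commShiftIso (1 : ℤ)).hom.app ((Gk G k).obj X)) nat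
      simp only [Category.assoc, Iso.inv_hom_id_app] at nat'
      erw [Category.comp_id] at nat'
      exact nat'
    obtain ⟨b, hb₁, hb₂⟩ := complete_distinguished_triangle_morphism₂ _ _ hT₁ hT₂ φ.hom
      ((Sk F F' G S (k + 1)).hom.app Y) comm
    let ψ : F.mapTriangle.obj (Triangle.mk i π' δ) ⟶ F'.mapTriangle.obj (Triangle.mk i π' δ) :=
      { hom₁ := φ.hom
        hom₂ := b
        hom₃ := (Sk F F' G S (k + 1)).hom.app Y
        comm₁ := hb₁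
        comm₂ := hb₂
        comm₃ := comm }
    have hb : IsIso b := isIso₂_of_isIso₁₃ ψ hT₁ hT₂ (inferInstanceAs (IsIso φ.hom))
      (inferInstanceAs (IsIso ((Sk F F' G S (k + 1)).hom.app Y)))
    exact ⟨asIso b, hb₂.symm⟩

end Groth.Agent.Lib.Helper34.Sibling
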