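import Groth.Agent.Lib.Helper34.CxRD
import Groth.Agent.Lib.Helper34.SiteExtRD
import Groth.Agent.Lib.Helper34.SSGrothFlex
import Groth.Agent.Lib.Cohomology.helper5_SiteCechH0
import Groth.Agent.Lib.Cohomology.helper5_SiteCechEv
import Groth.Agent.Lib.Cohomology.helper5_SiteCechInj
import Groth.Agent.Lib.Cohomology.helper5_SiteRpushSheafify

/-!
# The Čech-to-derived-functor spectral sequence on a small site

* abelian presheaves on a small category form a Grothendieck abelian category;
* `R^i(sheafToPresheaf) F ≅ ℋ^i(F)` (the presheaf `V ↦ H^i(V, F)`);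
* Čech cohomology `Ȟ^p(Y, -)` on presheaves is the `p`-th right derived functor of `Ȟ^0(Y, -)`;
* the spectral sequence `Ȟ^p(Y, ℋ^q(M)) ⇒ H^{p+q}(X, M)` for a covering family `Y` of `X`.
-/

set_option autoImplicit false
universe u
open CategoryTheory CategoryTheory.Limits Opposite

namespace Groth.Agent.Lib.Helper34.SiteCechSS

open Groth.Agent.Lib.Cohomology.ExtShift Groth.Agent.Lib.Cohomology.RDShift
open Groth.Agent.Lib.Cohomology.SiteRpushSh Groth.Agent.Lib.Cohomology.SiteCech

variable {C : Type u} [SmallCategory C]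

instance isGrothendieckAbelian_presheaf :
    IsGrothendieckAbelian.{u} (Cᵒᵖ ⥤ AddCommGrpCat.{u}) :=
  IsGrothendieckAbelian.of_equivalence (sheafBotEquivalence AddCommGrpCat.{u})

section RT

variable (J : GrothendieckTopology C)

/-- `R^{i+1}(sheafToPresheaf) F ≅ ℋ^{i+1}(F)`. -/
theorem nonempty_rightDerived_sheafToPresheaf_succ_iso (i : ℕ) :
    ∀ F : Sheaf J AddCommGrpCat.{u},
      Nonempty (((sheafToPresheaf J AddCommGrpCat.{u}).rightDerived (i + 1)).obj F ≅
        Sheaf.cohomologyPresheaf.{u} F (i + 1)) := by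
  induction i with
  | zero =>
    intro F
    have hS := injSES_shortExact F
    obtain ⟨π, w, hπ, hex⟩ :=
      exists_rightDerived_one_cokernel hS (sheafToPresheaf J AddCommGrpCat.{u})
    have := epi_apre J (𝟭 C) hS
    have hex' := preSC_exact J (𝟭 C) hS
    exact ⟨IsColimit.coconePointUniqueUpToIso hex.gIsCokernel hex'.gIsCokernel⟩
  | succ i ih =>
    intro F
    have hS := injSES_shortExact F
    obtain ⟨e1⟩ := rightDerived_shift hS (sheafToPresheaf J AddCommGrpCat.{u}) i
    obtain ⟨e2⟩ := ih (injSES F).X₃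
    have := isIso_δpre (𝟭 C) hS i
    exact ⟨e1 ≪≫ e2 ≪≫ asIso (δpre (𝟭 C) hS (i + 1))⟩

/-- `R^i(sheafToPresheaf) F ≅ ℋ^i(F)`. -/
theorem nonempty_rightDerived_sheafToPresheaf_iso (i : ℕ) (F : Sheaf J AddCommGrpCat.{u}) :
    Nonempty (((sheafToPresheaf J AddCommGrpCat.{u}).rightDerived i).obj F ≅
      Sheaf.cohomologyPresheaf.{u} F i) := by
  cases i with
  | zero =>
    exact ⟨(Functor.rightDerivedZeroIsoSelf (sheafToPresheaf J AddCommGrpCat.{u})).app F ≪≫
      preIso₀ J J (𝟭 C) F⟩
  | succ i => exact nonempty_rightDerived_sheafToPresheaf_succ_iso J i F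

end RT

section Cech

variable [HasPullbacks C] {X : C} {ι : Type u} (Y : ι → Over X)

instance additive_cechComplexFunctor :
    (cechComplexFunctor (A := AddCommGrpCat.{u}) Y).Additive where
  map_add {P P' f g} := by
    ext n : 1
    have key : ∀ i : Fin (n + 1) → ι,
        ((cechComplexFunctor Y).map (f + g)).f n ≫ proj P' Y n i =
          (((cechComplexFunctor Y).map f).f n + ((cechComplexFunctor Y).map g).f n) ≫
            proj P' Y n i := by
      intro i
      rw [map_proj, Preadditive.add_comp, map_proj, map_proj, NatTrans.app_add,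
        Preadditive.comp_add]
    exact Pi.hom_ext _ _ key

/-- The Čech complex functor on abelian presheaves on `C`, for a family over `X`. -/
noncomputable abbrev KY : (Cᵒᵖ ⥤ AddCommGrpCat.{u}) ⥤ CochainComplex AddCommGrpCat.{u} ℕ :=
  (Functor.whiskeringLeft _ _ AddCommGrpCat.{u}).obj (Over.forget X).op ⋙ cechComplexFunctor Y

lemma KY_shortExact (S : ShortComplex (Cᵒᵖ ⥤ AddCommGrpCat.{u})) (hS : S.ShortExact) :
    (S.map (KY Y)).ShortExact := by
  have hev : ∀ W : Cᵒᵖ, (S.map ((evaluation Cᵒᵖ AddCommGrpCat.{u}).obj W)).ShortExact :=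
    fun W => hS.map_of_exact _
  refine cechSC_shortExact Y
    (S.map ((Functor.whiskeringLeft _ _ AddCommGrpCat.{u}).obj (Over.forget X).op))
    (fun n i => ?_) (fun n i x hx => ?_) (fun n i => ?_)
  · exact (ShortComplex.ShortExact.ab_injective_f (hev (op (inter Y i).left)))
  · exact ((ShortComplex.ab_exact_iff _).1 (hev (op (inter Y i).left)).exact) x hx
  · exact (ShortComplex.ShortExact.ab_surjective_g (hev (op (inter Y i).left)))

lemma KY_acyclic (I : Cᵒᵖ ⥤ AddCommGrpCat.{u}) (hI : Injective I) (p : ℕ) :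
    IsZero (((KY Y).obj I).homology (p + 1)) :=
  isZero_cechH_of_injective_presheaf I Y p

/-- `Ȟ^0(Y, -)` as a functor on abelian presheaves. -/
noncomputable abbrev H0 : (Cᵒᵖ ⥤ AddCommGrpCat.{u}) ⥤ AddCommGrpCat.{u} := CxRD.G (KY Y)

instance : PreservesFiniteLimits (H0 Y) := CxRD.preservesFiniteLimits_G (KY Y) (KY_shortExact Y)

/-- Čech cohomology is the right derived functor of `Ȟ^0` on presheaves. -/
theorem nonempty_cechH_iso_rightDerived (P : Cᵒᵖ ⥤ AddCommGrpCat.{u}) (p : ℕ) :
    Nonempty (CohCx.cechH P Y p ≅ ((H0 Y).rightDerived p).obj P) :=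
  CxRD.nonempty_homology_iso_rightDerived (KY Y) (KY_shortExact Y) (KY_acyclic Y) p P

variable (J : GrothendieckTopology C)
  (hY : Sieve.ofArrows (fun i => (Y i).left) (fun i => (Y i).hom) ∈ J X)

/-- For a covering family, `Ȟ^0(Y, F) = F(X)` naturally in the sheaf `F`. -/
noncomputable def secIso :
    SiteExtRD.secF J X ≅ sheafToPresheaf J AddCommGrpCat.{u} ⋙ H0 Y :=
  NatIso.ofComponents (fun F => (sectionsEquivCechH0 Y F hY).toAddCommGrpIso) (by
    intro F G φ
    ext s
    exact (sectionsEquivCechH0_naturality Y hY φ s).symm)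

end Cech

end Groth.Agent.Lib.Helper34.SiteCechSS
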