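import Groth.Agent.Lib.Helper99.RestrKInj
import Groth.Agent.Lib.Helper99.KInjRes
import Groth.Agent.Lib.Helper99.Glue
import Groth.Agent.Lib.Helper6.RFAcyc
import Groth.Agent.Lib.Helper6.SerreDerived
import Groth.Agent.Lib.QCoh.Helper18_Stalk
import Groth.Agent.Lib.QCoh.Helper18_Ass
import Groth.Agent.Lib.QCoh.Helper18_Support
import Groth.Agent.Lib.Helper34.RDBdd
import Groth.Agent.S6508
import Groth.Agent.Lib.QCoh.Helper50_Pushforward

/-!
# Objects of `D(O_X)` supported on a closed subset contained in an open `U`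

`E ≅ Rj_*(E|_U)` when the cohomology sheaves of `E` are supported on a closed `T ⊆ U`, and
`j_! F ≅ Rj_* F` when those of `F ∈ D(O_U)` are.
-/

set_option autoImplicit false
universe u
open CategoryTheory CategoryTheory.Limits AlgebraicGeometry
attribute [local instance] HasDerivedCategory.standard

namespace Groth.Agent.Lib.Helper34.SuppPush

open Groth.Agent.Lib.QCoh

variable {X : Scheme.{u}}

/-- the support of a restriction -/
lemma notMem_support_restrict {Y : Scheme.{u}} (g : Y ⟶ X) [IsOpenImmersion g] (M : X.Modules)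
    (y : Y) (h : g y ∉ CohB1.support M) :
    y ∉ CohB1.support ((Scheme.Modules.restrictFunctor g).obj M) := by
  rw [notMem_support_iff] at h ⊢
  have e : ((Scheme.Modules.restrictFunctor g).obj M).presheaf.stalk y ≅
      M.presheaf.stalk (g y) := (Scheme.Modules.restrictStalkNatIso g y).app M
  exact (e.addCommGroupIsoToAddEquiv).subsingleton

/-- restriction along an open immersion whose image misses the support is zero -/
lemma isZero_restrict_of_support' {Y : Scheme.{u}} (g : Y ⟶ X) [IsOpenImmersion g]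
    (M : X.Modules) (h : ∀ y : Y, g y ∉ CohB1.support M) :
    IsZero ((Scheme.Modules.restrictFunctor g).obj M) := by
  apply isZero_of_forall_stalk_subsingleton
  intro y
  exact (notMem_support_iff _ _).1 (notMem_support_restrict g M y (h y))

/-- restriction to an open which misses the support is zero -/
lemma isZero_restrict_of_support (M : X.Modules) (W : X.Opens)
    (h : ∀ x : X, x ∈ W → x ∉ CohB1.support M) :
    IsZero ((Scheme.Modules.restrictFunctor W.ι).obj M) := by
  apply isZero_restrict_of_support'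
  intro y
  exact h _ (by
    have : W.ι y ∈ Set.range W.ι := ⟨y, rfl⟩
    simpa using this)

/-- a module is zero if its restrictions to two opens covering `X` are -/
lemma isZero_of_cover (U V : X.Opens) (hUV : U ⊔ V = ⊤) (M : X.Modules)
    (hU : IsZero ((Scheme.Modules.restrictFunctor U.ι).obj M))
    (hV : IsZero ((Scheme.Modules.restrictFunctor V.ι).obj M)) : IsZero M := by
  apply isZero_of_forall_stalk_subsingleton
  intro x
  have hx : x ∈ U ⊔ V := by rw [hUV]; trivial
  rcases hx with hx | hx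
  · exact stalk_subsingleton_of_isZero_restrict U hU x hx
  · exact stalk_subsingleton_of_isZero_restrict V hV x hx

/-- an object of `D(O_X)` whose cohomology sheaves are not supported on `W` restricts to zero. -/
lemma isZero_restrictD_of_support (W : X.Opens) (K : DCoh.D X)
    (h : ∀ (i : ℤ) (x : X), x ∈ W → x ∉ CohB1.support (DCoh.HD K i)) :
    IsZero ((DCoh.restrictD W.ι).obj K) := by
  apply Groth.Agent.Lib.Helper6.SerreDerived.isZero_of_homology
  intro n
  exact IsZero.of_iso (isZero_restrict_of_support _ W (h n))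
    (Groth.Agent.Lib.Helper6.SerreDerived.homologyMapIso
      (Scheme.Modules.restrictFunctor W.ι) K n)

/-- an object of `D(O_X)` is zero if its restrictions to two opens covering `X` are -/
lemma isZero_of_cover_D (U V : X.Opens) (hUV : U ⊔ V = ⊤) (K : DCoh.D X)
    (hU : IsZero ((DCoh.restrictD U.ι).obj K)) (hV : IsZero ((DCoh.restrictD V.ι).obj K)) :
    IsZero K := by
  apply Groth.Agent.Lib.Helper6.SerreDerived.isZero_of_homology
  intro n
  apply isZero_of_cover U V hUV
  · exact IsZero.of_iso ((DerivedCategory.homologyFunctor _ n).map_isZero hU)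
      (Groth.Agent.Lib.Helper6.SerreDerived.homologyMapIso
        (Scheme.Modules.restrictFunctor U.ι) K n).symm
  · exact IsZero.of_iso ((DerivedCategory.homologyFunctor _ n).map_isZero hV)
      (Groth.Agent.Lib.Helper6.SerreDerived.homologyMapIso
        (Scheme.Modules.restrictFunctor V.ι) K n).symm

/-- isomorphisms in `D(O_X)` are detected on a cover by two opens -/
lemma isIso_of_cover_D (U V : X.Opens) (hUV : U ⊔ V = ⊤) {K L : DCoh.D X} (φ : K ⟶ L)
    (hU : IsIso ((DCoh.restrictD U.ι).map φ)) (hV : IsIso ((DCoh.restrictD V.ι).map φ)) :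
    IsIso φ := by
  obtain ⟨C, g, h, hT⟩ := Pretriangulated.distinguished_cocone_triangle φ
  refine (Pretriangulated.Triangle.isZero₃_iff_isIso₁ _ hT).1 ?_
  apply isZero_of_cover_D U V hUV
  · have hT' := (DCoh.restrictD U.ι).map_distinguished _ hT
    exact (Pretriangulated.Triangle.isZero₃_iff_isIso₁ _ hT').2 hU
  · have hT' := (DCoh.restrictD V.ι).map_distinguished _ hT
    exact (Pretriangulated.Triangle.isZero₃_iff_isIso₁ _ hT').2 hV

/-- `Rf_*` of a zero object is zero. -/
lemma isZero_Rpush_obj {Y : Scheme.{u}} (f : X ⟶ Y) [DCoh.HasRpush f] {Z : DCoh.D X}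
    (hZ : IsZero Z) : IsZero ((DCoh.Rpush f).obj Z) := by
  obtain ⟨R', hs, β', htri, hder⟩ :=
    Groth.Agent.Lib.Helper34.RDBdd.exists_model (Scheme.Modules.pushforward f)
  let β := (DCoh.pushKh f).totalRightDerivedUnit DerivedCategory.Qh
    (HomotopyCategory.quasiIso X.Modules (ComplexShape.up ℤ))
  haveI hK : (DCoh.Rpush f).IsLeftKanExtension β :=
    Functor.IsRightDerivedFunctor.isLeftKanExtension _ _
      (HomotopyCategory.quasiIso X.Modules (ComplexShape.up ℤ))
  haveI hK' : R'.IsLeftKanExtension β' :=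
    Functor.IsRightDerivedFunctor.isLeftKanExtension _ _
      (HomotopyCategory.quasiIso X.Modules (ComplexShape.up ℤ))
  let e : R' ≅ DCoh.Rpush f := Functor.leftKanExtensionUnique R' β' (DCoh.Rpush f) β
  exact IsZero.of_iso (R'.map_isZero hZ) (e.app Z).symm

open DerivedCategory in
/-- **Part (1)**: `E ≅ Rj_*(E|_U)` if the cohomology sheaves of `E` are supported on a closed
subset `T ⊆ U`. -/
theorem iso_Rpush_restrict (U : X.Opens) [DCoh.HasRpush U.ι] (T : Set X) (hT : IsClosed T)
    (hTU : T ⊆ (U : Set X)) (E : DCoh.D X)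
    (hE : ∀ i : ℤ, CohB1.support (DCoh.HD E i) ⊆ T) :
    Nonempty (E ≅ (DCoh.Rpush U.ι).obj ((DCoh.restrictD U.ι).obj E)) := by
  classical
  let V : X.Opens := ⟨Tᶜ, hT.isOpen_compl⟩
  have hUV : U ⊔ V = ⊤ := by
    ext x
    simp only [TopologicalSpace.Opens.coe_sup, Set.mem_union, SetLike.mem_coe,
      TopologicalSpace.Opens.coe_top, Set.mem_univ, iff_true]
    by_cases hx : x ∈ T
    · exact Or.inl (hTU hx)
    · exact Or.inr hx
  -- a K-injective representative
  let K₀ := (Q (C := X.Modules)).objPreimage E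
  let e₀ : Q.obj K₀ ≅ E := (Q (C := X.Modules)).objObjPreimageIso E
  obtain ⟨I, s, hI, hs, -, -⟩ := Groth.Agent.Lib.Helper99.KInj.exists_kInjective_resolution K₀
  haveI := hI
  haveI := hs
  haveI : IsIso (Q.map s) := by
    rw [isIso_Q_map_iff_quasiIso]
    infer_instance
  let eI : Q.obj I ≅ E := (asIso (Q.map s)).symm ≪≫ e₀
  let IU := ((Scheme.Modules.restrictFunctor U.ι).mapHomologicalComplex (ComplexShape.up ℤ)).obj I
  haveI : CochainComplex.IsKInjective IU :=
    Groth.Agent.Lib.Helper99.RestrKInj.isKInjective_restrict U I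
  let G := ((Scheme.Modules.pushforward U.ι).mapHomologicalComplex (ComplexShape.up ℤ)).obj IU
  let β := (DCoh.pushKh U.ι).totalRightDerivedUnit DerivedCategory.Qh
    (HomotopyCategory.quasiIso (U : Scheme.{u}).Modules (ComplexShape.up ℤ))
  haveI := Groth.Agent.Lib.Helper6.RFAcyc.isIso_bC_of_isKInjective
    (Scheme.Modules.pushforward U.ι) (DCoh.Rpush U.ι) β IU
  let eG : Q.obj G ≅ (DCoh.Rpush U.ι).obj (Q.obj IU) :=
    asIso ((Groth.Agent.Lib.Helper6.RFAcyc.bC
      (Scheme.Modules.pushforward U.ι) (DCoh.Rpush U.ι) β).app IU)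
  let eR : (DCoh.restrictD U.ι).obj (Q.obj I) ≅ Q.obj IU :=
    (Scheme.Modules.restrictFunctor U.ι).mapDerivedCategoryFactors.app I
  -- the termwise unit
  let u : I ⟶ G :=
    { f := fun n => (Scheme.Modules.restrictAdjunction U.ι).unit.app (I.X n)
      comm' := fun i j _ => ((Scheme.Modules.restrictAdjunction U.ι).unit.naturality (I.d i j)).symm }
  suffices h : IsIso (Q.map u) by
    exact ⟨eI.symm ≪≫ asIso (Q.map u) ≪≫ eG ≪≫
      (DCoh.Rpush U.ι).mapIso (eR.symm ≪≫ (DCoh.restrictD U.ι).mapIso eI)⟩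
  -- the cohomology sheaves of `Q I` are not supported on `V`
  have hst : ∀ (i : ℤ) (x : X), x ∈ V → x ∉ CohB1.support (DCoh.HD (Q.obj I) i) := by
    intro i x hx
    rw [support_eq_of_iso ((homologyFunctor X.Modules i).mapIso eI)]
    exact fun h => hx (hE i h)
  apply isIso_of_cover_D U V hUV
  · -- on `U` the unit is a termwise isomorphism
    have hnat := (Scheme.Modules.restrictFunctor U.ι).mapDerivedCategoryFactors_hom_naturality u
    haveI : ∀ n, IsIso ((((Scheme.Modules.restrictFunctor U.ι).mapHomologicalComplex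
        (ComplexShape.up ℤ)).map u).f n) := by
      intro n
      change IsIso ((Scheme.Modules.restrictFunctor U.ι).map
        ((Scheme.Modules.restrictAdjunction U.ι).unit.app (I.X n)))
      have h1 := (Scheme.Modules.restrictAdjunction U.ι).left_triangle_components (I.X n)
      exact IsIso.of_isIso_fac_right h1
    haveI : IsIso (((Scheme.Modules.restrictFunctor U.ι).mapHomologicalComplex
        (ComplexShape.up ℤ)).map u) := HomologicalComplex.Hom.isIso_of_components _
    have h2 : IsIso ((DCoh.restrictD U.ι).map (Q.map u) ≫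
        (Scheme.Modules.restrictFunctor U.ι).mapDerivedCategoryFactors.hom.app G) := by
      rw [hnat]
      infer_instance
    exact IsIso.of_isIso_comp_right _
      ((Scheme.Modules.restrictFunctor U.ι).mapDerivedCategoryFactors.hom.app G)
  · -- on `V` both sides vanish
    have h1 : IsZero ((DCoh.restrictD V.ι).obj (Q.obj I)) :=
      isZero_restrictD_of_support V _ hst
    have h2 : IsZero ((DCoh.restrictD V.ι).obj (Q.obj G)) := by
      haveI : DCoh.HasRpush (U.ι ∣_ V) := Groth.Agent.Lib.Helper99.Glue.hasRpush _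
      obtain ⟨e⟩ := Groth.Agent.S6508.result U.ι V
      have hZ : IsZero ((DCoh.restrictD (U.ι ⁻¹ᵁ V).ι).obj (Q.obj IU)) := by
        apply isZero_restrictD_of_support
        intro i y hy
        rw [support_eq_of_iso ((homologyFunctor _ i).mapIso eR.symm ≪≫
          Groth.Agent.Lib.Helper6.SerreDerived.homologyMapIso
            (Scheme.Modules.restrictFunctor U.ι) (Q.obj I) i)]
        exact notMem_support_restrict U.ι _ y (hst i _ hy)
      exact IsZero.of_iso (isZero_Rpush_obj (U.ι ∣_ V) hZ)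
        ((DCoh.restrictD V.ι).mapIso eG ≪≫ e.app (Q.obj IU))
    exact ⟨⟨0, h1.eq_of_src _ _, h2.eq_of_src _ _⟩⟩

section ExtZero

variable (U : X.Opens)

/-- the unit of `j_! ⊣ j^*` is an isomorphism (`j_*` is fully faithful). -/
lemma isIso_extZeroAdj_unit : IsIso (CxOX.extZeroAdj U.ι).unit := by
  let t : Adjunction.Triple (CxOX.extZero U.ι) (Scheme.Modules.restrictFunctor U.ι)
      (Scheme.Modules.pushforward U.ι) :=
    ⟨CxOX.extZeroAdj U.ι, Scheme.Modules.restrictAdjunction U.ι⟩
  exact t.isIso_unit_iff_isIso_counit.2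
    (inferInstanceAs (IsIso (Scheme.Modules.restrictAdjunction U.ι).counit))

/-- `j_! M` vanishes on an open `V` if `M` is not supported over `V`. -/
lemma isZero_restrict_extZero (M : (U : Scheme.{u}).Modules) (V : X.Opens)
    (hM : ∀ y : (U : Scheme.{u}), U.ι y ∈ V → y ∉ CohB1.support M) :
    IsZero ((Scheme.Modules.restrictFunctor V.ι).obj ((CxOX.extZero U.ι).obj M)) := by
  have hg : IsZero ((Scheme.Modules.restrictFunctor (V.ι ∣_ U)).obj M) := by
    apply isZero_restrict_of_support' (V.ι ∣_ U) M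
    intro y
    apply hM
    have h1 : U.ι ((V.ι ∣_ U) y) = V.ι ((V.ι ⁻¹ᵁ U).ι y) :=
      congrArg (fun f : ((V.ι ⁻¹ᵁ U : (V : Scheme.{u}).Opens) : Scheme.{u}) ⟶ X => f y)
        (morphismRestrict_ι V.ι U)
    rw [h1]
    have h2 : V.ι ((V.ι ⁻¹ᵁ U).ι y) ∈ Set.range V.ι := ⟨(V.ι ⁻¹ᵁ U).ι y, rfl⟩
    simpa using h2
  have h1 : ∀ B, Subsingleton (M ⟶ (Scheme.Modules.pushforward (V.ι ∣_ U)).obj B) := fun B =>
    haveI : Subsingleton ((Scheme.Modules.restrictFunctor (V.ι ∣_ U)).obj M ⟶ B) :=
      ⟨fun a b => hg.eq_of_src a b⟩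
    ((Scheme.Modules.restrictAdjunction (V.ι ∣_ U)).homEquiv M B).symm.subsingleton
  set A := (Scheme.Modules.restrictFunctor V.ι).obj ((CxOX.extZero U.ι).obj M) with hA
  have h2 : Subsingleton (M ⟶ (Scheme.Modules.restrictFunctor U.ι).obj
      ((Scheme.Modules.pushforward V.ι).obj A)) := by
    let e := (Groth.Agent.Lib.QCoh.pushforwardRestrictIso V.ι U).app A
    haveI : Subsingleton (M ⟶ (Scheme.Modules.restrictFunctor (V.ι ⁻¹ᵁ U).ι ⋙
        Scheme.Modules.pushforward (V.ι ∣_ U)).obj A) :=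
      h1 ((Scheme.Modules.restrictFunctor (V.ι ⁻¹ᵁ U).ι).obj A)
    exact ⟨fun a b => by
      rw [← cancel_mono e.hom]
      exact Subsingleton.elim _ _⟩
  have h3 : Subsingleton ((CxOX.extZero U.ι).obj M ⟶ (Scheme.Modules.pushforward V.ι).obj A) :=
    haveI := h2
    ((CxOX.extZeroAdj U.ι).homEquiv M _).subsingleton
  have h4 : Subsingleton (A ⟶ A) :=
    haveI := h3
    ((Scheme.Modules.restrictAdjunction V.ι).homEquiv ((CxOX.extZero U.ι).obj M) A).subsingleton
  rw [IsZero.iff_id_eq_zero]
  exact Subsingleton.elim _ _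

open DerivedCategory in
/-- **Part (2)**: `j_! F ≅ Rj_* F` if the cohomology sheaves of `F` are supported on a subset
`T ⊆ U` closed in `X`. -/
theorem extZeroD_iso_Rpush [DCoh.HasRpush U.ι] [PreservesFiniteLimits (CxOX.extZero U.ι)]
    (T : Set X) (hT : IsClosed T) (hTU : T ⊆ (U : Set X)) (F : DCoh.D (U : Scheme.{u}))
    (hF : ∀ i : ℤ, (fun x : (U : Scheme.{u}) => U.ι x) '' CohB1.support (DCoh.HD F i) ⊆ T) :
    Nonempty ((CxOX.extZeroD U.ι).obj F ≅ (DCoh.Rpush U.ι).obj F) := by
  have hb : Nonempty ((DCoh.restrictD U.ι).obj ((CxOX.extZeroD U.ι).obj F) ≅ F) := by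
    let K₀ := (Q (C := (U : Scheme.{u}).Modules)).objPreimage F
    let e₀ : Q.obj K₀ ≅ F := (Q (C := (U : Scheme.{u}).Modules)).objObjPreimageIso F
    haveI := isIso_extZeroAdj_unit U
    haveI : ∀ M : (U : Scheme.{u}).Modules, IsIso ((CxOX.extZeroAdj U.ι).unit.app M) :=
      fun M => NatIso.isIso_app_of_isIso (CxOX.extZeroAdj U.ι).unit M
    let ciso : ∀ n : ℤ, (𝟭 _).obj (K₀.X n) ≅
        (CxOX.extZero U.ι ⋙ Scheme.Modules.restrictFunctor U.ι).obj (K₀.X n) :=
      fun n => asIso ((CxOX.extZeroAdj U.ι).unit.app (K₀.X n))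
    let c : K₀ ≅ ((Scheme.Modules.restrictFunctor U.ι).mapHomologicalComplex
        (ComplexShape.up ℤ)).obj (((CxOX.extZero U.ι).mapHomologicalComplex
          (ComplexShape.up ℤ)).obj K₀) :=
      HomologicalComplex.Hom.isoOfComponents
        (fun n => ciso n)
        (fun i j _ => ((CxOX.extZeroAdj U.ι).unit.naturality (K₀.d i j)).symm)
    exact ⟨(DCoh.restrictD U.ι).mapIso ((CxOX.extZeroD U.ι).mapIso e₀.symm ≪≫
        (CxOX.extZero U.ι).mapDerivedCategoryFactors.app K₀) ≪≫
      (Scheme.Modules.restrictFunctor U.ι).mapDerivedCategoryFactors.app _ ≪≫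
      Q.mapIso c.symm ≪≫ e₀⟩
  obtain ⟨eb⟩ := hb
  have ha : ∀ i, CohB1.support (DCoh.HD ((CxOX.extZeroD U.ι).obj F) i) ⊆ T := by
    intro i x hx
    by_contra hxT
    let V : X.Opens := ⟨Tᶜ, hT.isOpen_compl⟩
    have hxV : x ∈ V := hxT
    have hz : IsZero ((Scheme.Modules.restrictFunctor V.ι).obj
        ((CxOX.extZero U.ι).obj (DCoh.HD F i))) := by
      apply isZero_restrict_extZero
      intro y hy hys
      exact hy (hF i ⟨y, hys, rfl⟩)
    have h1 := stalk_subsingleton_of_isZero_restrict V hz x hxV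
    rw [support_eq_of_iso (Groth.Agent.Lib.Helper6.SerreDerived.homologyMapIso
      (CxOX.extZero U.ι) F i)] at hx
    exact hx h1
  obtain ⟨e1⟩ := iso_Rpush_restrict U T hT hTU _ ha
  exact ⟨e1 ≪≫ (DCoh.Rpush U.ι).mapIso eb⟩

end ExtZero

end Groth.Agent.Lib.Helper34.SuppPush
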