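import Groth.Agent.Lib.QCoh.Helper50_SpecMap
import Groth.Agent.Lib.Helper6.RFAcyc

/-!
# `(Spec φ)_* (N~) ≅ (N_R)~` naturally, and the derived version (helper34)
-/

set_option autoImplicit false
universe u
open CategoryTheory CategoryTheory.Limits AlgebraicGeometry Opposite TopologicalSpace

namespace Groth.Agent.Lib.Helper34.TildePush

open Groth.Agent.Lib.QCoh

variable {R S : CommRingCat.{u}} (φ : R ⟶ S)

/-- Pushforward along `Spec φ` of `N~` is `(N_R)~`, naturally in `N`. -/
noncomputable def tildePushforwardNatIso :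
    tilde.functor S ⋙ Scheme.Modules.pushforward (Spec.map φ) ≅
      ModuleCat.restrictScalars φ.hom ⋙ tilde.functor R := by
  let F := tilde.functor S ⋙ Scheme.Modules.pushforward (Spec.map φ)
  haveI h : IsIso (Functor.whiskerLeft F (Scheme.Modules.fromTildeΓNatTrans (R := R))) := by
    rw [NatTrans.isIso_iff_isIso_app]
    intro N
    have : ((Scheme.Modules.pushforward (Spec.map φ)).obj (tilde N)).IsQuasicoherent :=
      isQuasicoherent_pushforward_Spec φ _
    exact inferInstanceAs
      (IsIso ((Scheme.Modules.pushforward (Spec.map φ)).obj (tilde N)).fromTildeΓ)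
  exact F.rightUnitor.symm ≪≫
    (asIso (Functor.whiskerLeft F (Scheme.Modules.fromTildeΓNatTrans (R := R)))).symm ≪≫
    (show F ⋙ (moduleSpecΓFunctor (R := R) ⋙ tilde.functor R) ≅
      tilde.functor S ⋙ ((Scheme.Modules.pushforward (Spec.map φ) ⋙ moduleSpecΓFunctor (R := R)) ⋙
        tilde.functor R) from Iso.refl _) ≪≫
    Functor.isoWhiskerLeft (tilde.functor S)
      (Functor.isoWhiskerRight (pushforwardSpecΓIso φ) (tilde.functor R)) ≪≫
    (show tilde.functor S ⋙ ((moduleSpecΓFunctor (R := S) ⋙ ModuleCat.restrictScalars φ.hom) ⋙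
        tilde.functor R) ≅
      (tilde.functor S ⋙ moduleSpecΓFunctor (R := S)) ⋙ (ModuleCat.restrictScalars φ.hom ⋙
        tilde.functor R) from Iso.refl _) ≪≫
    Functor.isoWhiskerRight (tilde.toTildeΓNatIso (R := S)).symm
      (ModuleCat.restrictScalars φ.hom ⋙ tilde.functor R) ≪≫
    Functor.leftUnitor _

end Groth.Agent.Lib.Helper34.TildePush
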