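import Groth.Agent.Lib.Helper34.TildePush
import Groth.Agent.S7245

/-!
# `Rf_* (M~) ≅ (M_A)~` on derived categories, `f = Spec φ` (helper34)
-/

set_option autoImplicit false
universe u
open CategoryTheory CategoryTheory.Limits AlgebraicGeometry Opposite TopologicalSpace

namespace Groth.Agent.Lib.Helper34.TildePush

open Groth.Agent.Lib.QCoh Groth.Agent.Lib.Helper6.RFAcyc DerivedCategory

attribute [local instance] HasDerivedCategory.standard

variable {R S : CommRingCat.{u}} (φ : R ⟶ S)

theorem nonempty_iso [PreservesFiniteLimits (tilde.functor R)]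
    [PreservesFiniteLimits (tilde.functor S)] [DCoh.HasRpush (Spec.map φ)] :
    Nonempty ((tilde.functor S).mapDerivedCategory ⋙ DCoh.Rpush (Spec.map φ) ≅
      (ModuleCat.restrictScalars φ.hom).mapDerivedCategory ⋙
        (tilde.functor R).mapDerivedCategory) := by
  let TS := tilde.functor S
  let TR := tilde.functor R
  let res := ModuleCat.restrictScalars φ.hom
  let push := Scheme.Modules.pushforward (Spec.map φ)
  let Rf := DCoh.Rpush (Spec.map φ)
  let β := (DCoh.pushKh (Spec.map φ)).totalRightDerivedUnit DerivedCategory.Qh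
      (HomotopyCategory.quasiIso (Spec S).Modules (ComplexShape.up ℤ))
  have hR : Rf.IsRightDerivedFunctor β
    (HomotopyCategory.quasiIso (Spec S).Modules (ComplexShape.up ℤ)) := inferInstance
  let b := bC push Rf β
  haveI hb : IsIso (Functor.whiskerLeft (TS.mapHomologicalComplex (ComplexShape.up ℤ)) b) := by
    rw [NatTrans.isIso_iff_isIso_app]
    intro K
    change IsIso (b.app ((TS.mapHomologicalComplex (ComplexShape.up ℤ)).obj K))
    rw [isIso_bC_iff]
    exact Groth.Agent.S7245.result (Spec.map φ) _ (fun n => by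
      change Coh.IsQCoh ((tilde.functor S).obj (K.X n))
      infer_instance)
  haveI hadd : (ModuleCat.restrictScalars φ.hom ⋙ tilde.functor R).Additive := inferInstance
  let mid : TS.mapHomologicalComplex (ComplexShape.up ℤ) ⋙
      push.mapHomologicalComplex (ComplexShape.up ℤ) ≅
      res.mapHomologicalComplex (ComplexShape.up ℤ) ⋙
        TR.mapHomologicalComplex (ComplexShape.up ℤ) :=
    Functor.mapHomologicalComplexCompIso (tildePushforwardNatIso φ) (ComplexShape.up ℤ) ≪≫
      (Functor.mapHomologicalComplexCompIso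
        (Iso.refl (ModuleCat.restrictScalars φ.hom ⋙ tilde.functor R)) (ComplexShape.up ℤ)).symm
  let e : Q ⋙ (TS.mapDerivedCategory ⋙ Rf) ≅ Q ⋙ (res.mapDerivedCategory ⋙ TR.mapDerivedCategory) :=
    (Functor.associator Q TS.mapDerivedCategory Rf).symm ≪≫
    Functor.isoWhiskerRight TS.mapDerivedCategoryFactors Rf ≪≫
    Functor.associator _ _ _ ≪≫
    (asIso (Functor.whiskerLeft (TS.mapHomologicalComplex (ComplexShape.up ℤ)) b)).symm ≪≫
    (Functor.associator _ _ _).symm ≪≫
    Functor.isoWhiskerRight mid Q ≪≫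
    Functor.associator _ _ _ ≪≫
    Functor.isoWhiskerLeft (res.mapHomologicalComplex (ComplexShape.up ℤ))
      TR.mapDerivedCategoryFactors.symm ≪≫
    (Functor.associator _ _ _).symm ≪≫
    Functor.isoWhiskerRight res.mapDerivedCategoryFactors.symm TR.mapDerivedCategory ≪≫
    Functor.associator _ _ _
  exact ⟨Localization.liftNatIso Q (HomologicalComplex.quasiIso (ModuleCat.{u} S) (ComplexShape.up ℤ))
    (Q ⋙ (TS.mapDerivedCategory ⋙ Rf)) (Q ⋙ (res.mapDerivedCategory ⋙ TR.mapDerivedCategory))
    _ _ e⟩

end Groth.Agent.Lib.Helper34.TildePush
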